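import Cfsg.Agent.H876.D3.FourFive
import Cfsg.Agent.Lib.FinFast
import Cfsg.Agent.H905.MdR
import Cfsg.Agent.Prune
set_option linter.all false

section
prune_inst 0x7ffff9f8fbbffddfdfff7e7ffed9dffc3b915fffefdff94bbfe2a9ef2f9f339209ed6fad0de0b0fe1ec3601410b87853fb7eeeffe06fd87ffffdbff41ffbee4ff5f7350851948c340fbc0ff703f0778e7f3fffffffffffffffffffffffffffbeffbfffffffff

-- part: H991/D3/Vec
section
set_option linter.all false
open scoped Cfsg.Agent.FastGrp

-- part: H991/D3/Schur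
section
/-!
# Schur complements and ranks of kernels

`schur` : if `κ (f i) (g j)` is the identity matrix, the rank of `κ` is at least `|α|` plus the rank of the Schur
complement.
-/

set_option autoImplicit false

namespace Cfsg.Agent.H991.D3

open Cfsg.Agent.H876.D3

section

variable {k : Type*} [Field k] {X Y X' Y' : Type*} [Fintype X] [Fintype Y] [Fintype X'] [Fintype Y']

theorem bl_sub_right (κ : X → Y → k) (P : X → k) (Q Q' : Y → k) :
    bl κ P (fun y => Q y - Q' y) = bl κ P Q - bl κ P Q' := by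
  unfold bl
  rw [← Finset.sum_sub_distrib]
  refine Finset.sum_congr rfl fun x _ => ?_
  rw [← Finset.sum_sub_distrib]
  exact Finset.sum_congr rfl fun y _ => by ring

/-- **Schur complements** -/
theorem schur {κ : X → Y → k} {α : Type*} [Fintype α] [DecidableEq α] (f : α → X) (g : α → Y)
    (h : ∀ i j, κ (f i) (g j) = if i = j then 1 else 0) (f' : X' → X) (g' : Y' → Y) {n : ℕ}
    (hn : Rk (fun x y => κ (f' x) (g' y) - ∑ i, κ (f' x) (g i) * κ (f i) (g' y)) n) :
    Rk κ (Fintype.card α + n) := by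
  classical
  obtain ⟨P', Q', e⟩ := hn
  let R : Y' → Y → k := fun y' y => (Pi.single (g' y') 1 : Y → k) y - ∑ i, κ (f i) (g' y') * (Pi.single (g i) 1 : Y → k) y
  have hR : ∀ (x : X) (y' : Y'), bl κ (Pi.single x 1 : X → k) (R y') = κ x (g' y') - ∑ i, κ x (g i) * κ (f i) (g' y') := by
    intro x y'
    rw [bl_sub_right, bl_single, one_mul, mul_one, bl_sum_right]
    congr 1
    exact Finset.sum_congr rfl fun i _ => by rw [bl_single, one_mul, mul_one, mul_comm]
  have key := Rk.add_of (κ := κ) (α := α) (β := Fin n) (P := fun i => (Pi.single (f i) 1 : X → k))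
    (Q := fun j => (Pi.single (g j) 1 : Y → k))
    (P' := fun a x => ∑ x', P' a x' * (Pi.single (f' x') 1 : X → k) x)
    (Q' := fun b y => ∑ y', Q' b y' * R y' y) (fun i j => by rw [bl_single, one_mul, mul_one, h])
    (fun a b => by
      rw [← e a b, bl_sum_left]
      have h1 : ∀ x', bl κ (Pi.single (f' x') 1 : X → k) (fun y => ∑ y', Q' b y' * R y' y) =
          ∑ y', Q' b y' * (κ (f' x') (g' y') - ∑ i, κ (f' x') (g i) * κ (f i) (g' y')) := fun x' => by
        rw [bl_sum_right]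
        exact Finset.sum_congr rfl fun y' _ => by rw [hR]
      simp only [h1]
      simp only [bl, Finset.mul_sum]
      exact Finset.sum_congr rfl fun x _ => Finset.sum_congr rfl fun y _ => by ring)
    (fun i b => by
      rw [bl_sum_right]
      refine Finset.sum_eq_zero fun y' _ => ?_
      rw [hR]
      have h2 : ∑ i', κ (f i) (g i') * κ (f i') (g' y') = κ (f i) (g' y') := by
        rw [Finset.sum_eq_single i]
        · rw [h, if_pos rfl, one_mul]
        · intro i' _ hi'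
          rw [h, if_neg (Ne.symm hi'), zero_mul]
        · intro h3; exact absurd (Finset.mem_univ _) h3
      rw [h2, sub_self, mul_zero])
  rwa [Fintype.card_fin] at key

/-- a diagonal kernel -/
theorem rk_diag {β : Type*} [Fintype β] [DecidableEq β] {κ : β → β → k} {c : β → k} (hc : ∀ b, c b ≠ 0)
    (h : ∀ a b, κ a b = if a = b then c a else 0) : Rk κ (Fintype.card β) := by
  refine Rk.mk (fun i => Pi.single i 1) (fun j => Pi.single j (c j)⁻¹) fun i j => ?_
  rw [bl_single, one_mul, h]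
  by_cases hij : i = j
  · subst hij
    rw [if_pos rfl, if_pos rfl, mul_inv_cancel₀ (hc i)]
  · rw [if_neg hij, if_neg hij, zero_mul]

end

end Cfsg.Agent.H991.D3
end

-- part: H991/D3/Vec
section
/-!
# Families of vectors over some hyperbolic pairs

* `vec W τ C d = ∑ C (a, s) • b (τ a, s) + d`; `herm_vec`;
* `le_finrank_of` : lower bounds for the kernel with a single node from families of vectors at the positions `ι`.
-/

set_option autoImplicit false

namespace Cfsg.Agent.H991.D3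

open Cfsg Cfsg.Geo Matrix Cfsg.Agent.H876.D3
open LieClassical.HermBasic LieClassical.HermSiegel Cfsg.Agent.TitsThree.KSideU Cfsg.Agent.TitsThree.KSideUDesc
  Cfsg.Agent.TitsThree.WBridge Cfsg.Agent.TitsThree.SiegelGen Cfsg.Agent.TitsThree.Siegel
  Cfsg.Agent.TitsThree.WittFrame

variable {K : Type} [Field K] [Fintype K] {N q m : ℕ} {hK : Fintype.card K = q ^ 2} (W : WFrame (PU hK N) m)
  {l s : ℕ}

/-- the vector with the coordinates `C` on the pairs `τ` -/
def vec (τ : Fin l → Fin m) (C : Fin l × Bool → K) (d : Fin N → K) : Fin N → K :=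
  ∑ y : Fin l × Bool, C y • (toFrame W).b (τ y.1, y.2) + d

variable {W}

theorem hb_all (x y : Fin m × Bool) :
    hermForm N K q ((toFrame W).b x) ((toFrame W).b y) = if x.1 = y.1 ∧ y.2 = !x.2 then 1 else 0 := by
  obtain ⟨a, u⟩ := x
  obtain ⟨b, v⟩ := y
  by_cases h : v = !u
  · subst h
    rw [hb_pair]
    simp
  · have h1 : v = u := by cases u <;> cases v <;> simp_all
    subst h1
    rw [hb_iso]
    simp

theorem hb_V0 (x : Fin m × Bool) {d : Fin N → K} (hd : d ∈ W.V0) : hermForm N K q ((toFrame W).b x) d = 0 := by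
  obtain ⟨a, u⟩ := x
  cases u
  · exact W.fV0 a hd
  · exact W.eV0 a hd

theorem V0_hb (x : Fin m × Bool) {d : Fin N → K} (hd : d ∈ W.V0) : hermForm N K q d ((toFrame W).b x) = 0 := by
  obtain ⟨a, u⟩ := x
  cases u
  · exact W.V0f d hd a
  · exact W.V0e d hd a

theorem hb_vec {τ : Fin l → Fin m} {C : Fin l × Bool → K} {d : Fin N → K} (hd : d ∈ W.V0) {a : Fin m}
    (ha : a ∉ Set.range τ) (c : Bool) : hermForm N K q ((toFrame W).b (a, c)) (vec W τ C d) = 0 := by
  unfold vec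
  rw [herm_add_right hK, herm_sum_right hK, hb_V0 _ hd, add_zero]
  refine Finset.sum_eq_zero fun y _ => ?_
  rw [herm_smul_right, hb_all, if_neg, mul_zero]
  rintro ⟨h, -⟩
  exact ha ⟨y.1, h.symm⟩

/-- **the form in coordinates** -/
theorem herm_vec {τ : Fin l → Fin m} (hτ : Function.Injective τ) {C D : Fin l × Bool → K} {d d' : Fin N → K}
    (hd : d ∈ W.V0) (hd' : d' ∈ W.V0) : hermForm N K q (vec W τ C d) (vec W τ D d') =
      ∑ y : Fin l × Bool, C y * D (y.1, !y.2) ^ q + hermForm N K q d d' := by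
  have h1 : ∀ y : Fin l × Bool, hermForm N K q ((toFrame W).b (τ y.1, y.2)) (vec W τ D d') = D (y.1, !y.2) ^ q := by
    intro y
    unfold vec
    rw [herm_add_right hK, herm_sum_right hK, hb_V0 _ hd', add_zero, Finset.sum_eq_single (y.1, !y.2)]
    · rw [herm_smul_right, hb_all]
      simp
    · rintro ⟨a, c⟩ _ hne
      rw [herm_smul_right, hb_all, if_neg, mul_zero]
      rintro ⟨h, h2⟩
      apply hne
      rw [Prod.mk.injEq]
      exact ⟨(hτ h).symm, h2⟩
    · intro h; exact absurd (Finset.mem_univ _) h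
  have h2 : hermForm N K q d (vec W τ D d') = hermForm N K q d d' := by
    unfold vec
    rw [herm_add_right hK, herm_sum_right hK]
    have h3 : ∑ y : Fin l × Bool, hermForm N K q d (D y • (toFrame W).b (τ y.1, y.2)) = 0 :=
      Finset.sum_eq_zero fun y _ => by rw [herm_smul_right, V0_hb _ hd, mul_zero]
    rw [h3, zero_add]
  conv_lhs => rw [vec]
  rw [herm_add_left, herm_sum_left, h2]
  congr 1
  exact Finset.sum_congr rfl fun y _ => by rw [herm_smul_left, h1]

/-- families in coordinates are admissible -/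
theorem loc_vec {τ : Fin l → Fin m} (hτ : Function.Injective τ) {ι : Fin s → Fin m} {r : ℕ}
    (hιτ : ∀ a : Fin m, (a : ℕ) < r → a ∉ Set.range ι → a ∉ Set.range τ) {C : Fin s → Fin l × Bool → K}
    {d : Fin s → Fin N → K} (hd : ∀ t, d t ∈ W.V0)
    (hiso : ∀ t t', ∑ y : Fin l × Bool, C t y * C t' (y.1, !y.2) ^ q + hermForm N K q (d t) (d t') = 0)
    (D : Fin s → Fin l × Bool → K)
    (hdet : (Matrix.of fun t t' => ∑ y : Fin l × Bool, C t y * D t' (y.1, !y.2) ^ q).det ≠ 0) :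
    Loc W r ι (fun t => vec W τ (C t) (d t)) where
  perp t a ha ha' c := hb_vec (hd t) (hιτ a ha ha') c
  iso t t' := by rw [herm_vec hτ (hd t) (hd t'), hiso]
  wit := by
    refine ⟨fun t => vec W τ (D t) 0, fun t a ha ha' c => hb_vec W.V0.zero_mem (hιτ a ha ha') c, ?_⟩
    convert hdet using 3
    ext t t'
    rw [herm_vec hτ (hd t) W.V0.zero_mem, herm_zero_right hK, add_zero]

/-- the column with the integral dual coordinates `B` -/
def col (τ : Fin l → Fin m) (B : Fin s → Fin l × Bool → ℤ) (t : Fin s) : Fin N → K :=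
  vec W τ (fun y => (B t (y.1, !y.2) : K)) 0

/-- the row with the integral coordinates `A` -/
def row (τ : Fin l → Fin m) (A : Fin s → Fin l × Bool → ℤ) (t : Fin s) : Fin N → K :=
  vec W τ (fun y => (A t y : K)) 0

theorem int_pow_q (hK : Fintype.card K = q ^ 2) (n : ℤ) : (n : K) ^ q = n := by
  have h := map_intCast (conj hK) n
  rwa [conj_apply] at h

theorem herm_col {τ : Fin l → Fin m} (hτ : Function.Injective τ) {C : Fin l × Bool → K} {d : Fin N → K}
    (hd : d ∈ W.V0) (B : Fin s → Fin l × Bool → ℤ) (t : Fin s) :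
    hermForm N K q (vec W τ C d) (col (W := W) τ B t) = ∑ y : Fin l × Bool, C y * (B t y : K) := by
  unfold col
  rw [herm_vec hτ hd W.V0.zero_mem, herm_zero_right hK, add_zero]
  refine Finset.sum_congr rfl fun y _ => ?_
  rw [int_pow_q hK, Bool.not_not]

theorem gram_int (K : Type) [Field K] (A B : Fin s → Fin l × Bool → ℤ) :
    (Matrix.of fun t t' => ∑ y, (A t y : K) * (B t' y : K)).det =
      (((Matrix.of fun t t' => ∑ y, A t y * B t' y).det : ℤ) : K) := by
  rw [Int.cast_det]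
  congr 1
  ext t t'
  rw [Matrix.of_apply, Matrix.map_apply, Matrix.of_apply]
  push_cast
  rfl

def ngE (l : ℕ) : (Fin l × Bool) ≃ (Fin l × Bool) := ⟨fun y => (y.1, !y.2), fun y => (y.1, !y.2),
  fun y => by simp, fun y => by simp⟩

theorem loc_row {τ : Fin l → Fin m} (hτ : Function.Injective τ) {ι : Fin s → Fin m} {r : ℕ}
    (hιτ : ∀ a : Fin m, (a : ℕ) < r → a ∉ Set.range ι → a ∉ Set.range τ) {A : Fin s → Fin l × Bool → ℤ}
    (hA : ∀ t t', ∑ y : Fin l × Bool, A t y * A t' (y.1, !y.2) = 0) {B : Fin s → Fin l × Bool → ℤ}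
    (hB : (Matrix.of fun t t' => ∑ y, A t y * B t' y).det = 1) : Loc W r ι (row (W := W) τ A) := by
  refine loc_vec hτ hιτ (fun _ => W.V0.zero_mem) (fun t t' => ?_) (fun t y => (B t (y.1, !y.2) : K)) ?_
  · rw [herm_zero_right hK, add_zero]
    have h1 := congrArg (Int.cast : ℤ → K) (hA t t')
    push_cast at h1
    rw [← h1]
    exact Finset.sum_congr rfl fun y _ => by rw [int_pow_q hK]
  · have h1 := gram_int K A B
    rw [hB, Int.cast_one] at h1
    have h2 : (Matrix.of fun t t' => ∑ y : Fin l × Bool, (A t y : K) * ((B t' ((y.1, !y.2).1, !(y.1, !y.2).2) : ℤ) : K) ^ q).det = 1 := by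
      rw [← h1]
      congr 2
      ext t t'
      exact Finset.sum_congr rfl fun y _ => by rw [int_pow_q hK, Bool.not_not]
    rw [h2]
    exact one_ne_zero

theorem loc_col {τ : Fin l → Fin m} (hτ : Function.Injective τ) {ι : Fin s → Fin m} {r : ℕ}
    (hιτ : ∀ a : Fin m, (a : ℕ) < r → a ∉ Set.range ι → a ∉ Set.range τ) {B : Fin s → Fin l × Bool → ℤ}
    (hB : ∀ t t', ∑ y : Fin l × Bool, B t y * B t' (y.1, !y.2) = 0) {A : Fin s → Fin l × Bool → ℤ}
    (hA : (Matrix.of fun t t' => ∑ y, A t y * B t' y).det = 1) : Loc W r ι (col (W := W) τ B) := by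
  have h := loc_row (W := W) hτ hιτ (A := fun t y => B t (y.1, !y.2)) (B := fun t y => A t (y.1, !y.2))
    (fun t t' => by
      rw [← hB t t', ← Equiv.sum_comp (ngE l)]
      exact Finset.sum_congr rfl fun y _ => by simp [ngE]) (by
      rw [← hA, ← Matrix.det_transpose]
      congr 1
      ext t t'
      rw [Matrix.transpose_apply, Matrix.of_apply, Matrix.of_apply, ← Equiv.sum_comp (ngE l)]
      exact Finset.sum_congr rfl fun y _ => by simp [ngE, mul_comm])
  exact h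

section Ker

variable {k : Type*} [Field k] {V : Type*} [AddCommGroup V] [Module k V] [FiniteDimensional k V]
  {r : ℕ} {j : K →+* k} {θ : Fin m → ℕ} {vv : (Fin m → Fin N → K) → V}
  {ff : (Fin m → Fin N → K) → Module.Dual k V}

/-- lower bounds for the kernel with a single node -/
theorem le_finrank_of (h : IsKer q r j θ vv ff) {i : Fin m} (hri : r = i + 1) (hθ : ∀ i', i' ≠ i → θ i' = 0)
    {ι : Fin s → Fin m} (hι : Function.Injective ι) (hr : ∀ t, (ι t : ℕ) < r) {X Y : Type*} [Fintype X] [Fintype Y]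
    {x : X → Fin s → Fin N → K} {y : Y → Fin s → Fin N → K} (hx : ∀ a, Loc W r ι (x a)) (hy : ∀ b, Loc W r ι (y b))
    {n : ℕ} (hn : Rk (fun a b => j (Matrix.of fun t t' => hermForm N K q (x a t) (y b t')).det ^ θ i) n) :
    n ≤ Module.finrank k V := by
  refine h.le_finrank (f := fun a => upd W.e ι (x a)) (g := fun b => upd W.f ι (y b))
    (fun a => pfr_upd hι hr (hx a) true) (fun b => pfr_upd hι hr (hy b) false) (fun a b => ?_) hn
  rw [Finset.prod_eq_single i]
  · rw [Gr_upd hι (hy b).perp (κ := id) Function.injective_id (i := i) (by omega)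
      (fun t => by rw [Fin.le_iff_val_le_val]; have := hr t; simp only [id]; omega) (fun t ht => absurd ⟨t, rfl⟩ ht)]
    rfl
  · intro i' _ hi'
    rw [hθ i' hi', pow_zero]
  · intro h1; exact absurd (Finset.mem_univ _) h1

end Ker

/-- the parameter of the isotropic line -/
theorem exists_param (hK : Fintype.card K = q ^ 2) {k : Type*} [Field k] (j : K →+* k) :
    ∃ w : K, w * w ^ q = 1 ∧ ∀ θ : ℕ, θ ≠ 0 → j ((1 + w) * (1 + w) ^ q) ^ θ - 2 ≠ 0 := by
  by_cases h2 : (2 : K) = 0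
  · have h2k : (2 : k) = 0 := by
      have := congrArg j h2
      rwa [map_ofNat, map_zero] at this
    have h3 := card_norm_eq_one hK
    have h4 : 2 ≤ q := two_le hK
    obtain ⟨⟨w, hw⟩, hne⟩ : ∃ w : {x : K // x * x ^ q = 1}, w ≠ ⟨1, by simp⟩ := by
      by_contra hcon
      push Not at hcon
      have : Subsingleton {x : K // x * x ^ q = 1} := ⟨fun a b => (hcon a).trans (hcon b).symm⟩
      have h5 := Finite.card_le_one_iff_subsingleton.2 this
      omega
    refine ⟨w, hw, fun θ hθ => ?_⟩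
    rw [h2k, sub_zero]
    refine pow_ne_zero _ ((map_ne_zero j).2 ?_)
    rw [Ne, norm_eq_zero hK]
    intro h5
    apply hne
    apply Subtype.ext
    show w = 1
    have h6 : w = -1 := by linear_combination h5
    rw [h6]
    linear_combination -h2
  · refine ⟨-1, ?_, fun θ hθ => ?_⟩
    · rw [neg_pow_q hK, one_pow]; ring
    · rw [add_neg_cancel, zero_mul, map_zero, zero_pow hθ, zero_sub, neg_ne_zero]
      intro h3
      apply h2
      apply j.injective
      rw [map_ofNat, map_zero, h3]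

end Cfsg.Agent.H991.D3
end

private theorem dce_f88eb07cd133 : _root_.True := by
  try have : _root_.True := by simp only [_root_.Cfsg.Agent.H991.D3.vec.eq_1]
  try have : _root_.True := by simp only [_root_.Cfsg.Agent.H991.D3.ngE.eq_1]
  exact _root_.True.intro
end

-- part: H876/D3/Main
section
prune_inst 0x204000000000000000001002000044280000000000000080200102000000400000000004001000080a800000000000000000800000000000000000000300000000020400000000000080000000000000000000000000000000000000000004000000000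
set_option linter.all false
open scoped Cfsg.Agent.FastGrp

-- part: H887/D3/Vec
section
/-!
# The kernels `h(x, y)^θ` on isotropic vectors (helper887)

Tools for the node `0` of `SU_N(q)`: scalars with `z^q ≠ z`, `ε^q = -ε`, the families of vectors
`x₀ e₀ + x₁ f₀ + x₂ e₁ + x₃ f₁ + x₄ d`.
-/

set_option autoImplicit false
set_option linter.unusedSectionVars false

namespace Cfsg.Agent.H887.D3

open Cfsg Cfsg.Geo Matrix Cfsg.Agent.H876.D3
open LieClassical.HermBasic LieClassical.HermSiegel Cfsg.Agent.TitsThree.KSideU Cfsg.Agent.TitsThree.KSideUDesc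
  Cfsg.Agent.TitsThree.WBridge Cfsg.Agent.TitsThree.SiegelGen Cfsg.Agent.TitsThree.Siegel Cfsg.Agent.H61.SUCross
  Cfsg.Agent.TitsThree.WittFrame
open Cfsg.Agent.Phan (fixedField mem_fixedField card_fixedField)

variable {K : Type} [Field K] [Fintype K] {N q m : ℕ}

section scalars

variable (hK : Fintype.card K = q ^ 2)
include hK

theorem ex_ne : ∃ z : K, z ^ q ≠ z := by
  by_contra hno
  push Not at hno
  have h1 : fixedField hK = ⊤ := by
    rw [eq_top_iff]
    intro z _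
    exact (mem_fixedField hK z).2 (hno z)
  have h2 := card_fixedField hK
  rw [h1] at h2
  have h3 : Nat.card (⊤ : Subfield K) = Nat.card K := Nat.card_congr Subfield.topEquiv.toEquiv
  rw [h3, Nat.card_eq_fintype_card, hK] at h2
  have h4 : 2 ≤ q := two_le_q hK
  nlinarith only [h2, h4]

theorem ex_tr : ∃ z : K, z + z ^ q ≠ 0 := by
  obtain ⟨z, hz⟩ := ex_ne hK
  by_cases h2 : (1 : K) + 1 = 0
  · refine ⟨z, fun h => hz ?_⟩
    have h3 : z + z = 0 := by
      have : z + z = (1 + 1) * z := by ring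
      rw [this, h2, zero_mul]
    have h4 : z ^ q = - z := by rw [add_comm] at h; exact eq_neg_of_add_eq_zero_left h
    rw [h4]
    exact (eq_neg_of_add_eq_zero_left h3).symm
  · exact ⟨1, by rw [one_pow]; exact h2⟩

theorem ex_eps : ∃ ε : K, ε ≠ 0 ∧ ε ^ q = -ε := by
  obtain ⟨z, hz⟩ := ex_ne hK
  refine ⟨z - z ^ q, fun h => hz (sub_eq_zero.1 h).symm, ?_⟩
  rw [sub_pow_q hK, pow_q_pow_q hK]
  ring

end scalars

variable {hK : Fintype.card K = q ^ 2}

theorem Gr_zero (hm : 0 < m) (u u' : Fin m → Fin N → K) :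
    Gr q ⟨0, hm⟩ u u' = hermForm N K q (u ⟨0, hm⟩) (u' ⟨0, hm⟩) := by
  unfold Gr
  have : Unique {a : Fin m // a ≤ ⟨0, hm⟩} :=
    { default := ⟨⟨0, hm⟩, le_refl _⟩
      uniq := fun a => Subtype.ext (Fin.ext (Nat.le_zero.1 a.2)) }
  rw [Matrix.det_unique, Matrix.of_apply]
  have h : (default : {a : Fin m // a ≤ ⟨0, hm⟩}) = ⟨⟨0, hm⟩, le_refl _⟩ := Subsingleton.elim _ _
  rw [h]

theorem prod_eq {k : Type*} [Field k] (j : K →+* k) (hm : 0 < m) {θ : Fin m → ℕ}
    (h0 : ∀ i : Fin m, (i : ℕ) ≠ 0 → θ i = 0) (u u' : Fin m → Fin N → K) :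
    ∏ i, j (Gr q i u u') ^ θ i = j (hermForm N K q (u ⟨0, hm⟩) (u' ⟨0, hm⟩)) ^ θ ⟨0, hm⟩ := by
  rw [Finset.prod_eq_single ⟨0, hm⟩, Gr_zero]
  · intro i _ hi
    rw [h0 i (fun h => hi (Fin.ext h)), pow_zero]
  · intro h
    exact absurd (Finset.mem_univ _) h

theorem pfr_one (hm : 0 < m) {v : Fin N → K} (hv : hermForm N K q v v = 0) (h0 : v ≠ 0) :
    PFr (m := m) q 1 (fun _ => v) := by
  refine ⟨fun _ _ _ _ => hv, ?_⟩
  have : Subsingleton {a : Fin m // (a : ℕ) < 1} := ⟨fun a b => Subtype.ext (Fin.ext (by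
    have := a.2; have := b.2; omega))⟩
  exact LinearIndependent.of_subsingleton' (⟨⟨0, hm⟩, Nat.zero_lt_one⟩ : {a : Fin m // (a : ℕ) < 1})
    (fun c hc => (smul_eq_zero.1 hc).resolve_right h0)

/-- coordinates -/
noncomputable def vec (W : WFrame (PU hK N) m) (hm : 2 ≤ m) (d : Fin N → K) (x : Fin 5 → K) :
    Fin N → K :=
  x 0 • W.e ⟨0, by omega⟩ + x 1 • W.f ⟨0, by omega⟩ + x 2 • W.e ⟨1, by omega⟩ +
    x 3 • W.f ⟨1, by omega⟩ + x 4 • d

/-- the form in coordinates -/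
def hf (q : ℕ) (η : K) (x y : Fin 5 → K) : K :=
  x 0 * y 1 ^ q + x 1 * y 0 ^ q + x 2 * y 3 ^ q + x 3 * y 2 ^ q + η * (x 4 * y 4 ^ q)

/-- `d` is orthogonal to `e₀, f₀, e₁, f₁` -/
structure Orth (W : WFrame (PU hK N) m) (d : Fin N → K) : Prop where
  de : ∀ i : Fin m, (i : ℕ) < 2 → hermForm N K q d (W.e i) = 0
  df : ∀ i : Fin m, (i : ℕ) < 2 → hermForm N K q d (W.f i) = 0

theorem orth_zero (W : WFrame (PU hK N) m) : Orth W 0 :=
  ⟨fun _ _ => herm_zero_left _, fun _ _ => herm_zero_left _⟩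

theorem herm_vec (W : WFrame (PU hK N) m) (hm : 2 ≤ m) {d : Fin N → K} (hd : Orth W d)
    (x y : Fin 5 → K) :
    hermForm N K q (vec W hm d x) (vec W hm d y) = hf q (hermForm N K q d d) x y := by
  have de0 := hd.de ⟨0, by omega⟩ (by norm_num)
  have de1 := hd.de ⟨1, by omega⟩ (by norm_num)
  have df0 := hd.df ⟨0, by omega⟩ (by norm_num)
  have df1 := hd.df ⟨1, by omega⟩ (by norm_num)
  have ed0 : hermForm N K q (W.e ⟨0, by omega⟩) d = 0 := by rw [herm_swap hK d, de0, zero_pow_q hK]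
  have ed1 : hermForm N K q (W.e ⟨1, by omega⟩) d = 0 := by rw [herm_swap hK d, de1, zero_pow_q hK]
  have fd0 : hermForm N K q (W.f ⟨0, by omega⟩) d = 0 := by rw [herm_swap hK d, df0, zero_pow_q hK]
  have fd1 : hermForm N K q (W.f ⟨1, by omega⟩) d = 0 := by rw [herm_swap hK d, df1, zero_pow_q hK]
  unfold vec hf
  simp only [herm_add_left, herm_add_right hK, herm_smul_left, herm_smul_right, h_ee, h_ff, h_ef, h_fe,
    de0, de1, df0, df1, ed0, ed1, fd0, fd1, Fin.mk.injEq, zero_ne_one, one_ne_zero, if_true, if_false, mul_zero,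
    add_zero, zero_add, mul_one]
  ring

theorem hf_nondeg (hK : Fintype.card K = q ^ 2) {η : K} {x : Fin 5 → K} (h : ∀ y, hf q η x y = 0)
    (h4 : x 4 = 0 ∨ η ≠ 0) : x = 0 := by
  have z := zero_pow_q (F := K) hK
  have e0 := h (Pi.single 1 1)
  have e1 := h (Pi.single 0 1)
  have e2 := h (Pi.single 3 1)
  have e3 := h (Pi.single 2 1)
  have e4 := h (Pi.single 4 1)
  simp only [hf, Fin.isValue, Pi.single_eq_same, one_pow, mul_one, ne_eq, zero_ne_one, not_false_eq_true,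
      Pi.single_eq_of_ne, z, mul_zero, add_zero, Fin.reduceEq, one_ne_zero, zero_add, mul_eq_zero] at e0 e1 e2 e3 e4
  have e4' : x 4 = 0 := by
    rcases h4 with h4 | h4
    · exact h4
    · exact e4.resolve_left h4
  funext i
  fin_cases i <;> assumption

theorem vec_ne (W : WFrame (PU hK N) m) (hm : 2 ≤ m) {d : Fin N → K} (hd : Orth W d)
    {x : Fin 5 → K} (h4 : x 4 = 0 ∨ hermForm N K q d d ≠ 0) (hx : x ≠ 0) : vec W hm d x ≠ 0 := by
  intro h
  apply hx
  apply hf_nondeg hK (η := hermForm N K q d d) _ h4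
  intro y
  rw [← herm_vec W hm hd, h, herm_zero_left]

/-- a nonisotropic vector orthogonal to `e₀, f₀, e₁, f₁` -/
theorem ex_d (W : WFrame (PU hK N) m) (hm : 2 ≤ m) (hN : 5 ≤ N) : ∃ d : Fin N → K,
    hermForm N K q d d ≠ 0 ∧ Orth W d := by
  by_cases h3 : 3 ≤ m
  · obtain ⟨z, hz⟩ := ex_tr hK
    have hi : ∀ i : Fin m, (i : ℕ) < 2 → (⟨2, h3⟩ : Fin m) ≠ i := by
      rintro i hi rfl
      exact absurd hi (by norm_num)
    refine ⟨W.e ⟨2, h3⟩ + z • W.f ⟨2, h3⟩, ?_, fun i h => ?_, fun i h => ?_⟩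
    · simp only [herm_add_left, herm_add_right hK, herm_smul_left, herm_smul_right, h_ee, h_ff, h_ef, h_fe]
      simp only [if_true, mul_zero, mul_one, add_zero, zero_add]
      exact hz
    · rw [herm_add_left, herm_smul_left, h_ee, h_fe, if_neg (hi i h), mul_zero, add_zero]
    · rw [herm_add_left, herm_smul_left, h_ff, h_ef, if_neg (hi i h), mul_zero, add_zero]
  · have hm2 : m = 2 := by omega
    obtain ⟨w, hw, hw0⟩ : ∃ w ∈ W.V0, w ≠ 0 := by
      by_contra hno
      push Not at hno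
      let Φ : ((Fin m → K) × (Fin m → K)) →ₗ[K] (Fin N → K) :=
        LinearMap.coprod (Fintype.linearCombination K W.e) (Fintype.linearCombination K W.f)
      have hΦ : Function.Surjective Φ := by
        intro v
        obtain ⟨a, b, w, hw, hv⟩ := W.span v
        refine ⟨(a, b), ?_⟩
        rw [hv, hno w hw, add_zero]
        rfl
      have h5 := LinearMap.finrank_le_finrank_of_surjective hΦ
      rw [Module.finrank_fintype_fun_eq_card, Fintype.card_fin, Module.finrank_prod,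
        Module.finrank_fintype_fun_eq_card, Fintype.card_fin] at h5
      omega
    refine ⟨w, fun h => hw0 (W.aniso w hw ((sing_iff hK).2 h)), fun i _ => W.V0e w hw i,
      fun i _ => W.V0f w hw i⟩

end Cfsg.Agent.H887.D3
end

-- part: H887/D3/NodeTwo
section
/-!
# `SU_N(q)`, node `0`, weight `2 p^a` (helper887)

`node0_two`: the kernel `j (h x y)^(2 p^a)` on isotropic vectors (`p ≠ 2`) has rank `10` for `N = 4`
and at least `13` (in fact `15`) for `N ≥ 5`.
-/

set_option autoImplicit false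
set_option linter.unusedSectionVars false

namespace Cfsg.Agent.H887.D3

open Cfsg Cfsg.Geo Matrix Cfsg.Agent.H876.D3
open LieClassical.HermBasic LieClassical.HermSiegel Cfsg.Agent.TitsThree.KSideU Cfsg.Agent.TitsThree.KSideUDesc
  Cfsg.Agent.TitsThree.WBridge Cfsg.Agent.TitsThree.SiegelGen Cfsg.Agent.TitsThree.Siegel Cfsg.Agent.H61.SUCross
  Cfsg.Agent.TitsThree.WittFrame

variable {K : Type} [Field K] [Fintype K] {N q m : ℕ} {k : Type*} [Field k]

/-- quadratic relations on the isotropic vectors -/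
def Q2 (j : K →+* k) (s : Fin 5 → Fin 5 → k) (x : Fin 5 → K) : k :=
  ∑ a, ∑ b, s a b * (j (x a) * j (x b))

theorem rel4 (hK : Fintype.card K = q ^ 2) (j : K →+* k) {η : K} {s : Fin 5 → Fin 5 → k}
    (h : ∀ x : Fin 5 → K, x ≠ 0 → x 4 = 0 → hf q η x x = 0 → Q2 j s x = 0) :
    (∀ a : Fin 5, a ≠ 4 → s a a = 0) ∧ ∀ a b : Fin 5, a ≠ 4 → b ≠ 4 → s a b + s b a = 0 := by
  have z := zero_pow_q (F := K) hK
  obtain ⟨ε, hε0, hε⟩ := ex_eps hK
  have hj : j ε ≠ 0 := (map_ne_zero j).2 hε0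
  have d0 := h ![1, 0, 0, 0, 0] (by simp) (by simp) (by simp [hf, z])
  have d1 := h ![0, 1, 0, 0, 0] (by simp) (by simp) (by simp [hf, z])
  have d2 := h ![0, 0, 1, 0, 0] (by simp) (by simp) (by simp [hf, z])
  have d3 := h ![0, 0, 0, 1, 0] (by simp) (by simp) (by simp [hf, z])
  have e01 := h ![1, ε, 0, 0, 0] (by simp) (by simp) (by simp [hf, z, hε])
  have e02 := h ![1, 0, 1, 0, 0] (by simp) (by simp) (by simp [hf, z])
  have e03 := h ![1, 0, 0, 1, 0] (by simp) (by simp) (by simp [hf, z])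
  have e12 := h ![0, 1, 1, 0, 0] (by simp) (by simp) (by simp [hf, z])
  have e13 := h ![0, 1, 0, 1, 0] (by simp) (by simp) (by simp [hf, z])
  have e23 := h ![0, 0, 1, ε, 0] (by simp) (by simp) (by simp [hf, z, hε])
  simp only [Q2, Fin.sum_univ_succ, Fin.isValue, cons_val_zero, map_one, mul_one, cons_val_succ, Fin.succ_zero_eq_one,
      map_zero, mul_zero, Fin.succ_one_eq_two, Fin.reduceSucc, Finset.univ_unique, Fin.default_eq_zero, cons_val_fin_one,
      Finset.sum_const_zero, add_zero, zero_add, one_mul, zero_mul] at d0 d1 d2 d3 e01 e02 e03 e12 e13 e23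
  rw [d0, d1] at e01
  rw [d0, d2] at e02
  rw [d0, d3] at e03
  rw [d1, d2] at e12
  rw [d1, d3] at e13
  rw [d2, d3] at e23
  have f01 : s 0 1 + s 1 0 = 0 := by
    have : (s 0 1 + s 1 0) * j ε = 0 := by linear_combination e01
    exact (mul_eq_zero.1 this).resolve_right hj
  have f23 : s 2 3 + s 3 2 = 0 := by
    have : (s 2 3 + s 3 2) * j ε = 0 := by linear_combination e23
    exact (mul_eq_zero.1 this).resolve_right hj
  have f02 : s 0 2 + s 2 0 = 0 := by linear_combination e02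
  have f03 : s 0 3 + s 3 0 = 0 := by linear_combination e03
  have f12 : s 1 2 + s 2 1 = 0 := by linear_combination e12
  have f13 : s 1 3 + s 3 1 = 0 := by linear_combination e13
  constructor
  · intro a ha
    fin_cases a
    · exact d0
    · exact d1
    · exact d2
    · exact d3
    · exact absurd rfl ha
  · have key : ∀ a b : Fin 5, a < b → b ≠ 4 → s a b + s b a = 0 := by
      intro a b hab hb
      fin_cases a <;> fin_cases b <;>
        first
        | exact f01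
        | exact f02
        | exact f03
        | exact f12
        | exact f13
        | exact f23
        | exact absurd rfl hb
        | exact absurd hab (by decide)
    intro a b ha hb
    rcases lt_trichotomy a b with hab | hab | hab
    · exact key a b hab hb
    · subst hab
      have : s a a = 0 := by
        fin_cases a
        · exact d0
        · exact d1
        · exact d2
        · exact d3
        · exact absurd rfl ha
      rw [this, add_zero]
    · rw [add_comm]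
      exact key b a hab ha

theorem rel5 (hK : Fintype.card K = q ^ 2) (h2 : (2 : K) ≠ 0) (j : K →+* k) {η : K} (hη : η ≠ 0)
    (hηq : η ^ q = η) {s : Fin 5 → Fin 5 → k}
    (h : ∀ x : Fin 5 → K, x ≠ 0 → hf q η x x = 0 → Q2 j s x = 0) :
    (∀ a : Fin 5, s a a = 0) ∧ ∀ a b : Fin 5, s a b + s b a = 0 := by
  have z := zero_pow_q (F := K) hK
  obtain ⟨r1, r2⟩ := rel4 hK j (fun x hx _ hxx => h x hx hxx)
  obtain ⟨ε, hε0, hε⟩ := ex_eps hK
  have hj : j ε ≠ 0 := (map_ne_zero j).2 hε0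
  have h2k : (2 : k) ≠ 0 := by
    have := (map_ne_zero j).2 h2
    rwa [map_ofNat] at this
  obtain ⟨μ, hμ, hμq⟩ : ∃ μ : K, 2 * μ = -η ∧ μ ^ q = μ := by
    refine ⟨-η / 2, by field_simp, ?_⟩
    have h2q : (2 : K) ^ q = 2 := by
      rw [← one_add_one_eq_two, add_pow_q hK, one_pow]
    rw [div_pow, neg_pow_q hK, hηq, h2q]
  have hm1 : (-1 : K) ^ q = -1 := by rw [neg_pow_q hK, one_pow]
  have hμε : (μ + ε) ^ q = μ - ε := by rw [add_pow_q hK, hμq, hε]; ring
  have r00 := r1 0 (by decide)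
  have r11 := r1 1 (by decide)
  have r22 := r1 2 (by decide)
  have r33 := r1 3 (by decide)
  have r01 := r2 0 1 (by decide) (by decide)
  have r23 := r2 2 3 (by decide) (by decide)
  have a1 := h ![1, μ, 0, 0, 1] (by simp) (by simp only [hf, Fin.isValue, cons_val_zero, cons_val_one, hμq, one_mul,
      one_pow, mul_one, cons_val, z, mul_zero, add_zero]; linear_combination hμ)
  have a2 := h ![1, μ, 0, 0, -1] (by simp) (by simp only [hf, Fin.isValue, cons_val_zero, cons_val_one, hμq, one_mul,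
      one_pow, mul_one, cons_val, z, mul_zero, add_zero, hm1, mul_neg, _root_.neg_neg]; linear_combination hμ)
  have a3 := h ![1, μ + ε, 0, 0, 1] (by simp only [_root_.ne_eq, _root_.Matrix.cons_eq_zero_iff, _root_.one_ne_zero, _root_.Matrix.zero_empty, _root_.and_true, _root_.and_false, _root_.and_self, _root_.not_false_eq_true]) (by simp only [hf, z, hμε, _root_.Fin.isValue, _root_.Matrix.cons_val_zero, _root_.Matrix.cons_val_one, _root_.one_mul, _root_.one_pow, _root_.mul_one, _root_.sub_add_add_cancel, _root_.Matrix.cons_val, _root_.MulZeroClass.mul_zero, _root_.add_zero]; linear_combination hμ)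
  have b1 := h ![0, 0, 1, μ, 1] (by simp) (by simp only [hf, z, hμq, _root_.Fin.isValue, _root_.Matrix.cons_val_zero, _root_.Matrix.cons_val_one, _root_.MulZeroClass.mul_zero, _root_.add_zero, _root_.Matrix.cons_val, _root_.one_mul, _root_.zero_add, _root_.one_pow, _root_.mul_one]; linear_combination hμ)
  have b2 := h ![0, 0, 1, μ, -1] (by simp) (by simp only [hf, z, hμq, hm1, _root_.Fin.isValue, _root_.Matrix.cons_val_zero, _root_.Matrix.cons_val_one, _root_.MulZeroClass.mul_zero, _root_.add_zero, _root_.Matrix.cons_val, _root_.one_mul, _root_.zero_add, _root_.one_pow, _root_.mul_one, _root_.mul_neg, _root_.neg_neg]; linear_combination hμ)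
  have b3 := h ![0, 0, 1, μ + ε, 1] (by simp) (by simp only [hf, z, hμε, _root_.Fin.isValue, _root_.Matrix.cons_val_zero, _root_.Matrix.cons_val_one, _root_.MulZeroClass.mul_zero, _root_.add_zero, _root_.Matrix.cons_val, _root_.one_mul, _root_.zero_add, _root_.one_pow, _root_.mul_one, _root_.sub_add_add_cancel]; linear_combination hμ)
  simp only [Q2, Fin.sum_univ_succ, Fin.isValue, cons_val_zero, map_one, mul_one, cons_val_succ, Fin.succ_zero_eq_one,
      Fin.succ_one_eq_two, map_zero, mul_zero, Fin.reduceSucc, Finset.univ_unique, Fin.default_eq_zero, cons_val_fin_one,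
      Finset.sum_singleton, zero_add, one_mul, zero_mul, add_zero, map_neg, mul_neg, Finset.sum_neg_distrib, neg_zero,
      neg_mul, _root_.neg_neg, map_add] at a1 a2 a3 b1 b2 b3
  have t44 : s 4 4 = 0 := by
    have : 2 * s 4 4 = 0 := by
      linear_combination a1 + a2 - 2 * r00 - 2 * j μ * j μ * r11 - 2 * j μ * r01
    exact (mul_eq_zero.1 this).resolve_left h2k
  have t14 : s 1 4 + s 4 1 = 0 := by
    have : (s 1 4 + s 4 1) * j ε = 0 := by
      linear_combination a3 - a1 - j ε * r01 - (2 * j μ * j ε + j ε * j ε) * r11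
    exact (mul_eq_zero.1 this).resolve_right hj
  have t04 : s 0 4 + s 4 0 = 0 := by
    linear_combination a1 - r00 - j μ * r01 - j μ * j μ * r11 - j μ * t14 - t44
  have t34 : s 3 4 + s 4 3 = 0 := by
    have : (s 3 4 + s 4 3) * j ε = 0 := by
      linear_combination b3 - b1 - j ε * r23 - (2 * j μ * j ε + j ε * j ε) * r33
    exact (mul_eq_zero.1 this).resolve_right hj
  have t24 : s 2 4 + s 4 2 = 0 := by
    linear_combination b1 - r22 - j μ * r23 - j μ * j μ * r33 - j μ * t34 - t44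
  have d : ∀ a : Fin 5, s a a = 0 := by
    intro a
    by_cases ha : a = 4
    · rw [ha]; exact t44
    · exact r1 a ha
  refine ⟨d, fun a b => ?_⟩
  have key : ∀ a : Fin 5, s a 4 + s 4 a = 0 := by
    intro a
    fin_cases a
    · exact t04
    · exact t14
    · exact t24
    · exact t34
    · change s 4 4 + s 4 4 = 0
      rw [t44, add_zero]
  by_cases ha : a = 4
  · rw [ha, add_comm]; exact key b
  · by_cases hb : b = 4
    · rw [hb]; exact key a
    · exact r2 a b ha hb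

/-- the products of two coordinates -/
def F15 (j : K →+* k) (x : Fin 5 → K) : Fin 15 → k :=
  ![j (x 0) * j (x 0), j (x 1) * j (x 1), j (x 2) * j (x 2), j (x 3) * j (x 3), j (x 4) * j (x 4),
    j (x 0) * j (x 1), j (x 0) * j (x 2), j (x 0) * j (x 3), j (x 0) * j (x 4), j (x 1) * j (x 2),
    j (x 1) * j (x 3), j (x 1) * j (x 4), j (x 2) * j (x 3), j (x 2) * j (x 4), j (x 3) * j (x 4)]

/-- the coefficients -/
def G15 (e : k) (j : K →+* k) (y : Fin 5 → K) : Fin 15 → k :=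
  ![j (y 1) * j (y 1), j (y 0) * j (y 0), j (y 3) * j (y 3), j (y 2) * j (y 2), e * e * (j (y 4) * j (y 4)),
    2 * (j (y 0) * j (y 1)), 2 * (j (y 1) * j (y 3)), 2 * (j (y 1) * j (y 2)), 2 * e * (j (y 1) * j (y 4)),
    2 * (j (y 0) * j (y 3)), 2 * (j (y 0) * j (y 2)), 2 * e * (j (y 0) * j (y 4)), 2 * (j (y 2) * j (y 3)),
    2 * e * (j (y 3) * j (y 4)), 2 * e * (j (y 2) * j (y 4))]

theorem sq_eq (hK : Fintype.card K = q ^ 2) (j : K →+* k) (η : K) (x y : Fin 5 → K) :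
    j (hf q η x y) ^ 2 = ∑ a, F15 j x a * G15 (j η) (jb hK j) y a := by
  simp only [hf, F15, G15, Fin.sum_univ_succ, map_add, map_mul, jb_apply]
  simp only [Fin.isValue, map_pow, cons_val_zero, Fin.succ_zero_eq_one, cons_val_one, Fin.succ_one_eq_two, cons_val,
      Fin.reduceSucc, Finset.univ_eq_empty, cons_val_succ, cons_val_fin_one, Finset.sum_const, Finset.card_empty,
      zero_nsmul, add_zero]
  ring

theorem sum15 (f : Fin 15 → k) : ∑ a, f a = f 0 + f 1 + f 2 + f 3 + f 4 + f 5 + f 6 + f 7 + f 8 + f 9 + f 10 +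
    f 11 + f 12 + f 13 + f 14 := by
  simp only [Fin.sum_univ_succ, Fin.sum_univ_zero]
  simp only [add_zero, ← add_assoc]
  rfl

theorem F15_rel {j : K →+* k} {X : (Fin 5 → K) → Prop}
    (hX : ∀ s : Fin 5 → Fin 5 → k, (∀ x, X x → Q2 j s x = 0) →
      (∀ a : Fin 5, s a a = 0) ∧ ∀ a b : Fin 5, s a b + s b a = 0)
    {c : Fin 15 → k} (hc : ∀ x, X x → ∑ a, F15 j x a * c a = 0) : c = 0 := by
  obtain ⟨h1, h2⟩ := hX ![![c 0, c 5, c 6, c 7, c 8], ![0, c 1, c 9, c 10, c 11], ![0, 0, c 2, c 12, c 13],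
    ![0, 0, 0, c 3, c 14], ![0, 0, 0, 0, c 4]] (by
      intro x hx
      refine Eq.trans ?_ (hc x hx)
      rw [sum15]
      unfold Q2
      simp only [Fin.sum_univ_five]
      simp only [F15, Matrix.cons_val]
      ring)
  have e0 : c 0 = 0 := h1 0
  have e1 : c 1 = 0 := h1 1
  have e2 : c 2 = 0 := h1 2
  have e3 : c 3 = 0 := h1 3
  have e4 : c 4 = 0 := h1 4
  have e5 : c 5 + 0 = 0 := h2 0 1
  have e6 : c 6 + 0 = 0 := h2 0 2
  have e7 : c 7 + 0 = 0 := h2 0 3
  have e8 : c 8 + 0 = 0 := h2 0 4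
  have e9 : c 9 + 0 = 0 := h2 1 2
  have e10 : c 10 + 0 = 0 := h2 1 3
  have e11 : c 11 + 0 = 0 := h2 1 4
  have e12 : c 12 + 0 = 0 := h2 2 3
  have e13 : c 13 + 0 = 0 := h2 2 4
  have e14 : c 14 + 0 = 0 := h2 3 4
  rw [add_zero] at e5 e6 e7 e8 e9 e10 e11 e12 e13 e14
  funext a
  fin_cases a <;> assumption

theorem G15_rel {j : K →+* k} {e : k} (he : e ≠ 0) (h2k : (2 : k) ≠ 0) {X : (Fin 5 → K) → Prop}
    (hX : ∀ s : Fin 5 → Fin 5 → k, (∀ x, X x → Q2 j s x = 0) →
      (∀ a : Fin 5, s a a = 0) ∧ ∀ a b : Fin 5, s a b + s b a = 0)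
    {c : Fin 15 → k} (hc : ∀ x, X x → ∑ a, G15 e j x a * c a = 0) : c = 0 := by
  obtain ⟨h1, h2⟩ := hX ![![c 1, 2 * c 5, 2 * c 10, 2 * c 9, 2 * e * c 11],
    ![0, c 0, 2 * c 7, 2 * c 6, 2 * e * c 8], ![0, 0, c 3, 2 * c 12, 2 * e * c 14],
    ![0, 0, 0, c 2, 2 * e * c 13], ![0, 0, 0, 0, e * e * c 4]] (by
      intro x hx
      refine Eq.trans ?_ (hc x hx)
      rw [sum15]
      unfold Q2
      simp only [Fin.sum_univ_five]
      simp only [G15, Matrix.cons_val]
      ring)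
  have h2e : 2 * e ≠ 0 := mul_ne_zero h2k he
  have hee : e * e ≠ 0 := mul_ne_zero he he
  have d0 : c 1 = 0 := h1 0
  have d1 : c 0 = 0 := h1 1
  have d2 : c 3 = 0 := h1 2
  have d3 : c 2 = 0 := h1 3
  have d4 : e * e * c 4 = 0 := h1 4
  have e1 : 2 * c 5 + 0 = 0 := h2 0 1
  have e2 : 2 * c 10 + 0 = 0 := h2 0 2
  have e3 : 2 * c 9 + 0 = 0 := h2 0 3
  have e4 : 2 * e * c 11 + 0 = 0 := h2 0 4
  have e5 : 2 * c 7 + 0 = 0 := h2 1 2
  have e6 : 2 * c 6 + 0 = 0 := h2 1 3
  have e7 : 2 * e * c 8 + 0 = 0 := h2 1 4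
  have e8 : 2 * c 12 + 0 = 0 := h2 2 3
  have e9 : 2 * e * c 14 + 0 = 0 := h2 2 4
  have e10 : 2 * e * c 13 + 0 = 0 := h2 3 4
  rw [add_zero, mul_eq_zero] at e1 e2 e3 e4 e5 e6 e7 e8 e9 e10
  rw [mul_eq_zero] at d4
  replace d4 := d4.resolve_left hee
  replace e1 := e1.resolve_left h2k
  replace e2 := e2.resolve_left h2k
  replace e3 := e3.resolve_left h2k
  replace e4 := e4.resolve_left h2e
  replace e5 := e5.resolve_left h2k
  replace e6 := e6.resolve_left h2k
  replace e7 := e7.resolve_left h2e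
  replace e8 := e8.resolve_left h2k
  replace e9 := e9.resolve_left h2e
  replace e10 := e10.resolve_left h2e
  funext a
  fin_cases a <;> assumption

theorem sum10 (f : Fin 10 → k) : ∑ a, f a = f 0 + f 1 + f 2 + f 3 + f 4 + f 5 + f 6 + f 7 + f 8 + f 9 := by
  simp only [Fin.sum_univ_succ, Fin.sum_univ_zero]
  simp only [add_zero, ← add_assoc]
  rfl

/-- the products of two coordinates, four coordinates -/
def F10 (j : K →+* k) (x : Fin 5 → K) : Fin 10 → k :=
  ![j (x 0) * j (x 0), j (x 1) * j (x 1), j (x 2) * j (x 2), j (x 3) * j (x 3),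
    j (x 0) * j (x 1), j (x 0) * j (x 2), j (x 0) * j (x 3), j (x 1) * j (x 2),
    j (x 1) * j (x 3), j (x 2) * j (x 3)]

/-- the coefficients -/
def G10 (j : K →+* k) (y : Fin 5 → K) : Fin 10 → k :=
  ![j (y 1) * j (y 1), j (y 0) * j (y 0), j (y 3) * j (y 3), j (y 2) * j (y 2),
    2 * (j (y 0) * j (y 1)), 2 * (j (y 1) * j (y 3)), 2 * (j (y 1) * j (y 2)),
    2 * (j (y 0) * j (y 3)), 2 * (j (y 0) * j (y 2)), 2 * (j (y 2) * j (y 3))]

theorem sq_eq4 (hK : Fintype.card K = q ^ 2) (j : K →+* k) (η : K) (x y : Fin 5 → K) (hx : x 4 = 0) :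
    j (hf q η x y) ^ 2 = ∑ a, F10 j x a * G10 (jb hK j) y a := by
  rw [sum10]
  simp only [hf, F10, G10, map_add, map_mul, jb_apply, hx, Matrix.cons_val, mul_zero, zero_mul, add_zero]
  ring

theorem F10_rel {j : K →+* k} {X : (Fin 5 → K) → Prop} (hX4 : ∀ x, X x → x 4 = 0)
    (hX : ∀ s : Fin 5 → Fin 5 → k, (∀ x, X x → Q2 j s x = 0) →
      (∀ a : Fin 5, a ≠ 4 → s a a = 0) ∧ ∀ a b : Fin 5, a ≠ 4 → b ≠ 4 → s a b + s b a = 0)
    {c : Fin 10 → k} (hc : ∀ x, X x → ∑ a, F10 j x a * c a = 0) : c = 0 := by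
  obtain ⟨h1, h2⟩ := hX ![![c 0, c 4, c 5, c 6, 0], ![0, c 1, c 7, c 8, 0], ![0, 0, c 2, c 9, 0],
    ![0, 0, 0, c 3, 0], ![0, 0, 0, 0, 0]] (by
      intro x hx
      refine Eq.trans ?_ (hc x hx)
      rw [sum10]
      unfold Q2
      simp only [Fin.sum_univ_five]
      simp only [F10, Matrix.cons_val, hX4 x hx, map_zero]
      ring)
  have e0 : c 0 = 0 := h1 0 (by decide)
  have e1 : c 1 = 0 := h1 1 (by decide)
  have e2 : c 2 = 0 := h1 2 (by decide)
  have e3 : c 3 = 0 := h1 3 (by decide)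
  have e4 : c 4 + 0 = 0 := h2 0 1 (by decide) (by decide)
  have e5 : c 5 + 0 = 0 := h2 0 2 (by decide) (by decide)
  have e6 : c 6 + 0 = 0 := h2 0 3 (by decide) (by decide)
  have e7 : c 7 + 0 = 0 := h2 1 2 (by decide) (by decide)
  have e8 : c 8 + 0 = 0 := h2 1 3 (by decide) (by decide)
  have e9 : c 9 + 0 = 0 := h2 2 3 (by decide) (by decide)
  rw [add_zero] at e4 e5 e6 e7 e8 e9
  funext a
  fin_cases a <;> assumption

theorem G10_rel {j : K →+* k} (h2k : (2 : k) ≠ 0) {X : (Fin 5 → K) → Prop} (hX4 : ∀ x, X x → x 4 = 0)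
    (hX : ∀ s : Fin 5 → Fin 5 → k, (∀ x, X x → Q2 j s x = 0) →
      (∀ a : Fin 5, a ≠ 4 → s a a = 0) ∧ ∀ a b : Fin 5, a ≠ 4 → b ≠ 4 → s a b + s b a = 0)
    {c : Fin 10 → k} (hc : ∀ x, X x → ∑ a, G10 j x a * c a = 0) : c = 0 := by
  obtain ⟨h1, h2⟩ := hX ![![c 1, 2 * c 4, 2 * c 8, 2 * c 7, 0], ![0, c 0, 2 * c 6, 2 * c 5, 0],
    ![0, 0, c 3, 2 * c 9, 0], ![0, 0, 0, c 2, 0], ![0, 0, 0, 0, 0]] (by
      intro x hx
      refine Eq.trans ?_ (hc x hx)
      rw [sum10]
      unfold Q2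
      simp only [Fin.sum_univ_five]
      simp only [G10, Matrix.cons_val, hX4 x hx, map_zero]
      ring)
  have d0 : c 1 = 0 := h1 0 (by decide)
  have d1 : c 0 = 0 := h1 1 (by decide)
  have d2 : c 3 = 0 := h1 2 (by decide)
  have d3 : c 2 = 0 := h1 3 (by decide)
  have e1 : 2 * c 4 + 0 = 0 := h2 0 1 (by decide) (by decide)
  have e2 : 2 * c 8 + 0 = 0 := h2 0 2 (by decide) (by decide)
  have e3 : 2 * c 7 + 0 = 0 := h2 0 3 (by decide) (by decide)
  have e4 : 2 * c 6 + 0 = 0 := h2 1 2 (by decide) (by decide)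
  have e5 : 2 * c 5 + 0 = 0 := h2 1 3 (by decide) (by decide)
  have e6 : 2 * c 9 + 0 = 0 := h2 2 3 (by decide) (by decide)
  rw [add_zero, mul_eq_zero] at e1 e2 e3 e4 e5 e6
  replace e1 := e1.resolve_left h2k
  replace e2 := e2.resolve_left h2k
  replace e3 := e3.resolve_left h2k
  replace e4 := e4.resolve_left h2k
  replace e5 := e5.resolve_left h2k
  replace e6 := e6.resolve_left h2k
  funext a
  fin_cases a <;> assumption

section main

variable {hK : Fintype.card K = q ^ 2} {W : WFrame (PU hK N) m} {V : Type*} [AddCommGroup V] [Module k V]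
  [FiniteDimensional k V] {j : K →+* k} {θ : Fin m → ℕ} {vv : (Fin m → Fin N → K) → V}
  {ff : (Fin m → Fin N → K) → Module.Dual k V}

theorem le_ten (W : WFrame (PU hK N) m) (hm : 2 ≤ m) (h : IsKer q 1 j θ vv ff) (h2 : (2 : K) ≠ 0)
    (hθ : θ ⟨0, by omega⟩ = 2) (h0 : ∀ i : Fin m, (i : ℕ) ≠ 0 → θ i = 0) : 10 ≤ Module.finrank k V := by
  have h2k : (2 : k) ≠ 0 := by
    have := (map_ne_zero j).2 h2
    rwa [map_ofNat] at this
  have hX : ∀ j' : K →+* k, ∀ s : Fin 5 → Fin 5 → k,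
      (∀ x, (x ≠ 0 ∧ x 4 = 0 ∧ hf q 0 x x = 0) → Q2 j' s x = 0) →
      (∀ a : Fin 5, a ≠ 4 → s a a = 0) ∧ ∀ a b : Fin 5, a ≠ 4 → b ≠ 4 → s a b + s b a = 0 :=
    fun j' s hs => rel4 hK j' (fun x hx h4 hxx => hs x ⟨hx, h4, hxx⟩)
  have hz : hermForm N K q 0 0 = 0 := herm_zero_left _
  have hp : ∀ x : {x : Fin 5 → K // x ≠ 0 ∧ x 4 = 0 ∧ hf q 0 x x = 0},
      PFr (m := m) q 1 (fun _ => vec W hm 0 x.1) := by
    rintro ⟨x, hx, h4, hxx⟩
    exact pfr_one (by omega) (by rw [herm_vec W hm (orth_zero W), hz]; exact hxx)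
      (vec_ne W hm (orth_zero W) (Or.inl h4) hx)
  have key := h.sylvester (X := {x : Fin 5 → K // x ≠ 0 ∧ x 4 = 0 ∧ hf q 0 x x = 0})
    (Y := {x : Fin 5 → K // x ≠ 0 ∧ x 4 = 0 ∧ hf q 0 x x = 0}) (α := Fin 10) (S := ∅) (S' := ∅)
    (f := fun x _ => vec W hm 0 x.1) (g := fun x _ => vec W hm 0 x.1) hp hp
    (F := fun x => F10 j x.1) (G := fun y => G10 (jb hK j) y.1)
    (fun x y => by
      rw [prod_eq j (by omega) h0, hθ, herm_vec W hm (orth_zero W), hz]
      exact sq_eq4 hK j 0 _ _ x.2.2.1)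
    (fun c hc _ => F10_rel (fun x hx => hx.2.1) (hX j) (fun x hx => hc ⟨x, hx⟩))
    (fun c hc _ => G10_rel h2k (fun x hx => hx.2.1) (hX (jb hK j)) (fun x hx => hc ⟨x, hx⟩))
  simpa using key

theorem le_fifteen (W : WFrame (PU hK N) m) (hm : 2 ≤ m) (hN : 5 ≤ N) (h : IsKer q 1 j θ vv ff) (h2 : (2 : K) ≠ 0)
    (hθ : θ ⟨0, by omega⟩ = 2) (h0 : ∀ i : Fin m, (i : ℕ) ≠ 0 → θ i = 0) : 15 ≤ Module.finrank k V := by
  have h2k : (2 : k) ≠ 0 := by
    have := (map_ne_zero j).2 h2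
    rwa [map_ofNat] at this
  obtain ⟨d, hd0, hd⟩ := ex_d W hm hN
  obtain ⟨η, hη⟩ : ∃ η, η = hermForm N K q d d := ⟨_, rfl⟩
  have hη0 : η ≠ 0 := hη ▸ hd0
  have hηq : η ^ q = η := by rw [hη, ← herm_swap hK]
  have hX : ∀ j' : K →+* k, ∀ s : Fin 5 → Fin 5 → k,
      (∀ x, (x ≠ 0 ∧ hf q η x x = 0) → Q2 j' s x = 0) →
      (∀ a : Fin 5, s a a = 0) ∧ ∀ a b : Fin 5, s a b + s b a = 0 :=
    fun j' s hs => rel5 hK h2 j' hη0 hηq (fun x hx hxx => hs x ⟨hx, hxx⟩)
  have hp : ∀ x : {x : Fin 5 → K // x ≠ 0 ∧ hf q η x x = 0},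
      PFr (m := m) q 1 (fun _ => vec W hm d x.1) := by
    rintro ⟨x, hx, hxx⟩
    exact pfr_one (by omega) (by rw [herm_vec W hm hd, ← hη]; exact hxx)
      (vec_ne W hm hd (Or.inr hd0) hx)
  have key := h.sylvester (X := {x : Fin 5 → K // x ≠ 0 ∧ hf q η x x = 0})
    (Y := {x : Fin 5 → K // x ≠ 0 ∧ hf q η x x = 0}) (α := Fin 15) (S := ∅) (S' := ∅)
    (f := fun x _ => vec W hm d x.1) (g := fun x _ => vec W hm d x.1) hp hp
    (F := fun x => F15 j x.1) (G := fun y => G15 (j η) (jb hK j) y.1)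
    (fun x y => by
      rw [prod_eq j (by omega) h0, hθ, herm_vec W hm hd, ← hη]
      exact sq_eq hK j η _ _)
    (fun c hc _ => F15_rel (hX j) (fun x hx => hc ⟨x, hx⟩))
    (fun c hc _ => G15_rel ((map_ne_zero j).2 hη0) h2k (hX (jb hK j)) (fun x hx => hc ⟨x, hx⟩))
  simpa using key

theorem ten_le {vv : (Fin m → Fin 4 → K) → V} {ff : (Fin m → Fin 4 → K) → Module.Dual k V}
    (h : IsKer q 1 j θ vv ff) (hm : 0 < m)
    (hθ : θ ⟨0, hm⟩ = 2) (h0 : ∀ i : Fin m, (i : ℕ) ≠ 0 → θ i = 0) : Module.finrank k V ≤ 10 := by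
  have key := h.finrank_le (α := Fin 10)
    (F := fun u => ![j (u ⟨0, hm⟩ 0) * j (u ⟨0, hm⟩ 0), j (u ⟨0, hm⟩ 1) * j (u ⟨0, hm⟩ 1),
      j (u ⟨0, hm⟩ 2) * j (u ⟨0, hm⟩ 2), j (u ⟨0, hm⟩ 3) * j (u ⟨0, hm⟩ 3),
      j (u ⟨0, hm⟩ 0) * j (u ⟨0, hm⟩ 1), j (u ⟨0, hm⟩ 0) * j (u ⟨0, hm⟩ 2),
      j (u ⟨0, hm⟩ 0) * j (u ⟨0, hm⟩ 3), j (u ⟨0, hm⟩ 1) * j (u ⟨0, hm⟩ 2),
      j (u ⟨0, hm⟩ 1) * j (u ⟨0, hm⟩ 3), j (u ⟨0, hm⟩ 2) * j (u ⟨0, hm⟩ 3)])
    (G := fun u => ![j (u ⟨0, hm⟩ 0 ^ q) * j (u ⟨0, hm⟩ 0 ^ q), j (u ⟨0, hm⟩ 1 ^ q) * j (u ⟨0, hm⟩ 1 ^ q),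
      j (u ⟨0, hm⟩ 2 ^ q) * j (u ⟨0, hm⟩ 2 ^ q), j (u ⟨0, hm⟩ 3 ^ q) * j (u ⟨0, hm⟩ 3 ^ q),
      2 * (j (u ⟨0, hm⟩ 0 ^ q) * j (u ⟨0, hm⟩ 1 ^ q)), 2 * (j (u ⟨0, hm⟩ 0 ^ q) * j (u ⟨0, hm⟩ 2 ^ q)),
      2 * (j (u ⟨0, hm⟩ 0 ^ q) * j (u ⟨0, hm⟩ 3 ^ q)), 2 * (j (u ⟨0, hm⟩ 1 ^ q) * j (u ⟨0, hm⟩ 2 ^ q)),
      2 * (j (u ⟨0, hm⟩ 1 ^ q) * j (u ⟨0, hm⟩ 3 ^ q)), 2 * (j (u ⟨0, hm⟩ 2 ^ q) * j (u ⟨0, hm⟩ 3 ^ q))])
    (fun u u' _ _ => by
      rw [prod_eq j hm h0, hθ, sum10]
      simp only [hermForm, Fin.sum_univ_four, map_add, map_mul, Matrix.cons_val]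
      ring)
  simpa using key

/-- **Node 0, weight `2 p^a`.** -/
theorem node0_two {p : ℕ} [Fact p.Prime] [CharP K p] (W : WFrame (PU hK N) m) (hm : 2 ≤ m)
    (h : IsKer q 1 j θ vv ff) {a : ℕ} (hθ : θ ⟨0, by omega⟩ = 2 * p ^ a)
    (h0 : ∀ i : Fin m, (i : ℕ) ≠ 0 → θ i = 0) (hp2 : p ≠ 2) :
    (N = 4 → Module.finrank k V = 10) ∧ (5 ≤ N → 15 ≤ Module.finrank k V) := by
  have h2 : (2 : K) ≠ 0 := by
    intro h2
    have h3 : ((2 : ℕ) : K) = 0 := by exact_mod_cast h2
    rw [CharP.cast_eq_zero_iff K p] at h3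
    exact hp2 ((Nat.prime_dvd_prime_iff_eq Fact.out Nat.prime_two).1 h3)
  have ht := h.twist (p := p) a (θ' := fun i => if (i : ℕ) = 0 then 2 else 0) (by
    intro i
    by_cases hi : (i : ℕ) = 0
    · have : i = ⟨0, by omega⟩ := Fin.ext hi
      rw [this, hθ]
      simp [mul_comm]
    · rw [h0 i hi, if_neg hi, mul_zero])
  have e1 : (fun i : Fin m => if (i : ℕ) = 0 then 2 else 0) ⟨0, by omega⟩ = 2 := rfl
  have e2 : ∀ i : Fin m, (i : ℕ) ≠ 0 → (fun i : Fin m => if (i : ℕ) = 0 then 2 else 0) i = 0 :=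
    fun i hi => if_neg hi
  constructor
  · rintro rfl
    exact le_antisymm (ten_le ht (by omega) e1 e2) (le_ten W hm ht h2 e1 e2)
  · intro hN
    exact le_fifteen W hm hN ht h2 e1 e2

end main

end Cfsg.Agent.H887.D3
end

-- part: H887/D3/NodeAdj
section
/-!
# `SU_N(q)`, node `0`, weight `p^a (1 + q)` (helper887)

`node0_adj`: the kernel `j (h x y)^(p^a + p^(a+f))`, `q = p^f`, on isotropic vectors has rank at least
`14` for `N ≥ 4`.
-/

set_option autoImplicit false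
set_option linter.unusedSectionVars false

namespace Cfsg.Agent.H887.D3

open Cfsg Cfsg.Geo Matrix Cfsg.Agent.H876.D3
open LieClassical.HermBasic LieClassical.HermSiegel Cfsg.Agent.TitsThree.KSideU Cfsg.Agent.TitsThree.KSideUDesc
  Cfsg.Agent.TitsThree.WBridge Cfsg.Agent.TitsThree.SiegelGen Cfsg.Agent.TitsThree.Siegel Cfsg.Agent.H61.SUCross
  Cfsg.Agent.TitsThree.WittFrame

variable {K : Type} [Field K] [Fintype K] {N q m : ℕ} {k : Type*} [Field k]

/-- the form on four coordinates -/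
def h4 (q : ℕ) (x y : Fin 4 → K) : K := ∑ i, x i * y (![1, 0, 3, 2] i) ^ q

/-- four coordinates -/
def ex (x : Fin 4 → K) : Fin 5 → K := ![x 0, x 1, x 2, x 3, 0]

theorem hf_ex (η : K) (x y : Fin 4 → K) : hf q η (ex x) (ex y) = h4 q x y := by
  simp only [hf, h4, ex, Fin.sum_univ_four, _root_.Fin.isValue, _root_.Matrix.cons_val_zero, _root_.Matrix.cons_val_one, _root_.Matrix.cons_val, _root_.MulZeroClass.zero_mul, _root_.MulZeroClass.mul_zero, _root_.add_zero, _root_.Nat.succ_eq_add_one, _root_.Nat.reduceAdd]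

/-- the products `x_i x_k^q` -/
def F16 (q : ℕ) (j : K →+* k) (x : Fin 4 → K) (p : Fin 4 × Fin 4) : k := j (x p.1) * j (x p.2 ^ q)

/-- the coefficients -/
def G16 (q : ℕ) (j : K →+* k) (x : Fin 4 → K) (p : Fin 4 × Fin 4) : k :=
  j (x (![1, 0, 3, 2] p.1) ^ q) * j (x (![1, 0, 3, 2] p.2))

theorem norm_eq (hK : Fintype.card K = q ^ 2) (j : K →+* k) (x y : Fin 4 → K) :
    j (h4 q x y) ^ (1 + q) = ∑ p, F16 q j x p * G16 q j y p := by
  have h1 : h4 q x y ^ q = ∑ i, x i ^ q * y (![1, 0, 3, 2] i) := by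
    rw [h4, sum_pow_q hK]
    exact Finset.sum_congr rfl fun i _ => by rw [mul_pow, pow_q_pow_q hK]
  rw [pow_add, pow_one, ← map_pow, h1, h4, map_sum, map_sum, Finset.sum_mul_sum, Fintype.sum_prod_type]
  refine Finset.sum_congr rfl fun a _ => Finset.sum_congr rfl fun b _ => ?_
  simp only [F16, G16, map_mul]
  ring

theorem rel16 (hK : Fintype.card K = q ^ 2) (j : K →+* k) {c : Fin 4 × Fin 4 → k}
    (h : ∀ x : Fin 4 → K, x ≠ 0 → h4 q x x = 0 → ∑ p, F16 q j x p * c p = 0) (h01 : c (0, 1) = 0) :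
    c = 0 := by
  have z := zero_pow_q (F := K) hK
  obtain ⟨ε, hε0, hε⟩ := ex_eps hK
  obtain ⟨t, ht⟩ := ex_ne hK
  obtain ⟨u, hu⟩ := ex_tr hK
  have huq : (-u ^ q) ^ q = -u := by rw [neg_pow_q hK, pow_q_pow_q hK]
  have d0 := h ![1, 0, 0, 0] (by simp) (by simp [h4, Fin.sum_univ_four, z])
  have d1 := h ![0, 1, 0, 0] (by simp) (by simp [h4, Fin.sum_univ_four, z])
  have d2 := h ![0, 0, 1, 0] (by simp) (by simp [h4, Fin.sum_univ_four, z])
  have d3 := h ![0, 0, 0, 1] (by simp) (by simp [h4, Fin.sum_univ_four, z])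
  have e01 := h ![1, ε, 0, 0] (by simp) (by simp [h4, Fin.sum_univ_four, z, hε])
  have e23 := h ![0, 0, 1, ε] (by simp) (by simp [h4, Fin.sum_univ_four, z, hε])
  have g02 := h ![1, 0, 1, 0] (by simp) (by simp [h4, Fin.sum_univ_four, z])
  have g03 := h ![1, 0, 0, 1] (by simp) (by simp [h4, Fin.sum_univ_four, z])
  have g12 := h ![0, 1, 1, 0] (by simp) (by simp [h4, Fin.sum_univ_four, z])
  have g13 := h ![0, 1, 0, 1] (by simp) (by simp [h4, Fin.sum_univ_four, z])
  have t02 := h ![1, 0, t, 0] (by simp) (by simp [h4, Fin.sum_univ_four, z])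
  have t03 := h ![1, 0, 0, t] (by simp) (by simp [h4, Fin.sum_univ_four, z])
  have t12 := h ![0, 1, t, 0] (by simp) (by simp [h4, Fin.sum_univ_four, z])
  have t13 := h ![0, 1, 0, t] (by simp) (by simp [h4, Fin.sum_univ_four, z])
  have s := h ![1, u, 1, -u ^ q] (by simp) (by simp [h4, Fin.sum_univ_four, huq])
  simp only [F16, Fintype.sum_prod_type, Fin.sum_univ_four, Fin.isValue, cons_val_zero, one_pow, map_one, mul_one,
      cons_val_one, z, map_zero, mul_zero, zero_mul, add_zero, cons_val, one_mul, zero_add, h01, hε, map_neg, mul_neg,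
      neg_mul, neg_zero, huq, _root_.neg_neg] at d0 d1 d2 d3 e01 e23 g02 g03 g12 g13 t02 t03 t12 t13 s
  rw [d0, d1] at e01
  rw [d2, d3] at e23
  rw [d0, d2] at g02 t02
  rw [d0, d3] at g03 t03
  rw [d1, d2] at g12 t12
  rw [d1, d3] at g13 t13
  have hjε : j ε ≠ 0 := (map_ne_zero j).2 hε0
  have hjt : j (t ^ q) - j t ≠ 0 := by
    rw [← map_sub]
    exact (map_ne_zero j).2 (sub_ne_zero.2 ht)
  have hju : j u + j (u ^ q) ≠ 0 := by
    rw [← map_add]
    exact (map_ne_zero j).2 hu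
  have k02 : c (0, 2) = 0 := by
    have : (j (t ^ q) - j t) * c (0, 2) = 0 := by linear_combination t02 - j t * g02
    exact (mul_eq_zero.1 this).resolve_left hjt
  have k20 : c (2, 0) = 0 := by linear_combination g02 - k02
  have k03 : c (0, 3) = 0 := by
    have : (j (t ^ q) - j t) * c (0, 3) = 0 := by linear_combination t03 - j t * g03
    exact (mul_eq_zero.1 this).resolve_left hjt
  have k30 : c (3, 0) = 0 := by linear_combination g03 - k03
  have k12 : c (1, 2) = 0 := by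
    have : (j (t ^ q) - j t) * c (1, 2) = 0 := by linear_combination t12 - j t * g12
    exact (mul_eq_zero.1 this).resolve_left hjt
  have k21 : c (2, 1) = 0 := by linear_combination g12 - k12
  have k13 : c (1, 3) = 0 := by
    have : (j (t ^ q) - j t) * c (1, 3) = 0 := by linear_combination t13 - j t * g13
    exact (mul_eq_zero.1 this).resolve_left hjt
  have k31 : c (3, 1) = 0 := by linear_combination g13 - k13
  have k10 : c (1, 0) = 0 := by
    have : j ε * c (1, 0) = 0 := by linear_combination e01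
    exact (mul_eq_zero.1 this).resolve_left hjε
  have k32 : c (3, 2) = c (2, 3) := by
    have : j ε * (c (3, 2) - c (2, 3)) = 0 := by linear_combination e23
    exact sub_eq_zero.1 ((mul_eq_zero.1 this).resolve_left hjε)
  rw [d0, d1, d2, d3, k02, k03, k10, k12, k13, k20, k21, k30, k31, k32] at s
  have k23 : c (2, 3) = 0 := by
    have : (j u + j (u ^ q)) * c (2, 3) = 0 := by linear_combination -s
    exact (mul_eq_zero.1 this).resolve_left hju
  rw [k23] at k32
  funext p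
  obtain ⟨a, b⟩ := p
  fin_cases a <;> fin_cases b <;> assumption

/-- the index set of the relations -/
theorem rel16' (hK : Fintype.card K = q ^ 2) (j : K →+* k) {c : Fin 4 × Fin 4 → k}
    (h : ∀ x : Fin 4 → K, x ≠ 0 → h4 q x x = 0 → ∑ p, G16 q j x p * c p = 0) (h01 : c (0, 1) = 0) :
    c = 0 := by
  let σ : Fin 4 → Fin 4 := ![1, 0, 3, 2]
  have hσ : ∀ a, σ (σ a) = a := by decide
  let e : Fin 4 × Fin 4 ≃ Fin 4 × Fin 4 :=
    { toFun := fun p => (σ p.2, σ p.1)
      invFun := fun p => (σ p.2, σ p.1)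
      left_inv := fun p => by simp [hσ]
      right_inv := fun p => by simp [hσ] }
  have h1 := rel16 hK j (c := fun p => c (e p)) (fun x hx hxx => by
    refine Eq.trans ?_ (h x hx hxx)
    refine Fintype.sum_equiv e _ _ fun p => ?_
    have : F16 q j x p = G16 q j x (e p) := by
      change j (x p.1) * j (x p.2 ^ q) = j (x (σ (σ p.2)) ^ q) * j (x (σ (σ p.1)))
      rw [hσ, hσ, mul_comm]
    rw [this]) h01
  funext p
  have h2 := congrFun h1 (e.symm p)
  simpa using h2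

section main

variable {hK : Fintype.card K = q ^ 2} {W : WFrame (PU hK N) m} {V : Type*} [AddCommGroup V] [Module k V]
  [FiniteDimensional k V] {j : K →+* k} {θ : Fin m → ℕ} {vv : (Fin m → Fin N → K) → V}
  {ff : (Fin m → Fin N → K) → Module.Dual k V}

theorem ex_zero {x : Fin 4 → K} (h : ex x = 0) : x = 0 := by
  have h0 := congrFun h 0
  have h1 := congrFun h 1
  have h2 := congrFun h 2
  have h3 := congrFun h 3
  funext i
  fin_cases i
  · exact h0
  · exact h1
  · exact h2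
  · exact h3

theorem le_fourteen (W : WFrame (PU hK N) m) (hm : 2 ≤ m) (h : IsKer q 1 j θ vv ff)
    (hθ : θ ⟨0, by omega⟩ = 1 + q) (h0 : ∀ i : Fin m, (i : ℕ) ≠ 0 → θ i = 0) : 14 ≤ Module.finrank k V := by
  have hp : ∀ x : {x : Fin 4 → K // x ≠ 0 ∧ h4 q x x = 0},
      PFr (m := m) q 1 (fun _ => vec W hm 0 (ex x.1)) := by
    rintro ⟨x, hx, hxx⟩
    exact pfr_one (by omega) (by rw [herm_vec W hm (orth_zero W), hf_ex]; exact hxx)
      (vec_ne W hm (orth_zero W) (Or.inl rfl) (fun h => hx (ex_zero h)))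
  have key := h.sylvester (X := {x : Fin 4 → K // x ≠ 0 ∧ h4 q x x = 0})
    (Y := {x : Fin 4 → K // x ≠ 0 ∧ h4 q x x = 0}) (α := Fin 4 × Fin 4) (S := {(0, 1)}) (S' := {(0, 1)})
    (f := fun x _ => vec W hm 0 (ex x.1)) (g := fun x _ => vec W hm 0 (ex x.1)) hp hp
    (F := fun x => F16 q j x.1) (G := fun y => G16 q j y.1)
    (fun x y => by
      rw [prod_eq j (by omega) h0, hθ, herm_vec W hm (orth_zero W), hf_ex]
      exact norm_eq hK j _ _)
    (fun c hc hc1 => rel16 hK j (fun x hx hxx => hc ⟨x, hx, hxx⟩) (hc1 _ (Finset.mem_singleton_self _)))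
    (fun c hc hc1 => rel16' hK j (fun x hx hxx => hc ⟨x, hx, hxx⟩) (hc1 _ (Finset.mem_singleton_self _)))
  simp only [Fintype.card_prod, Fintype.card_fin, Finset.card_singleton] at key
  omega

/-- **Node 0, weight `p^a (1 + q)`.** -/
theorem node0_adj {p : ℕ} [Fact p.Prime] [CharP K p] (W : WFrame (PU hK N) m) (hm : 2 ≤ m)
    (h : IsKer q 1 j θ vv ff) {a f : ℕ} (hq : q = p ^ f) (hθ : θ ⟨0, by omega⟩ = p ^ a + p ^ (a + f))
    (h0 : ∀ i : Fin m, (i : ℕ) ≠ 0 → θ i = 0) : 14 ≤ Module.finrank k V := by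
  have ht := h.twist (p := p) a (θ' := fun i => if (i : ℕ) = 0 then 1 + q else 0) (by
    intro i
    by_cases hi : (i : ℕ) = 0
    · have : i = ⟨0, by omega⟩ := Fin.ext hi
      rw [this, hθ]
      simp [hq, pow_add, mul_add]
    · rw [h0 i hi, if_neg hi, mul_zero])
  exact le_fourteen W hm ht rfl (fun i hi => if_neg hi)

end main

end Cfsg.Agent.H887.D3
end

-- part: H876/D3/NodeZero
section
/-!
# The first node alone (helper876)

* `node0` : `dim V = N`, or `N = 4`, `dim V = 10` and `p ≠ 2`, or `13 ≤ dim V`.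
-/

set_option autoImplicit false
set_option linter.unusedSectionVars false

namespace Cfsg.Agent.H876.D3

open Cfsg Cfsg.Geo Matrix
open LieClassical.HermBasic LieClassical.HermSiegel Cfsg.Agent.TitsThree.KSideU Cfsg.Agent.TitsThree.KSideUDesc
  Cfsg.Agent.TitsThree.WBridge Cfsg.Agent.TitsThree.SiegelGen Cfsg.Agent.TitsThree.Siegel Cfsg.Agent.H61.SUCross
  Cfsg.Agent.TitsThree.WittFrame

variable {K : Type} [Field K] [Fintype K] {N q m : ℕ} {hK : Fintype.card K = q ^ 2}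

theorem exists_f (hK : Fintype.card K = q ^ 2) (p : ℕ) [hp : Fact p.Prime] [CharP K p] : ∃ f, q = p ^ f := by
  obtain ⟨a, -, ha⟩ := FiniteField.card K p
  have h1 : q ∣ p ^ (a : ℕ) := by rw [← ha, hK, sq]; exact Dvd.intro _ rfl
  obtain ⟨b, -, hb⟩ := (Nat.dvd_prime_pow hp.out).1 h1
  exact ⟨b, hb⟩

section Ker

variable {k : Type*} [Field k] {V : Type*} [AddCommGroup V] [Module k V] [FiniteDimensional k V]
  {j : K →+* k} {θ : Fin m → ℕ} {vv : (Fin m → Fin N → K) → V}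
  {ff : (Fin m → Fin N → K) → Module.Dual k V}

/-- **The first node alone.** -/
theorem node0 (p : ℕ) [hp : Fact p.Prime] [CharP K p] [CharP k p] (hN : 4 ≤ N) (hm : 2 ≤ m) (W : WFrame (PU hK N) m)
    (h : IsKer q 1 j θ vv ff) (hθ : ∀ i : Fin m, 1 ≤ (i : ℕ) → θ i = 0) (h0 : θ ⟨0, by omega⟩ ≠ 0)
    (hθ' : θ ⟨0, by omega⟩ < q ^ 2) :
    Module.finrank k V = N ∨ (N = 4 ∧ Module.finrank k V = 10 ∧ p ≠ 2) ∨ 13 ≤ Module.finrank k V := by
  obtain ⟨f, hf⟩ := exists_f hK p
  have hθ2 : ∀ i : Fin m, (i : ℕ) ≠ 0 → θ i = 0 := fun i hi => hθ i (by omega)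
  rcases node0_cases p hm W h hθ h0 hθ' hf with ⟨a, ha⟩ | h1 | ⟨hp2, a, ha⟩ | ⟨a, ha⟩
  · exact Or.inl (natural p (by omega) W h hθ ha)
  · exact Or.inr (Or.inr h1)
  · have h2 := H887.D3.node0_two (p := p) W hm h ha hθ2 hp2
    rcases Nat.lt_or_ge N 5 with h3 | h3
    · have h4 : N = 4 := by omega
      exact Or.inr (Or.inl ⟨h4, h2.1 h4, hp2⟩)
    · have := h2.2 h3
      exact Or.inr (Or.inr (by omega))
  · have h2 := H887.D3.node0_adj (p := p) W hm h hf ha hθ2
    exact Or.inr (Or.inr (by omega))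

end Ker

end Cfsg.Agent.H876.D3
end

-- part: H876/D3/PK
section
/-!
# Pair kernels in coordinates (helper876)

* `PK q j θ κ vv ff` : the kernel `j(h(x, x')) ^ θ * j(G_2) ^ κ` on the isotropic flags of the span of two hyperbolic
  pairs; `PK.twist`, `PK.le_finrank`, `PK.sylvester`;
* **`exists_pk`** : the kernel of a module with two nodes.
-/

set_option autoImplicit false
set_option linter.unusedSectionVars false

namespace Cfsg.Agent.H876.D3

open Cfsg Cfsg.Geo Matrix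
open LieClassical.HermBasic LieClassical.HermSiegel Cfsg.Agent.TitsThree.KSideU Cfsg.Agent.TitsThree.KSideUDesc
  Cfsg.Agent.TitsThree.WBridge Cfsg.Agent.TitsThree.SiegelGen Cfsg.Agent.TitsThree.Siegel Cfsg.Agent.H61.SUCross
  Cfsg.Agent.TitsThree.WittFrame
open Cfsg.Agent.Phan (fixedField mem_fixedField card_fixedField)

variable {K : Type} [Field K] [Fintype K] {N q m : ℕ} {hK : Fintype.card K = q ^ 2}

section PK

variable {k : Type*} [Field k] {V : Type*} [AddCommGroup V] [Module k V] {j : K →+* k} {θ κ : ℕ}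
  {vv : (Fin 4 → K) → (Fin 4 → K) → V} {ff : (Fin 4 → K) → (Fin 4 → K) → Module.Dual k V}

/-- pair kernels -/
def PK (q : ℕ) (j : K →+* k) (θ κ : ℕ) (vv : (Fin 4 → K) → (Fin 4 → K) → V)
    (ff : (Fin 4 → K) → (Fin 4 → K) → Module.Dual k V) : Prop :=
  ∀ v w v' w', Ln q v w → Ln q v' w' →
    ff v' w' (vv v w) = j (∑ a, v a * v' a ^ q) ^ θ * j (∑ b, pl v w b * pl v' w' b ^ q) ^ κ

theorem PK.le_finrank [FiniteDimensional k V] (h : PK q j θ κ vv ff) {X Y : Type*} [Fintype X] [Fintype Y]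
    {f : X → (Fin 4 → K) × (Fin 4 → K)} {g : Y → (Fin 4 → K) × (Fin 4 → K)} (hf : ∀ x, Ln q (f x).1 (f x).2)
    (hg : ∀ y, Ln q (g y).1 (g y).2) {c : X → Y → k} {n : ℕ} (hn : Rk c n)
    (hc : ∀ x y, c x y = j (∑ a, (f x).1 a * (g y).1 a ^ q) ^ θ *
      j (∑ b, pl (f x).1 (f x).2 b * pl (g y).1 (g y).2 b ^ q) ^ κ) : n ≤ Module.finrank k V :=
  Rk.le_finrank (vv := fun x => vv (f x).1 (f x).2) (ff := fun y => ff (g y).1 (g y).2) (fun x y => by
    rw [h _ _ _ _ (hf x) (hg y), hc]) hn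

theorem pow_q_sq (hK : Fintype.card K = q ^ 2) (x : K) (n : ℕ) : x ^ (q ^ 2) ^ n = x := by
  rw [← hK, FiniteField.pow_card_pow]

/-- **Frobenius twists.** -/
theorem PK.twist (hK : Fintype.card K = q ^ 2) {p f : ℕ} [hp : Fact p.Prime] [CharP K p] (hf : q = p ^ f) (a : ℕ)
    {θ' : ℕ} (hθ : θ = p ^ a * θ') (h : PK q j θ κ vv ff) (hκ : κ ≠ 0) :
    ∃ κ', κ' ≠ 0 ∧ PK q (j.comp (iterateFrobenius K p a)) θ' κ' vv ff := by
  have hf0 : 0 < f := by
    rcases Nat.eq_zero_or_pos f with h0 | h0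
    · have := two_le_q hK
      rw [hf, h0, pow_zero] at this
      omega
    · exact h0
  have hle : a ≤ 2 * f * a := Nat.le_mul_of_pos_left _ (by omega)
  refine ⟨κ * p ^ (2 * f * a - a), mul_ne_zero hκ (pow_ne_zero _ hp.out.ne_zero), ?_⟩
  intro v w v' w' h1 h2
  rw [h v w v' w' h1 h2, hθ, pow_mul, RingHom.comp_apply, iterateFrobenius_def, map_pow, RingHom.comp_apply,
    iterateFrobenius_def, map_pow]
  congr 1
  set g := ∑ b, pl v w b * pl v' w' b ^ q with hg
  rw [← pow_mul]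
  have e1 : p ^ a * (κ * p ^ (2 * f * a - a)) = (q ^ 2) ^ a * κ := by
    have e2 : p ^ a * p ^ (2 * f * a - a) = (q ^ 2) ^ a := by
      rw [← pow_add, Nat.add_sub_cancel' hle, hf, ← pow_mul, ← pow_mul]
      congr 1
      ring
    rw [← e2]
    ring
  rw [e1, pow_mul, ← map_pow j g ((q ^ 2) ^ a), pow_q_sq hK]

end PK

section red

variable (W : WFrame (PU hK N) m)

/-- the vector with the coordinates `v` at the positions `i`, `i'` -/
noncomputable def vecI (i i' : Fin m) (c : Bool) (v : Fin 4 → K) : Fin N → K :=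
  v 0 • (toFrame W).b (i, c) + v 1 • (toFrame W).b (i, !c) +
    (v 2 • (toFrame W).b (i', c) + v 3 • (toFrame W).b (i', !c))

variable {i i' : Fin m} (hi : i ≠ i')
include hi

theorem herm_vecI_dual (c : Bool) (v w : Fin 4 → K) :
    hermForm N K q (vecI W i i' c v) (vecI W i i' (!c) w) =
      v 0 * w 0 ^ q + v 1 * w 1 ^ q + v 2 * w 2 ^ q + v 3 * w 3 ^ q := by
  unfold vecI
  simp only [herm_add_left, herm_add_right hK, herm_smul_left, herm_smul_right, hb_all]
  cases c <;> simp only [Fin.isValue, and_self, ↓reduceIte, mul_one, Bool.not_false, Bool.not_true, Bool.true_eq_false,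
      and_false, mul_zero, add_zero, Ne.symm hi, and_true, Bool.false_eq_true, zero_add, hi] <;> ring

theorem herm_vecI (c : Bool) (v w : Fin 4 → K) :
    hermForm N K q (vecI W i i' c v) (vecI W i i' c w) =
      v 0 * w 1 ^ q + v 1 * w 0 ^ q + v 2 * w 3 ^ q + v 3 * w 2 ^ q := by
  unfold vecI
  simp only [herm_add_left, herm_add_right hK, herm_smul_left, herm_smul_right, hb_all]
  cases c <;> simp only [Fin.isValue, Bool.not_false, Bool.false_eq_true, and_false, ↓reduceIte, mul_zero, Bool.not_true,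
      and_self, mul_one, zero_add, Ne.symm hi, and_true, add_zero, Bool.true_eq_false, hi] <;> ring

omit hi in
theorem perp_vecI (r : ℕ) (c : Bool) (v : Fin 4 → K) : Perp W r ![i, i'] (vecI W i i' c v) := by
  intro a _ ha c'
  have h0 : a ≠ i := fun h => ha ⟨0, h.symm⟩
  have h1 : a ≠ i' := fun h => ha ⟨1, h.symm⟩
  unfold vecI
  simp only [herm_add_right hK, herm_smul_right, hb_all]
  simp [h0, h1]

omit hi in
theorem inj_pair (hi : i ≠ i') : Function.Injective ![i, i'] := by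
  intro a b hab
  fin_cases a <;> fin_cases b
  · rfl
  · exact absurd hab hi
  · exact absurd hab.symm hi
  · rfl

theorem loc_vecI (r : ℕ) (c : Bool) {v w : Fin 4 → K} (h : Ln q v w) :
    Loc W r ![i, i'] ![vecI W i i' c v, vecI W i i' c w] where
  perp t := by
    fin_cases t
    · exact perp_vecI W r c v
    · exact perp_vecI W r c w
  iso t t' := by
    fin_cases t <;> fin_cases t'
    · exact (herm_vecI W hi c v v).trans h.vv
    · exact (herm_vecI W hi c v w).trans h.vw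
    · exact (herm_vecI W hi c w v).trans h.wv
    · exact (herm_vecI W hi c w w).trans h.ww
  wit := by
    obtain ⟨b, hb⟩ := h.pl_ne
    have key : ∀ y z : Fin 4, v y * w z - v z * w y ≠ 0 → ∃ x : Fin 2 → Fin N → K, (∀ t, Perp W r ![i, i'] (x t)) ∧
        (Matrix.of fun t t' => hermForm N K q (![vecI W i i' c v, vecI W i i' c w] t) (x t')).det ≠ 0 := by
      intro a b hab
      refine ⟨![vecI W i i' (!c) (Pi.single a 1), vecI W i i' (!c) (Pi.single b 1)], fun t => ?_, ?_⟩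
      · fin_cases t
        · exact perp_vecI W _ _ _
        · exact perp_vecI W _ _ _
      · rw [Matrix.det_fin_two]
        simp only [Matrix.of_apply, Matrix.cons_val_zero, Matrix.cons_val_one]
        have e : ∀ (v : Fin 4 → K) (a : Fin 4), hermForm N K q (vecI W i i' c v) (vecI W i i' (!c) (Pi.single a 1)) =
            v a := by
          intro v a
          rw [herm_vecI_dual W hi]
          fin_cases a <;> simp [zero_pow_q hK]
        rw [e, e, e, e]
        intro h0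
        exact hab (by rw [← h0])
    fin_cases b
    · exact key 0 2 hb
    · exact key 0 3 hb
    · exact key 1 2 hb
    · exact key 1 3 hb
    · exact key 0 1 hb
    · exact key 2 3 hb

end red

section

variable {k : Type*} [Field k] {V : Type*} [AddCommGroup V] [Module k V] {j : K →+* k} {θ : Fin m → ℕ}
  {vv : (Fin m → Fin N → K) → V} {ff : (Fin m → Fin N → K) → Module.Dual k V}

/-- **The pair kernel of a module with two nodes.** -/
theorem exists_pk (W : WFrame (PU hK N) m) (h : IsKer q m j θ vv ff) {a b : Fin m} (hab : a < b)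
    (hb : θ b ≠ 0) : ∃ κ, κ ≠ 0 ∧ ∃ (vv' : (Fin 4 → K) → (Fin 4 → K) → V)
      (ff' : (Fin 4 → K) → (Fin 4 → K) → Module.Dual k V), PK q j (θ a) κ vv' ff' := by
  classical
  have ha1 : (a : ℕ) + 1 < m := by
    have := b.2
    have := Fin.lt_def.1 hab
    omega
  let a' : Fin m := ⟨a + 1, ha1⟩
  have haa' : a < a' := Fin.lt_def.2 (Nat.lt_succ_self _)
  have hne : a ≠ a' := haa'.ne
  have hι := inj_pair hne
  refine ⟨∑ i ∈ Finset.univ.filter (fun i => a < i), θ i, ?_,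
    fun v w => vv (upd W.e ![a, a'] ![vecI W a a' true v, vecI W a a' true w]),
    fun v w => ff (upd W.f ![a, a'] ![vecI W a a' false v, vecI W a a' false w]), ?_⟩
  · intro h0
    rw [Finset.sum_eq_zero_iff] at h0
    exact hb (h0 b (Finset.mem_filter.2 ⟨Finset.mem_univ _, hab⟩))
  intro v w v' w' h1 h2
  have hr : ∀ t, (![a, a'] t : ℕ) < m := fun t => (![a, a'] t).2
  have hf1 : PFr q m (upd W.e ![a, a'] ![vecI W a a' true v, vecI W a a' true w]) :=
    pfr_upd hι hr (loc_vecI W hne m true h1) true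
  have hf2 : PFr q m (upd W.f ![a, a'] ![vecI W a a' false v', vecI W a a' false w']) :=
    pfr_upd hι hr (loc_vecI W hne m false h2) false
  rw [h.ker _ _ hf1 hf2]
  have hy : ∀ t, Perp W m ![a, a'] (![vecI W a a' false v', vecI W a a' false w'] t) :=
    (loc_vecI W hne m false h2).perp
  -- the minors
  have g0 : ∀ i : Fin m, i < a → Gr q i (upd W.e ![a, a'] ![vecI W a a' true v, vecI W a a' true w])
      (upd W.f ![a, a'] ![vecI W a a' false v', vecI W a a' false w']) = 1 := by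
    intro i hi
    rw [Gr_upd hι hy (s' := 0) (κ := fun t => t.elim0) (fun t => t.elim0) i.2 (fun t => t.elim0) (fun t _ => by
      fin_cases t
      · exact not_le.2 hi
      · exact not_le.2 (hi.trans haa')), Matrix.det_isEmpty]
  have g1 : Gr q a (upd W.e ![a, a'] ![vecI W a a' true v, vecI W a a' true w])
      (upd W.f ![a, a'] ![vecI W a a' false v', vecI W a a' false w']) = ∑ i, v i * v' i ^ q := by
    rw [Gr_upd hι hy (s' := 1) (κ := fun _ => 0) (fun s t _ => Subsingleton.elim s t) a.2 (fun t => le_rfl)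
      (fun t ht => by
        fin_cases t
        · exact absurd ⟨0, rfl⟩ ht
        · exact not_le.2 haa'), Matrix.det_fin_one, Matrix.of_apply]
    refine (herm_vecI_dual W hne true v v').trans ?_
    rw [Fin.sum_univ_four]
  have g2 : ∀ i : Fin m, a < i → Gr q i (upd W.e ![a, a'] ![vecI W a a' true v, vecI W a a' true w])
      (upd W.f ![a, a'] ![vecI W a a' false v', vecI W a a' false w']) = ∑ b, pl v w b * pl v' w' b ^ q := by
    intro i hi
    have hi' : a' ≤ i := Fin.le_def.2 (Nat.succ_le_of_lt (Fin.lt_def.1 hi))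
    rw [Gr_upd hι hy (s' := 2) (κ := id) Function.injective_id i.2 (fun t => by
      fin_cases t
      · exact hi.le
      · exact hi') (fun t ht => absurd ⟨t, rfl⟩ ht), Matrix.det_fin_two]
    simp only [Matrix.of_apply, id, Matrix.cons_val_zero, Matrix.cons_val_one]
    have e := herm_vecI_dual W hne true
    simp only [Bool.not_true] at e
    rw [e, e, e, e]
    have hs : ∀ a b : K, (a - b) ^ q = a ^ q - b ^ q := fun a b => by
      rw [sub_eq_add_neg, add_pow_q hK, neg_pow_q hK, ← sub_eq_add_neg]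
    simp only [Fin.sum_univ_six, pl, Matrix.cons_val]
    simp only [hs, mul_pow]
    ring
  rw [← Finset.prod_pow_eq_pow_sum, Finset.prod_filter, ← Finset.mul_prod_erase Finset.univ _ (Finset.mem_univ a), g1]
  congr 1
  rw [← Finset.mul_prod_erase Finset.univ _ (Finset.mem_univ a), if_neg (lt_irrefl a), one_mul]
  refine Finset.prod_congr rfl fun i hi => ?_
  have hia := Finset.ne_of_mem_erase hi
  rcases lt_or_gt_of_ne hia with h3 | h3
  · rw [g0 i h3, map_one, one_pow, if_neg (not_lt.2 h3.le)]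
  · rw [g2 i h3, if_pos h3]

end

end Cfsg.Agent.H876.D3
end

-- part: H876/D3/Flags
section
/-!
# Pair kernels: the bound from the flags `(x + l y, y)` (helper876)

* `flags_rk`, **`flags_bound`** : `∑ i ∈ Ib p θ, RR (θ - i + κ) * RR (i + κ) ≤ dim V`.
-/

set_option autoImplicit false
set_option linter.unusedSectionVars false

namespace Cfsg.Agent.H876.D3

open Cfsg Cfsg.Geo Matrix
open LieClassical.HermBasic LieClassical.HermSiegel Cfsg.Agent.TitsThree.KSideU Cfsg.Agent.TitsThree.KSideUDesc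
  Cfsg.Agent.TitsThree.WBridge Cfsg.Agent.TitsThree.SiegelGen Cfsg.Agent.TitsThree.Siegel Cfsg.Agent.H61.SUCross
  Cfsg.Agent.TitsThree.WittFrame
open Cfsg.Agent.Phan (fixedField mem_fixedField card_fixedField)

variable {K : Type} [Field K] [Fintype K] {q : ℕ} {hK : Fintype.card K = q ^ 2}

theorem ln_SF (hK : Fintype.card K = q ^ 2) {ε : K} (hε : ε ^ q = -ε) (l s t : K) (hs : s ^ q = s) (ht : t ^ q = t) :
    Ln q ![1, ε * s, l, l * (ε * t)] ![0, 0, 1, ε * t] where
  vv := by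
    simp only [mul_pow, hε, hs, ht, _root_.Fin.isValue, _root_.Matrix.cons_val_zero, _root_.Matrix.cons_val_one, _root_.neg_mul, _root_.mul_neg, _root_.one_mul, _root_.one_pow, _root_.mul_one, _root_.neg_add_cancel, _root_.Matrix.cons_val, _root_.zero_add]
    ring
  vw := by
    simp [mul_pow, hε, ht, zero_pow_q hK]
  wv := by
    simp only [mul_pow, hε, ht, _root_.Fin.isValue, _root_.Matrix.cons_val_zero, _root_.Matrix.cons_val_one, _root_.neg_mul, _root_.mul_neg, _root_.MulZeroClass.zero_mul, _root_.neg_zero, _root_.one_pow, _root_.mul_one, _root_.add_zero, _root_.Matrix.cons_val, _root_.one_mul, _root_.zero_add]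
    ring
  ww := by simp [mul_pow, hε, ht, zero_pow_q hK]
  pl_ne := ⟨0, by simp [pl]⟩

section

variable {k : Type*} [Field k] {p : ℕ} [hp : Fact p.Prime] [CharP k p]

/-- **The rank of the kernel on the flags.** -/
theorem flags_rk (hK : Fintype.card K = q ^ 2) [Fintype (fixedField hK)] (j : K →+* k) {c : fixedField hK} (hc0 : c ≠ 0) {θ κ : ℕ}
    (hθ : θ < q ^ 2) :
    Rk (fun x y : K × (fixedField hK × fixedField hK) =>
      j (((1 + c * (x.2.1 * y.2.1) : fixedField hK) : K) + x.1 * y.1 ^ q * ((1 + c * (x.2.2 * y.2.2) : fixedField hK) : K)) ^ θ *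
        j (((1 + c * (x.2.1 * y.2.1) : fixedField hK) : K) * ((1 + c * (x.2.2 * y.2.2) : fixedField hK) : K)) ^ κ)
      (∑ i ∈ Ib p θ, RR p q (θ - i + κ) * RR p q (i + κ)) := by
  classical
  let jE : fixedField hK →+* k := j.comp (fixedField hK).subtype
  refine Rk.graded (τ := j) (τ' := jb hK j) (κc := fun i x y => (θ.choose i : k) *
    (jE (1 + c * (x.1 * y.1)) ^ (θ - i + κ) * jE (1 + c * (x.2 * y.2)) ^ (i + κ))) j.injective (jb hK j).injective
    (fun i hi => by rw [hK]; exact (mem_Ib.1 hi).1.trans_lt hθ) ?_ ?_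
  · intro l x l' y
    have e1 : ∀ a : fixedField hK, j (a : K) = jE a := fun a => rfl
    simp only
    rw [map_add, map_mul, map_mul, map_mul, e1, e1, ← jb_apply hK, add_pow_Ib (p := p), Finset.sum_mul]
    refine Finset.sum_congr rfl fun i _ => ?_
    rw [mul_pow, mul_pow, mul_pow, pow_add, pow_add]
    ring
  · intro i hi
    have h1 := Rk_RR (p := p) jE hc0 (θ - i + κ)
    have h2 := Rk_RR (p := p) jE hc0 (i + κ)
    rw [card_E] at h1 h2
    exact (h1.kron h2).scale (a := fun _ => (θ.choose i : k)) (b := fun _ => 1) (fun _ => choose_ne hi)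
      (fun _ => one_ne_zero) (fun x y => by rw [mul_one])

theorem flags_eq1 {ε : K} (hε : ε ^ q = -ε) {c : fixedField hK} (hc : (c : K) = -ε ^ 2) (l l' : K)
    (x y : fixedField hK × fixedField hK) :
    ∑ a, (![1, ε * (x.1 : K), l, l * (ε * x.2)] : Fin 4 → K) a * ![1, ε * (y.1 : K), l', l' * (ε * y.2)] a ^ q =
      ((1 + c * (x.1 * y.1) : fixedField hK) : K) + l * l' ^ q * ((1 + c * (x.2 * y.2) : fixedField hK) : K) := by
  simp only [Fin.sum_univ_four, Matrix.cons_val]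
  push_cast
  simp only [mul_pow, one_pow, hε, E_q hK]
  rw [hc]
  ring

theorem flags_eq2 {ε : K} (hε : ε ^ q = -ε) {c : fixedField hK} (hc : (c : K) = -ε ^ 2) (l l' : K)
    (x y : fixedField hK × fixedField hK) :
    ∑ b, pl ![1, ε * (x.1 : K), l, l * (ε * x.2)] ![0, 0, 1, ε * (x.2 : K)] b *
      pl ![1, ε * (y.1 : K), l', l' * (ε * y.2)] ![0, 0, 1, ε * (y.2 : K)] b ^ q =
      ((1 + c * (x.1 * y.1) : fixedField hK) : K) * ((1 + c * (x.2 * y.2) : fixedField hK) : K) := by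
  have h1 : ∀ (l : K) (x : fixedField hK × fixedField hK), pl ![1, ε * (x.1 : K), l, l * (ε * x.2)]
      ![0, 0, 1, ε * (x.2 : K)] = pl ![1, ε * (x.1 : K), 0, 0] ![0, 0, 1, ε * (x.2 : K)] := by
    intro l x
    ext b
    (revert b; simp [pl, Fin.isValue, cons_val_zero, cons_val, mul_one, mul_zero, sub_zero, one_mul, cons_val_one, sub_self, Fin.zero_eta, zero_mul, Fin.mk_one, Fin.reduceFinMk, _root_.Fin.forall_fin_succ])
  rw [h1, h1]
  exact G2_SS hε hc x y

variable {V : Type*} [AddCommGroup V] [Module k V] [FiniteDimensional k V] {j : K →+* k} {θ κ : ℕ}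
  {vv : (Fin 4 → K) → (Fin 4 → K) → V} {ff : (Fin 4 → K) → (Fin 4 → K) → Module.Dual k V}

/-- **The bound from the flags.** -/
theorem flags_bound (hK : Fintype.card K = q ^ 2) (h : PK q j θ κ vv ff) (hθ : θ < q ^ 2) :
    ∑ i ∈ Ib p θ, RR p q (θ - i + κ) * RR p q (i + κ) ≤ Module.finrank k V := by
  obtain ⟨ε, c, hε, hε0, hc0, hc⟩ := exists_c hK
  have : Fintype (fixedField hK) := Fintype.ofFinite _
  refine h.le_finrank
    (f := fun x : K × (fixedField hK × fixedField hK) => (![1, ε * (x.2.1 : K), x.1, x.1 * (ε * x.2.2)],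
      ![0, 0, 1, ε * (x.2.2 : K)]))
    (g := fun x : K × (fixedField hK × fixedField hK) => (![1, ε * (x.2.1 : K), x.1, x.1 * (ε * x.2.2)],
      ![0, 0, 1, ε * (x.2.2 : K)])) (fun x => ln_SF hK hε _ _ _ (E_q hK _) (E_q hK _))
    (fun x => ln_SF hK hε _ _ _ (E_q hK _) (E_q hK _)) (flags_rk hK j hc0 hθ) (fun x y => ?_)
  rw [flags_eq1 hε hc, flags_eq2 hε hc]

end

end Cfsg.Agent.H876.D3
end

-- part: H876/D3/FlagsNum
section
/-!
# Pair kernels: numerical consequences (helper876)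

* **`pk_cases`** : `13 ≤ dim V`, or after a twist `θ = 1` and `red q κ = 1`, or `p = 3`, `θ = 1` and `red q κ = 2`.
-/

set_option autoImplicit false
set_option linter.unusedSectionVars false

namespace Cfsg.Agent.H876.D3

open Cfsg Cfsg.Geo Matrix
open Cfsg.Agent.Phan (fixedField mem_fixedField card_fixedField)

section

variable {p : ℕ} [hp : Fact p.Prime]

theorem card_Ib_top (f : ℕ) : p ^ f ≤ (Ib p (p ^ f - 1)).card := by
  induction f with
  | zero => rw [pow_zero, Nat.sub_self, card_Ib_zero]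
  | succ f ih =>
    have h1 := card_Ib_mul (p := p) (t := p ^ f - 1) (d := p - 1) (Nat.sub_lt hp.out.pos one_pos)
    have h2 : p * (p ^ f - 1) + (p - 1) = p ^ (f + 1) - 1 := by
      have h3 : 1 ≤ p ^ f := Nat.one_le_pow _ _ hp.out.pos
      have h4 : p * (p ^ f - 1) = p ^ (f + 1) - p := by rw [Nat.mul_sub, mul_one, pow_succ']
      have h5 : p ≤ p ^ (f + 1) := by
        rw [pow_succ']
        exact Nat.le_mul_of_pos_right _ h3
      have h6 := hp.out.pos
      omega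
    rw [h2, Nat.sub_add_cancel hp.out.one_lt.le] at h1
    refine le_trans ?_ h1
    rw [pow_succ']
    exact Nat.mul_le_mul_left _ ih

theorem three_le_of_ne_pow {r : ℕ} (hr : r ≠ 0) (h : ∀ a, r ≠ p ^ a) : 3 ≤ (Ib p r).card := by
  rcases Ib_cases (p := p) hr with ⟨a, ha⟩ | ⟨h5, -⟩ | ⟨h5, -⟩ | h5
  · exact absurd ha (h a)
  all_goals omega

/-- consecutive exponents -/
theorem seven_le {r : ℕ} (hr : 1 < r) (h3 : ¬ (p = 3 ∧ r = 2)) : 7 ≤ (Ib p r).card * (Ib p (r + 1)).card := by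
  have h2 := two_le_card_Ib (p := p) (θ := r) (by omega)
  have h2' := two_le_card_Ib (p := p) (θ := r + 1) (by omega)
  rcases Ib_cases (p := p) (θ := r) (by omega) with ⟨a, ha⟩ | ⟨h4, h5, a, ha⟩ | ⟨h4, -⟩ | h4
  · have ha0 : 0 < a := by
      rcases Nat.eq_zero_or_pos a with rfl | h
      · rw [pow_zero] at ha; omega
      · exact h
    have h4 := card_Ib_succ (p := p) ha0
    rw [← ha, add_comm 1 r] at h4
    have : 2 * 4 ≤ (Ib p r).card * (Ib p (r + 1)).card := Nat.mul_le_mul h2 h4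
    omega
  · have h6 : 3 ≤ (Ib p (r + 1)).card := by
      refine three_le_of_ne_pow (by omega) fun b hb => ?_
      rcases Nat.eq_zero_or_pos b with rfl | hb0
      · rw [pow_zero] at hb; omega
      rcases Nat.eq_zero_or_pos a with rfl | ha0
      · rw [pow_zero, mul_one] at ha
        rw [ha] at hb
        have h7 : p ∣ 3 := by rw [show (3 : ℕ) = 2 + 1 from rfl, hb]; exact dvd_pow_self p hb0.ne'
        have h8 := (Nat.prime_dvd_prime_iff_eq hp.out Nat.prime_three).1 h7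
        exact h3 ⟨h8, ha⟩
      · have h7 : p ∣ r := by rw [ha]; exact Dvd.dvd.mul_left (dvd_pow_self p ha0.ne') _
        have h8 : p ∣ r + 1 := by rw [hb]; exact dvd_pow_self p hb0.ne'
        have h9 := (Nat.dvd_add_right h7).1 h8
        exact hp.out.one_lt.ne' (Nat.dvd_one.1 h9)
    have : 3 * 3 ≤ (Ib p r).card * (Ib p (r + 1)).card := Nat.mul_le_mul h4 h6
    omega
  · have : 4 * 2 ≤ (Ib p r).card * (Ib p (r + 1)).card := Nat.mul_le_mul h4 h2'
    omega
  · have : 5 * 2 ≤ (Ib p r).card * (Ib p (r + 1)).card := Nat.mul_le_mul h4 h2'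
    omega

theorem Ib_one : Ib p 1 = {0, 1} := by
  ext i
  rw [mem_Ib, Finset.mem_insert, Finset.mem_singleton]
  constructor
  · intro h; omega
  · rintro (rfl | rfl)
    · exact mem_Ib.1 (zero_mem_Ib 1)
    · exact mem_Ib.1 (self_mem_Ib 1)

theorem Ib_two (h2 : p ≠ 2) : Ib p 2 = {0, 1, 2} := by
  ext i
  rw [mem_Ib, Finset.mem_insert, Finset.mem_insert, Finset.mem_singleton]
  constructor
  · intro h; omega
  · rintro (rfl | rfl | rfl)
    · exact mem_Ib.1 (zero_mem_Ib 2)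
    · refine ⟨by norm_num, ?_⟩
      rw [Nat.choose_one_right]
      intro h
      exact h2 ((Nat.prime_dvd_prime_iff_eq hp.out Nat.prime_two).1 h)
    · exact mem_Ib.1 (self_mem_Ib 2)

/-- the exceptional exponents -/
theorem RR_cases {q f κ : ℕ} (hf : q = p ^ f) (hq : 2 ≤ q) (hκ : κ ≠ 0) :
    7 ≤ RR p q (1 + κ) * RR p q κ ∨ red q κ = 1 ∨ (p = 3 ∧ red q κ = 2) := by
  rw [RR_of_ne hκ, RR_of_ne (by omega : 1 + κ ≠ 0)]
  by_cases h1 : red q κ = 1
  · exact Or.inr (Or.inl h1)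
  by_cases h2 : p = 3 ∧ red q κ = 2
  · exact Or.inr (Or.inr h2)
  left
  have h0 := red_ne_zero q κ
  by_cases h3 : red q κ = q - 1
  · have h4 : q ≤ (Ib p (red q κ)).card := by rw [h3, hf]; exact card_Ib_top f
    have h5 := two_le_card_Ib (p := p) (red_ne_zero q (1 + κ))
    have h6 : 4 ≤ q := by
      by_contra h7
      have h8 : q = 3 := by omega
      have h9 : p ∣ 3 := by
        rw [← h8, hf]
        refine dvd_pow_self p ?_
        rintro rfl
        rw [pow_zero] at hf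
        omega
      exact h2 ⟨(Nat.prime_dvd_prime_iff_eq hp.out Nat.prime_three).1 h9, by omega⟩
    have : 2 * 4 ≤ (Ib p (red q (1 + κ))).card * (Ib p (red q κ)).card := Nat.mul_le_mul h5 (h6.trans h4)
    omega
  · have h4 : red q (1 + κ) = red q κ + 1 := by
      rw [add_comm]
      exact red_succ hκ (lt_of_le_of_ne (red_le hq) h3)
    rw [h4, mul_comm]
    exact seven_le (by omega) h2

end

variable {K : Type} [Field K] [Fintype K] {q : ℕ} {hK : Fintype.card K = q ^ 2}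

section

variable {k : Type*} [Field k] {p : ℕ} [hp : Fact p.Prime] [CharP k p] [CharP K p]
variable {V : Type*} [AddCommGroup V] [Module k V] [FiniteDimensional k V] {j : K →+* k} {θ κ : ℕ}
  {vv : (Fin 4 → K) → (Fin 4 → K) → V} {ff : (Fin 4 → K) → (Fin 4 → K) → Module.Dual k V}

theorem parity_RR {e : ℕ} (hp2 : p ≠ 2) (hq : 2 ≤ q) (hodd : Odd q) (he : e ≠ 0) (hev : Even e) : 3 ≤ RR p q e := by
  rw [RR_of_ne he]
  refine three_le_of_ne_pow (red_ne_zero _ _) fun a ha => ?_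
  have h1 := red_modEq (Q := q) he
  have h2 : 2 ∣ q - 1 := by
    obtain ⟨l, hl⟩ := hodd
    exact ⟨l, by omega⟩
  have h3 : red q e ≡ e [MOD 2] := h1.of_dvd h2
  have h4 : Odd (p ^ a) := (hp.out.odd_of_ne_two hp2).pow
  rw [← ha] at h4
  have h5 := Nat.odd_iff.1 h4
  have h6 := Nat.even_iff.1 hev
  unfold Nat.ModEq at h3
  omega

/-- **Two nodes: the numerical part.** -/
theorem pk_cases (hK : Fintype.card K = q ^ 2) {f : ℕ} (hf : q = p ^ f) (h : PK q j θ κ vv ff) (h0 : θ ≠ 0)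
    (hθ : θ < q ^ 2) (hκ : κ ≠ 0) : 13 ≤ Module.finrank k V ∨
      (∃ (j' : K →+* k) (κ' : ℕ), κ' ≠ 0 ∧ red q κ' = 1 ∧ PK q j' 1 κ' vv ff) ∨
      (p = 3 ∧ ∃ (j' : K →+* k) (κ' : ℕ), κ' ≠ 0 ∧ red q κ' = 2 ∧ PK q j' 1 κ' vv ff) := by
  have hq := two_le_q hK
  have hfour : 4 ≤ (Ib p θ).card → 13 ≤ Module.finrank k V := by
    intro h4
    have h1 := flags_bound (p := p) hK h hθ
    have h2 : 4 * (Ib p θ).card ≤ ∑ i ∈ Ib p θ, RR p q (θ - i + κ) * RR p q (i + κ) := by
      rw [mul_comm, ← smul_eq_mul]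
      refine Finset.card_nsmul_le_sum _ _ _ fun i hi => ?_
      exact Nat.mul_le_mul (two_le_RR (p := p) (by omega)) (two_le_RR (p := p) (by omega)) |>.trans' (by norm_num)
    omega
  rcases Ib_cases (p := p) h0 with ⟨a, ha⟩ | ⟨-, hp2, a, ha⟩ | ⟨h4, -⟩ | h4
  · obtain ⟨κ', hκ', h'⟩ := h.twist hK hf a (θ' := 1) (by rw [ha, mul_one]) hκ
    rcases RR_cases (p := p) hf hq hκ' with h1 | h1 | ⟨h1, h2⟩
    · left
      have h2 := flags_bound (p := p) hK h' (by nlinarith only [hq])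
      rw [Ib_one, Finset.sum_pair (by norm_num)] at h2
      simp only [Nat.sub_zero, Nat.sub_self, zero_add] at h2
      rw [mul_comm (RR p q κ') (RR p q (1 + κ'))] at h2
      omega
    · exact Or.inr (Or.inl ⟨_, κ', hκ', h1, h'⟩)
    · exact Or.inr (Or.inr ⟨h1, _, κ', hκ', h2, h'⟩)
  · left
    obtain ⟨κ', hκ', h'⟩ := h.twist hK hf a (θ' := 2) (by rw [ha, mul_comm]) hκ
    have hodd : Odd q := by rw [hf]; exact (hp.out.odd_of_ne_two hp2).pow
    have h2 := flags_bound (p := p) hK h' (by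
      have h3 : q ≠ 2 := by
        rintro rfl
        exact absurd hodd (by decide)
      have h4 : 3 ≤ q := by omega
      nlinarith only [hq, h4])
    rw [Ib_two hp2, Finset.sum_insert (by simp), Finset.sum_pair (by norm_num)] at h2
    simp only [Nat.sub_zero, Nat.sub_self, zero_add, Nat.reduceSub] at h2
    have e0 := two_le_RR (p := p) (Q := q) (e := κ') hκ'
    have e1 := two_le_RR (p := p) (Q := q) (e := 1 + κ') (by omega)
    have e2 := two_le_RR (p := p) (Q := q) (e := 2 + κ') (by omega)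
    rcases Nat.even_or_odd κ' with hev | hev
    · have e3 := parity_RR (p := p) hp2 hq hodd hκ' hev
      have e4 : 2 * 3 ≤ RR p q (2 + κ') * RR p q κ' := Nat.mul_le_mul e2 e3
      have e5 : 2 * 2 ≤ RR p q (1 + κ') * RR p q (1 + κ') := Nat.mul_le_mul e1 e1
      rw [mul_comm (RR p q κ') (RR p q (2 + κ'))] at h2
      omega
    · have e3 := parity_RR (p := p) hp2 hq hodd (e := 1 + κ') (by omega) (by
        rw [add_comm]
        exact hev.add_one)
      have e4 : 2 * 2 ≤ RR p q (2 + κ') * RR p q κ' := Nat.mul_le_mul e2 e0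
      have e5 : 3 * 3 ≤ RR p q (1 + κ') * RR p q (1 + κ') := Nat.mul_le_mul e3 e3
      rw [mul_comm (RR p q κ') (RR p q (2 + κ'))] at h2
      omega
  · exact Or.inl (hfour h4)
  · exact Or.inl (hfour (by omega))

end

end Cfsg.Agent.H876.D3
end

-- part: H887/D3/ExOne
section
/-!
# The pair kernel `j(h) · j(G_2)^κ`, `t^κ = t` on the subfield (helper887)

`ex1`: the dimension is at least `14`.
-/

set_option autoImplicit false
set_option linter.unusedSectionVars false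

namespace Cfsg.Agent.H887.D3

open Cfsg Cfsg.Geo Matrix Cfsg.Agent.H876.D3
open LieClassical.HermBasic LieClassical.HermSiegel Cfsg.Agent.TitsThree.KSideU Cfsg.Agent.TitsThree.KSideUDesc
  Cfsg.Agent.TitsThree.WBridge Cfsg.Agent.TitsThree.SiegelGen Cfsg.Agent.TitsThree.Siegel Cfsg.Agent.H61.SUCross
  Cfsg.Agent.TitsThree.WittFrame

variable {K : Type} [Field K] [Fintype K] {q : ℕ} {k : Type*} [Field k]

/-- normalized isotropic lines -/
structure Nf (q : ℕ) (v w : Fin 4 → K) : Prop where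
  ln : Ln q v w
  p0 : pl v w 0 ^ q = pl v w 0
  p1 : pl v w 1 ^ q = -pl v w 1
  p2 : pl v w 2 ^ q = -pl v w 2
  p3 : pl v w 3 ^ q = pl v w 3
  p4 : pl v w 4 ^ q = pl v w 5

theorem Nf.p5 (hK : Fintype.card K = q ^ 2) {v w : Fin 4 → K} (h : Nf q v w) : pl v w 5 ^ q = pl v w 4 := by
  rw [← h.p4, pow_q_pow_q hK]

theorem Nf.fix (hK : Fintype.card K = q ^ 2) {v w v' w' : Fin 4 → K} (h : Nf q v w) (h' : Nf q v' w') :
    (∑ b, pl v w b * pl v' w' b ^ q) ^ q = ∑ b, pl v w b * pl v' w' b ^ q := by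
  rw [sum_pow_q hK]
  simp only [mul_pow, pow_q_pow_q hK, Fin.sum_univ_six, h.p0, h.p1, h.p2, h.p3, h.p4, h.p5 hK, h'.p0, h'.p1, h'.p2,
    h'.p3, h'.p4, h'.p5 hK]
  ring

theorem nf_A (hK : Fintype.card K = q ^ 2) {ε : K} (hε : ε ^ q = -ε) {s t s' t' : K} (hs : s ^ q = s)
    (ht : t ^ q = t) (hs' : s' ^ q = s') (ht' : t' ^ q = t')
    (hne : ∃ b, pl ![s, ε * t, 0, 0] ![0, 0, s', ε * t'] b ≠ 0) :
    Nf q ![s, ε * t, 0, 0] ![0, 0, s', ε * t'] := by
  have z := zero_pow_q (F := K) hK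
  refine ⟨⟨?_, ?_, ?_, ?_, hne⟩, ?_, ?_, ?_, ?_, ?_⟩ <;>
    simp only [Fin.isValue, cons_val_zero, cons_val_one, mul_pow, hε, ht, neg_mul, mul_neg, hs, cons_val, z, mul_zero,
        add_zero, ht', zero_mul, neg_zero, hs', zero_add, pl, sub_zero, sub_self, _root_.neg_neg] <;> ring

theorem nf_l (hK : Fintype.card K = q ^ 2) (z : K) : Nf q ![1, 0, 0, z] ![0, -z ^ q, 1, 0] := by
  have h0 := zero_pow_q (F := K) hK
  refine ⟨ln_ell hK z, ?_, ?_, ?_, ?_, ?_⟩ <;>
    simp [pl, h0, mul_pow, neg_pow_q hK, pow_q_pow_q hK, mul_comm]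

theorem nf_l' (hK : Fintype.card K = q ^ 2) {ε : K} (hε : ε ^ q = -ε) (hε0 : ε ≠ 0) (z : K) :
    Nf q ![1, 0, z, 0] ![0, -(ε * z ^ q), 0, ε] := by
  have h0 := zero_pow_q (F := K) hK
  refine ⟨⟨?_, ?_, ?_, ?_, 1, ?_⟩, ?_, ?_, ?_, ?_, ?_⟩ <;>
    simp only [Fin.isValue, cons_val_zero, cons_val_one, h0, mul_zero, one_pow, mul_one, add_zero, cons_val, zero_mul,
        neg_pow_q hK, mul_pow, hε, pow_q_pow_q hK, neg_mul, _root_.neg_neg, one_mul, mul_neg, zero_add, neg_add_cancel,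
        neg_zero, pl, sub_self, sub_zero, sub_neg_eq_add, ne_eq, hε0, not_false_eq_true, neg_inj] <;> ring

theorem Nf.swap (hK : Fintype.card K = q ^ 2) {v w : Fin 4 → K} (h : Nf q v w) : Nf q w (-v) := by
  have hp : ∀ b, pl w (-v) b = pl v w b := by
    intro b
    (revert b; simp only [pl, Fin.isValue, Pi.neg_apply, mul_neg, sub_neg_eq_add, Fin.zero_eta, cons_val_zero, Fin.mk_one, cons_val_one, Fin.reduceFinMk, cons_val, _root_.Fin.forall_fin_succ, _root_.Matrix.cons_val_succ, _root_.Matrix.cons_val_fin_one, _root_.forall_const]) <;> (repeat' with_reducible apply And.intro) <;> ring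
  refine ⟨⟨h.ln.ww, ?_, ?_, ?_, ?_⟩, ?_, ?_, ?_, ?_, ?_⟩
  · simp only [Pi.neg_apply, neg_pow_q hK]
    linear_combination -h.ln.wv
  · simp only [Pi.neg_apply]
    linear_combination -h.ln.vw
  · simp only [Pi.neg_apply, neg_pow_q hK]
    linear_combination h.ln.vv
  · obtain ⟨b, hb⟩ := h.ln.pl_ne
    exact ⟨b, by rwa [hp]⟩
  · rw [hp]; exact h.p0
  · rw [hp]; exact h.p1
  · rw [hp]; exact h.p2
  · rw [hp]; exact h.p3
  · rw [hp, hp]; exact h.p4

/-- the products -/
def F24 (j : K →+* k) (v w : Fin 4 → K) (p : Fin 4 × Fin 6) : k := j (v p.1) * j (pl v w p.2)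

theorem rel24 (hK : Fintype.card K = q ^ 2) (j : K →+* k) {c : Fin 4 × Fin 6 → k}
    (h : ∀ v w : Fin 4 → K, Nf q v w → ∑ p, F24 j v w p * c p = 0) (s1 : c (1, 0) = 0) (s2 : c (1, 1) = 0)
    (s3 : c (3, 0) = 0) (s4 : c (3, 2) = 0) (s5 : c (0, 4) = 0) : c = 0 := by
  have z := zero_pow_q (F := K) hK
  have hq : 2 ≤ q := two_le_q hK
  obtain ⟨ε, hε, hε0⟩ := exists_delta hK
  have hj : j ε ≠ 0 := (map_ne_zero j).2 hε0
  have i0 : (0 : K) ^ q = 0 := z
  have i1 : (1 : K) ^ q = 1 := one_pow _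
  have a00 := h _ _ (nf_A hK hε i1 i0 i1 i0 ⟨0, by simp [pl]⟩)
  have a01 := h _ _ (nf_A hK hε i1 i0 i0 i1 ⟨1, by simp [pl, hε0]⟩)
  have a10 := h _ _ (nf_A hK hε i0 i1 i1 i0 ⟨2, by simp [pl, hε0]⟩)
  have a11 := h _ _ (nf_A hK hε i0 i1 i0 i1 ⟨3, by simp [pl, hε0]⟩)
  have a20 := h _ _ (nf_A hK hε i1 i1 i1 i0 ⟨0, by simp [pl]⟩)
  have a21 := h _ _ (nf_A hK hε i1 i1 i0 i1 ⟨1, by simp [pl, hε0]⟩)
  have b00 := h _ _ ((nf_A hK hε i1 i0 i1 i0 ⟨0, by simp [pl]⟩).swap hK)
  have b10 := h _ _ ((nf_A hK hε i0 i1 i1 i0 ⟨2, by simp [pl, hε0]⟩).swap hK)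
  have b01 := h _ _ ((nf_A hK hε i1 i0 i0 i1 ⟨1, by simp [pl, hε0]⟩).swap hK)
  have b11 := h _ _ ((nf_A hK hε i0 i1 i0 i1 ⟨3, by simp [pl, hε0]⟩).swap hK)
  have b02 := h _ _ ((nf_A hK hε i1 i0 i1 i1 ⟨0, by simp [pl]⟩).swap hK)
  have b12 := h _ _ ((nf_A hK hε i0 i1 i1 i1 ⟨2, by simp [pl, hε0]⟩).swap hK)
  simp only [F24, mul_zero, pl, Fin.isValue, cons_val_zero, cons_val, mul_one, sub_zero, sub_self, cons_val_one,
      Fintype.sum_prod_type, Fin.sum_univ_six, map_one, map_zero, zero_mul, add_zero, Fin.sum_univ_four, one_mul, s1, s3,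
      zero_add, s2, mul_eq_zero, hj, false_or, s4, or_self, map_mul, Pi.neg_apply, neg_zero, mul_neg, sub_neg_eq_add]
    at a00 a01 a10 a11 a20 a21 b00 b01 b10 b11 b02 b12
  have hjj : j ε * j ε ≠ 0 := mul_ne_zero hj hj
  have c02 : c (0, 2) = 0 := by
    have : j ε * c (0, 2) = 0 := by linear_combination a20 - a00 - j ε * j ε * a10
    exact (mul_eq_zero.1 this).resolve_left hj
  have c03 : c (0, 3) = 0 := by
    have : j ε * j ε * c (0, 3) = 0 := by
      linear_combination a21 - j ε * a01 - j ε * (j ε * j ε) * a11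
    exact (mul_eq_zero.1 this).resolve_left hjj
  have c21 : c (2, 1) = 0 := by
    have : j ε * c (2, 1) = 0 := by linear_combination b02 - b00 - j ε * j ε * b01
    exact (mul_eq_zero.1 this).resolve_left hj
  have c23 : c (2, 3) = 0 := by
    have : j ε * j ε * c (2, 3) = 0 := by
      linear_combination b12 - j ε * b10 - j ε * (j ε * j ε) * b11
    exact (mul_eq_zero.1 this).resolve_left hjj
  have hlt : q + 1 < Fintype.card K := by rw [hK]; nlinarith only [hq]
  have l1 : ∀ t : K, c (0, 5) * j t ^ 1 + c (3, 5) * j t ^ 2 + c (3, 4) * j t ^ (q + 1) = 0 := by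
    intro t
    have := h _ _ (nf_l hK t)
    simp only [F24, pl, Fin.isValue, cons_val_zero, cons_val, mul_one, mul_zero, sub_zero, sub_self, cons_val_one, mul_neg,
        zero_mul, neg_zero, sub_neg_eq_add, zero_add, one_mul, zero_sub, Fintype.sum_prod_type, Fin.sum_univ_six, map_one,
        map_zero, add_zero, map_mul, map_pow, map_neg, neg_mul, Fin.sum_univ_four, a00, c03, s5, s3, b11] at this
    linear_combination -this
  have k1 := pow_indep (k := k) (T := K) (τ := j) j.injective ![1, 2, q + 1] (by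
      intro a b hab
      fin_cases a <;> fin_cases b <;> simp at hab ⊢ <;> omega) (by
      intro a
      (revert a; simp only [_root_.Fin.forall_fin_succ, _root_.Nat.succ_eq_add_one, Nat.reduceAdd, Fin.isValue, _root_.Matrix.cons_val_zero, _root_.Matrix.cons_val_succ, _root_.Matrix.cons_val_fin_one, _root_.forall_const]) <;> (repeat' with_reducible apply And.intro) <;> omega) ![c (0, 5), c (3, 5), c (3, 4)] (by
      intro t
      simpa only [Fin.sum_univ_three, _root_.Nat.succ_eq_add_one, _root_.Nat.reduceAdd, _root_.Fin.isValue, _root_.Matrix.cons_val_zero, _root_.pow_one, _root_.Matrix.cons_val_one, _root_.Matrix.cons_val] using l1 t)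
  have c05 : c (0, 5) = 0 := congrFun k1 0
  have c35 : c (3, 5) = 0 := congrFun k1 1
  have c34 : c (3, 4) = 0 := congrFun k1 2
  have l2 : ∀ t : K, c (2, 5) * j t ^ 2 + (-c (2, 4)) * j t ^ (q + 1) = 0 := by
    intro t
    have := h _ _ (nf_l' hK hε hε0 t)
    simp only [F24, pl, Fin.isValue, cons_val_zero, cons_val, mul_zero, sub_self, one_mul, sub_zero, cons_val_one, mul_neg,
        sub_neg_eq_add, zero_add, zero_mul, neg_zero, Fintype.sum_prod_type, Fin.sum_univ_six, map_zero, map_mul, map_pow,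
        add_zero, map_neg, neg_mul, Fin.sum_univ_four, map_one, a01, c02, s5, c05, c21, b10] at this
    have h2 : j ε * (c (2, 5) * j t ^ 2 + (-c (2, 4)) * j t ^ (q + 1)) = 0 := by linear_combination this
    exact (mul_eq_zero.1 h2).resolve_left hj
  have k2 := pow_indep (k := k) (T := K) (τ := j) j.injective ![2, q + 1] (by
      intro a b hab
      fin_cases a <;> fin_cases b <;> simp at hab ⊢ <;> omega) (by
      intro a
      (revert a; simp only [_root_.Fin.forall_fin_succ, _root_.Nat.succ_eq_add_one, Nat.reduceAdd, Fin.isValue, _root_.Matrix.cons_val_zero, _root_.Matrix.cons_val_succ, _root_.Matrix.cons_val_fin_one, _root_.forall_const]) <;> (repeat' with_reducible apply And.intro) <;> omega) ![c (2, 5), -c (2, 4)] (by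
      intro t
      simpa only [Fin.sum_univ_two, _root_.Nat.succ_eq_add_one, _root_.Nat.reduceAdd, _root_.Fin.isValue, _root_.Matrix.cons_val_zero, _root_.Matrix.cons_val_one, _root_.Matrix.cons_val_fin_one, _root_.neg_mul] using l2 t)
  have c25 : c (2, 5) = 0 := congrFun k2 0
  have c24 : c (2, 4) = 0 := neg_eq_zero.1 (congrFun k2 1)
  have l3 : ∀ t : K, c (1, 4) * j t ^ q + c (1, 5) * j t ^ 1 = 0 := by
    intro t
    by_cases ht : t = 0
    · rw [ht, map_zero, zero_pow (by omega), zero_pow (by omega), mul_zero, mul_zero, add_zero]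
    have := h _ _ ((nf_l hK t).swap hK)
    simp only [F24, pl, Fin.isValue, cons_val_zero, Pi.neg_apply, cons_val, neg_zero, mul_zero, mul_neg, mul_one,
        sub_neg_eq_add, zero_add, zero_mul, sub_self, cons_val_one, neg_mul, _root_.neg_neg, sub_zero, zero_sub, one_mul,
        Fintype.sum_prod_type, Fin.sum_univ_six, map_one, map_zero, add_zero, map_mul, map_pow, map_neg, Fin.sum_univ_four,
        s1, a11, b00, c23, c24, c25] at this
    have h2 : j t ^ q * (c (1, 4) * j t ^ q + c (1, 5) * j t ^ 1) = 0 := by linear_combination this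
    exact (mul_eq_zero.1 h2).resolve_left (pow_ne_zero _ ((map_ne_zero j).2 ht))
  have k3 := pow_indep (k := k) (T := K) (τ := j) j.injective ![q, 1] (by
      intro a b hab
      fin_cases a <;> fin_cases b <;> simp at hab ⊢ <;> omega) (by
      intro a
      (revert a; simp only [_root_.Fin.forall_fin_succ, _root_.Nat.succ_eq_add_one, Nat.reduceAdd, Fin.isValue, _root_.Matrix.cons_val_zero, _root_.Matrix.cons_val_succ, _root_.Matrix.cons_val_fin_one, _root_.forall_const]) <;> (repeat' with_reducible apply And.intro) <;> omega) ![c (1, 4), c (1, 5)] (by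
      intro t
      simpa only [Fin.sum_univ_two, _root_.Nat.succ_eq_add_one, _root_.Nat.reduceAdd, _root_.Fin.isValue, _root_.Matrix.cons_val_zero, _root_.Matrix.cons_val_one, _root_.Matrix.cons_val_fin_one, _root_.pow_one] using l3 t)
  have c14 : c (1, 4) = 0 := congrFun k3 0
  have c15 : c (1, 5) = 0 := congrFun k3 1
  funext p
  obtain ⟨a, b⟩ := p
  fin_cases a <;> fin_cases b <;> assumption

/-- **The exceptional case `θ = 1`, `t^κ = t` on the subfield.** -/
theorem ex1_pair (hK : Fintype.card K = q ^ 2) {V : Type*} [AddCommGroup V] [Module k V]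
    [FiniteDimensional k V] {j : K →+* k} {κ : ℕ}
    {vv : (Fin 4 → K) → (Fin 4 → K) → V} {ff : (Fin 4 → K) → (Fin 4 → K) → Module.Dual k V}
    (h : ∀ v w v' w', Ln q v w → Ln q v' w' → ff v' w' (vv v w) =
      j (∑ a, v a * v' a ^ q) ^ 1 * j (∑ b, pl v w b * pl v' w' b ^ q) ^ κ)
    (hκ : κ ≠ 0) (hred : red q κ = 1) : 14 ≤ Module.finrank k V := by
  have key := H876.D3.sylvester (k := k) (V := V) (α := Fin 4 × Fin 6)
    (X := {p : (Fin 4 → K) × (Fin 4 → K) // Nf q p.1 p.2}) (Y := {p : (Fin 4 → K) × (Fin 4 → K) // Nf q p.1 p.2})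
    (vv := fun x => vv x.1.1 x.1.2) (ff := fun y => ff y.1.1 y.1.2)
    (F := fun x => F24 j x.1.1 x.1.2) (G := fun y => F24 (jb hK j) y.1.1 y.1.2)
    (S := {(1, 0), (1, 1), (3, 0), (3, 2), (0, 4)}) (S' := {(1, 0), (1, 1), (3, 0), (3, 2), (0, 4)})
    (fun x y => by
      have h1 := x.2.fix hK y.2
      rw [h _ _ _ _ x.2.ln y.2.ln, pow_one, ← map_pow, ← pow_red' hK h1 hκ, hred, pow_one, map_sum, map_sum,
        Finset.sum_mul_sum, Fintype.sum_prod_type]
      refine Finset.sum_congr rfl fun a _ => Finset.sum_congr rfl fun b _ => ?_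
      simp only [F24, jb_apply, map_mul]
      ring)
    (fun c hc h0 => rel24 hK j (fun v w hvw => hc ⟨(v, w), hvw⟩) (h0 _ (by simp only [Fin.isValue, Finset.mem_insert,
        Prod.mk.injEq, zero_ne_one, and_false, Fin.reduceEq, and_true, and_self, Finset.mem_singleton, one_ne_zero, or_self,
        or_false])) (h0 _ (by simp only [Fin.isValue,
        Finset.mem_insert, Prod.mk.injEq, one_ne_zero, and_false, Fin.reduceEq, and_self, Finset.mem_singleton, or_self,
        or_false, or_true])) (h0 _ (by simp only [_root_.Fin.isValue, _root_.Finset.mem_insert, _root_.Prod.mk.injEq, _root_.Fin.reduceEq, _root_.and_true, _root_.zero_ne_one, _root_.and_self, _root_.and_false, _root_.Finset.mem_singleton, _root_.or_self, _root_.or_false, _root_.or_true]))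
      (h0 _ (by simp only [_root_.Fin.isValue, _root_.Finset.mem_insert, _root_.Prod.mk.injEq, _root_.Fin.reduceEq, _root_.and_self, _root_.and_false, _root_.Finset.mem_singleton, _root_.or_false, _root_.or_true])) (h0 _ (by simp only [_root_.Fin.isValue, _root_.Finset.mem_insert, _root_.Prod.mk.injEq, _root_.zero_ne_one, _root_.Fin.reduceEq, _root_.and_self, _root_.Finset.mem_singleton, _root_.or_true])))
    (fun c hc h0 => rel24 hK (jb hK j) (fun v w hvw => hc ⟨(v, w), hvw⟩) (h0 _ (by simp only [_root_.Fin.isValue, _root_.Finset.mem_insert, _root_.Prod.mk.injEq, _root_.zero_ne_one, _root_.and_false, _root_.Fin.reduceEq, _root_.and_true, _root_.and_self, _root_.Finset.mem_singleton, _root_.one_ne_zero, _root_.or_self, _root_.or_false])) (h0 _ (by simp only [_root_.Fin.isValue, _root_.Finset.mem_insert, _root_.Prod.mk.injEq, _root_.one_ne_zero, _root_.and_false, _root_.Fin.reduceEq, _root_.and_self, _root_.Finset.mem_singleton, _root_.or_self,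 _root_.or_false, _root_.or_true]))
      (h0 _ (by simp only [_root_.Fin.isValue, _root_.Finset.mem_insert, _root_.Prod.mk.injEq, _root_.Fin.reduceEq, _root_.and_true, _root_.zero_ne_one, _root_.and_self, _root_.and_false, _root_.Finset.mem_singleton, _root_.or_self, _root_.or_false, _root_.or_true])) (h0 _ (by simp only [_root_.Fin.isValue, _root_.Finset.mem_insert, _root_.Prod.mk.injEq, _root_.Fin.reduceEq, _root_.and_self, _root_.and_false, _root_.Finset.mem_singleton, _root_.or_false, _root_.or_true])) (h0 _ (by simp only [_root_.Fin.isValue, _root_.Finset.mem_insert, _root_.Prod.mk.injEq, _root_.zero_ne_one, _root_.Fin.reduceEq, _root_.and_self, _root_.Finset.mem_singleton, _root_.or_true])))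
  have h5 : ({(1, 0), (1, 1), (3, 0), (3, 2), (0, 4)} : Finset (Fin 4 × Fin 6)).card = 5 := by decide
  simp only [Fintype.card_prod, Fintype.card_fin, h5] at key
  omega

end Cfsg.Agent.H887.D3
end

-- part: H887/D3/ExTwo
section
/-!
# The pair kernel `j(h) · j(G_2)^κ`, `t^κ = t^2` on the subfield, `p = 3` (helper887)

`ex2_pair`: the dimension is at least `13`: the flags `(x + l y, y)` give `12`, the lines `ℓ'(z)` one more
(the coefficient of `z²`).
-/

set_option autoImplicit false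
set_option linter.unusedSectionVars false

namespace Cfsg.Agent.H887.D3

open Cfsg Cfsg.Geo Matrix Cfsg.Agent.H876.D3
open LieClassical.HermBasic LieClassical.HermSiegel Cfsg.Agent.TitsThree.KSideU Cfsg.Agent.TitsThree.KSideUDesc
  Cfsg.Agent.TitsThree.WBridge Cfsg.Agent.TitsThree.SiegelGen Cfsg.Agent.TitsThree.Siegel Cfsg.Agent.H61.SUCross
  Cfsg.Agent.TitsThree.WittFrame
open Cfsg.Agent.Phan (fixedField mem_fixedField card_fixedField)

variable {K : Type} [Field K] [Fintype K] {q : ℕ} {hK : Fintype.card K = q ^ 2} {k : Type*} [Field k]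

/-- the flags against `ℓ'(z)`: the form -/
theorem fl_l1 (hK : Fintype.card K = q ^ 2) (ε s t l z : K) :
    ∑ a, (![1, ε * s, l, l * (ε * t)] : Fin 4 → K) a * ![1, 0, z, 0] a ^ q = 1 + l * z ^ q := by
  simp [Fin.sum_univ_four, zero_pow_q hK]

/-- the flags against `ℓ'(z)`: the Plücker form -/
theorem fl_l2 (hK : Fintype.card K = q ^ 2) {ε : K} (hε : ε ^ q = -ε) (s t l z : K) :
    ∑ b, pl ![1, ε * s, l, l * (ε * t)] ![0, 0, 1, ε * t] b * pl ![1, 0, z, 0] ![0, -(ε * z ^ q), 0, ε] b ^ q =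
      -ε ^ 2 * (t + s * (z * z ^ q)) := by
  simp only [pl, Fin.isValue, cons_val_zero, cons_val, mul_one, mul_zero, sub_zero, one_mul, cons_val_one, sub_self,
      mul_neg, sub_neg_eq_add, zero_add, zero_mul, neg_zero, Fin.sum_univ_six, zero_pow_q hK, hε, mul_pow, pow_q_pow_q hK,
      neg_mul, add_zero]
  ring

theorem l_l1 (hK : Fintype.card K = q ^ 2) (z : K) :
    ∑ a, (![1, 0, 0, 1] : Fin 4 → K) a * ![1, 0, z, 0] a ^ q = 1 := by
  simp [Fin.sum_univ_four, zero_pow_q hK]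

theorem l_l2 (hK : Fintype.card K = q ^ 2) {ε : K} (hε : ε ^ q = -ε) (z : K) :
    ∑ b, pl ![1, 0, 0, 1] ![0, -1 ^ q, 1, 0] b * pl ![1, 0, z, 0] ![0, -(ε * z ^ q), 0, ε] b ^ q =
      ε * (z ^ q - z) := by
  simp only [Fin.sum_univ_six, pl, zero_pow_q hK, hε, mul_pow, neg_pow_q hK, pow_q_pow_q hK, _root_.Fin.isValue, _root_.Matrix.cons_val_zero, _root_.one_pow, _root_.Matrix.cons_val, _root_.mul_one, _root_.MulZeroClass.mul_zero, _root_.sub_zero, _root_.sub_self, _root_.Matrix.cons_val_one, _root_.mul_neg, _root_.neg_zero, _root_.sub_neg_eq_add, _root_.zero_add, _root_.zero_sub, _root_.one_mul, _root_.MulZeroClass.zero_mul, _root_.add_zero, _root_.neg_mul, _root_.neg_neg]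
  ring

/-- the coefficient functional of `z²` -/
theorem ex_A (hK : Fintype.card K = q ^ 2) (hq : 3 ≤ q) (j : K →+* k) : ∃ A : K → k,
    ∑ z, A z * j z ^ 2 = 1 ∧ ∀ e, e < q ^ 2 ∨ e = 3 * q + 2 → e ≠ 2 → ∑ z, A z * j z ^ e = 0 := by
  obtain ⟨A, hA⟩ := exists_dual_pow (T := K) (k := k) j j.injective
  rw [hK] at hA
  have h2 : 2 < q ^ 2 := by nlinarith only [hq]
  refine ⟨A 2, ?_, ?_⟩
  · rw [hA 2 h2 2 h2, if_pos rfl]
  · intro e he he2
    by_cases hlt : e < q ^ 2
    · rw [hA 2 h2 e hlt, if_neg (Ne.symm he2)]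
    · replace he := he.resolve_left hlt
      have hq3 : q = 3 := by
        by_contra hne
        apply hlt
        have : 4 ≤ q := by omega
        rw [he]
        nlinarith only [this]
      have e1 : ∀ z : K, j z ^ e = j z ^ 3 := by
        intro z
        have h9 : z ^ 9 = z := by
          have := FiniteField.pow_card z
          rwa [hK, hq3] at this
        rw [← map_pow, ← map_pow, he, hq3]
        congr 1
        calc z ^ (3 * 3 + 2) = z ^ 9 * z ^ 2 := by ring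
          _ = z ^ 3 := by rw [h9]; ring
      simp only [e1]
      rw [hA 2 h2 3 (by rw [hq3]; norm_num), if_neg (by norm_num)]

/-- **The exceptional case `p = 3`, `θ = 1`, `t^κ = t^2` on the subfield.** -/
theorem ex2_pair [CharP k 3] (hK : Fintype.card K = q ^ 2) {V : Type*} [AddCommGroup V] [Module k V]
    [FiniteDimensional k V] {j : K →+* k} {κ : ℕ}
    {vv : (Fin 4 → K) → (Fin 4 → K) → V} {ff : (Fin 4 → K) → (Fin 4 → K) → Module.Dual k V}
    (h : PK q j 1 κ vv ff) (hκ : κ ≠ 0) (hred : red q κ = 2) : 13 ≤ Module.finrank k V := by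
  classical
  have : Fact (Nat.Prime 3) := ⟨Nat.prime_three⟩
  obtain ⟨ε, c, hε, hε0, hc0, hc⟩ := exists_c hK
  have : Fintype (fixedField hK) := Fintype.ofFinite _
  have hq3 : 3 ≤ q := by
    have h1 := red_le (Q := q) (e := κ) (two_le_q hK)
    omega
  obtain ⟨A, hA2, hA⟩ := ex_A hK hq3 j
  have hje : j ε ≠ 0 := (map_ne_zero j).2 hε0
  have hjε : j ε ^ 2 ≠ 0 := pow_ne_zero _ hje
  -- the twelve dimensions
  have hq1 : 1 < q ^ 2 := by nlinarith only [hq3]
  have h12 : 12 ≤ ∑ i ∈ Ib 3 1, RR 3 q (1 - i + κ) * RR 3 q (i + κ) := by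
    have hI : Ib 3 1 = {0, 1} := by decide
    rw [hI, Finset.sum_pair (by norm_num)]
    have r1 : RR 3 q κ = 3 := by
      rw [RR_of_ne hκ, hred]
      decide
    have r2 : 2 ≤ RR 3 q (1 + κ) := two_le_RR (by omega)
    have e1 : 1 - 0 + κ = 1 + κ := by omega
    have e2 : 1 - 1 + κ = κ := by omega
    rw [e1, e2, r1]
    omega
  have hrk := (flags_rk (p := 3) hK j hc0 (θ := 1) (κ := κ) hq1).mono h12
  let Fl : K × (fixedField hK × fixedField hK) → (Fin 4 → K) × (Fin 4 → K) := fun x =>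
    (![1, ε * (x.2.1 : K), x.1, x.1 * (ε * x.2.2)], ![0, 0, 1, ε * (x.2.2 : K)])
  let f : (K × (fixedField hK × fixedField hK)) ⊕ Unit → (Fin 4 → K) × (Fin 4 → K) :=
    Sum.elim Fl (fun _ => (![1, 0, 0, 1], ![0, -1 ^ q, 1, 0]))
  let g : (K × (fixedField hK × fixedField hK)) ⊕ K → (Fin 4 → K) × (Fin 4 → K) :=
    Sum.elim Fl (fun z => (![1, 0, z, 0], ![0, -(ε * z ^ q), 0, ε]))
  have hf : ∀ x, Ln q (f x).1 (f x).2 := by
    rintro (x | x)
    · exact ln_SF hK hε _ _ _ (E_q hK _) (E_q hK _)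
    · exact (nf_l hK 1).ln
  have hg : ∀ x, Ln q (g x).1 (g x).2 := by
    rintro (x | x)
    · exact ln_SF hK hε _ _ _ (E_q hK _) (E_q hK _)
    · exact (nf_l' hK hε hε0 x).ln
  let C : (K × (fixedField hK × fixedField hK)) ⊕ Unit → (K × (fixedField hK × fixedField hK)) ⊕ K → k :=
    fun x y => j (∑ a, (f x).1 a * (g y).1 a ^ q) ^ 1 *
      j (∑ b, pl (f x).1 (f x).2 b * pl (g y).1 (g y).2 b ^ q) ^ κ
  have hfix : ∀ t : K, t ^ q = t → j t ^ κ = j t ^ 2 := by
    intro t ht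
    rw [← map_pow, ← pow_red' hK ht hκ, hred, map_pow]
  have key : Rk C (12 + Fintype.card Unit) := by
    refine Rk.add_sum (β := Unit) ?_ (fun _ _ => (j ε ^ 2)⁻¹) (fun _ => A) ?_ ?_
    · refine hrk.congr fun x y => ?_
      change j (∑ a, (Fl x).1 a * (Fl y).1 a ^ q) ^ 1 *
        j (∑ b, pl (Fl x).1 (Fl x).2 b * pl (Fl y).1 (Fl y).2 b ^ q) ^ κ = _
      rw [flags_eq1 hε hc, flags_eq2 hε hc]
    · intro _ _
      rw [if_pos rfl]
      simp only [bl, Finset.univ_unique, Finset.sum_singleton]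
      have e1 : ∀ z : K, C (Sum.inr ()) (Sum.inr z) = j ε ^ 2 * (j z ^ (2 * q) - 2 * j z ^ (q + 1) + j z ^ 2) := by
        intro z
        change j (∑ a, (![1, 0, 0, 1] : Fin 4 → K) a * ![1, 0, z, 0] a ^ q) ^ 1 *
          j (∑ b, pl ![1, 0, 0, 1] ![0, -1 ^ q, 1, 0] b * pl ![1, 0, z, 0] ![0, -(ε * z ^ q), 0, ε] b ^ q) ^ κ = _
        rw [l_l1 hK, l_l2 hK hε, hfix _ (by rw [mul_pow, hε, sub_pow_q hK, pow_q_pow_q hK]; ring)]
        simp only [map_one, map_mul, map_sub, map_pow]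
        ring
      have e2 : ∑ z, (j ε ^ 2)⁻¹ * C (Sum.inr ()) (Sum.inr z) * A z =
          ∑ z, A z * j z ^ (2 * q) - 2 * ∑ z, A z * j z ^ (q + 1) + ∑ z, A z * j z ^ 2 := by
        rw [Finset.mul_sum, ← Finset.sum_sub_distrib, ← Finset.sum_add_distrib]
        refine Finset.sum_congr rfl fun z _ => ?_
        rw [e1]
        field_simp
      rw [e2, hA2, hA (2 * q) (Or.inl (by nlinarith only [hq3])) (by omega), hA (q + 1) (Or.inl (by nlinarith only [hq3])) (by omega)]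
      ring
    · rintro ⟨l, s, t⟩ _
      have e1 : ∀ z : K, C (Sum.inl (l, s, t)) (Sum.inr z) = (1 + j l * j z ^ q) *
          ((-j ε ^ 2) ^ 2 * (j t ^ 2 + 2 * j t * j s * j z ^ (q + 1) + j s ^ 2 * j z ^ (2 * q + 2))) := by
        intro z
        change j (∑ a, (![1, ε * (s : K), l, l * (ε * t)] : Fin 4 → K) a * ![1, 0, z, 0] a ^ q) ^ 1 *
          j (∑ b, pl ![1, ε * (s : K), l, l * (ε * t)] ![0, 0, 1, ε * (t : K)] b *
            pl ![1, 0, z, 0] ![0, -(ε * z ^ q), 0, ε] b ^ q) ^ κ = _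
        rw [fl_l1 hK, fl_l2 hK hε, hfix _ (by
          rw [mul_pow, neg_pow_q hK, ← pow_mul, mul_comm 2 q, pow_mul, hε, add_pow_q hK, mul_pow, mul_pow,
            pow_q_pow_q hK, E_q hK, E_q hK]
          ring)]
        simp only [map_one, map_mul, map_add, map_neg, map_pow]
        ring
      have e2 : ∑ z, C (Sum.inl (l, s, t)) (Sum.inr z) * A z =
          (-j ε ^ 2) ^ 2 * (j t ^ 2 * ∑ z, A z * j z ^ 0 + 2 * j t * j s * ∑ z, A z * j z ^ (q + 1) +
            j s ^ 2 * ∑ z, A z * j z ^ (2 * q + 2) + j l * j t ^ 2 * ∑ z, A z * j z ^ q +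
            2 * j l * j t * j s * ∑ z, A z * j z ^ (2 * q + 1) + j l * j s ^ 2 * ∑ z, A z * j z ^ (3 * q + 2)) := by
        simp only [Finset.mul_sum, ← Finset.sum_add_distrib]
        refine Finset.sum_congr rfl fun z _ => ?_
        rw [e1]
        ring
      rw [e2, hA 0 (Or.inl (by omega)) (by omega), hA (q + 1) (Or.inl (by nlinarith only [hq3])) (by omega),
        hA (2 * q + 2) (Or.inl (by nlinarith only [hq3])) (by omega), hA q (Or.inl (by nlinarith only [hq3])) (by omega),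
        hA (2 * q + 1) (Or.inl (by nlinarith only [hq3])) (by omega), hA (3 * q + 2) (Or.inr rfl) (by omega)]
      ring
  have := h.le_finrank hf hg key (fun x y => rfl)
  simpa using this

end Cfsg.Agent.H887.D3
end

-- part: H991/D3/Mid
section
/-!
# A single node `1 ≤ i ≤ m - 2`: at least 13

Twelve coordinate lines of three hyperbolic pairs and one more isotropic line.
-/

set_option autoImplicit false
set_option maxRecDepth 20000

namespace Cfsg.Agent.H991.D3

open Cfsg Cfsg.Geo Matrix Cfsg.Agent.H876.D3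
open LieClassical.HermBasic LieClassical.HermSiegel Cfsg.Agent.TitsThree.KSideU Cfsg.Agent.TitsThree.KSideUDesc
  Cfsg.Agent.TitsThree.WBridge Cfsg.Agent.TitsThree.SiegelGen Cfsg.Agent.TitsThree.Siegel
  Cfsg.Agent.TitsThree.WittFrame

namespace Mid

/-- the coordinate lines -/
def zt : Fin 12 → Fin 2 → Fin 3 × Bool := ![![(0, true), (1, true)], ![(0, false), (1, false)], ![(0, true), (1, false)],
  ![(0, false), (1, true)], ![(0, true), (2, true)], ![(0, false), (2, false)], ![(0, true), (2, false)],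
  ![(0, false), (2, true)], ![(1, true), (2, true)], ![(1, false), (2, false)], ![(1, true), (2, false)],
  ![(1, false), (2, true)]]

def A (z : Fin 12) (t : Fin 2) (y : Fin 3 × Bool) : ℤ := if y = zt z t then 1 else 0

/-- the dual coordinates of the column -/
def B : Fin 2 → Fin 3 × Bool → ℤ := fun t y =>
  if t = 0 then (if y = (0, true) then 1 else if y = (1, false) then 1 else 0)
  else (if y = (1, true) then 1 else if y = (0, false) then -1 else 0)

theorem A_iso : ∀ z t t', ∑ y : Fin 3 × Bool, A z t y * A z t' (y.1, !y.2) = 0 := by decide +kernel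

theorem B_iso : ∀ t t', ∑ y : Fin 3 × Bool, B t y * B t' (y.1, !y.2) = 0 := by decide +kernel

private noncomputable def _root_.Cfsg.Agent.LsF.f28a37c_0 : {f // @Cfsg.Agent.H991.D3.Mid.zt = f} := ⟨_, by first | (delta Cfsg.Agent.H991.D3.Mid.zt; rewrite [Cfsg.Agent.LsF.vecCons_eq]; exact rfl) | exact rfl⟩
private noncomputable def _root_.Cfsg.Agent.LsF.f28a37c_1 : {f // @Cfsg.Agent.H991.D3.Mid.A = f} := ⟨_, by first | (delta Cfsg.Agent.H991.D3.Mid.A; rewrite [Cfsg.Agent.LsF.f28a37c_0.2, Cfsg.Agent.LsF.dProdEq_eq, Cfsg.Agent.LsF.dFinEq_eq, Cfsg.Agent.LsF.dBoolEq_eq, Cfsg.Agent.LsF.ite_eq]; exact rfl) | exact rfl⟩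
theorem A_dual : ∀ z z', (Matrix.of fun t t' => ∑ y, A z t y * A z' t' y).det = if z = z' then 1 else 0 := by
  simp only [Matrix.det_fin_two, Matrix.of_apply]
  (refine of_decide_eq_true ?_; (try (rewrite [Cfsg.Agent.LsF.f28a37c_1.2, Cfsg.Agent.LsF.imul_pat, Cfsg.Agent.LsF.isub_pat, Cfsg.Agent.LsF.finFintype_eq, Cfsg.Agent.LsF.prodFintype_eq, Cfsg.Agent.LsF.fsum_eq, Cfsg.Agent.LsF.iACM_eq, Cfsg.Agent.LsF.instIDecEq_eq, Cfsg.Agent.LsF.dFinEq_eq, Cfsg.Agent.LsF.dForallFin_eq, Cfsg.Agent.LsF.ite_eq, Cfsg.Agent.LsF.decide_eq])); decide +kernel)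

theorem A_B : ∀ z, (Matrix.of fun t t' => ∑ y, A z t y * B t' y).det = if (z : ℕ) < 2 then 1 else 0 := by
  simp only [Matrix.det_fin_two, Matrix.of_apply]
  decide +kernel

variable {K : Type} [Field K] {q : ℕ}

/-- the coordinates of the row -/
def C (q : ℕ) (w : K) : Fin 2 → Fin 3 × Bool → K := fun t y =>
  if t = 0 then (if y = (0, true) then 1 else if y = (1, false) then w else 0)
  else (if y = (1, true) then 1 else if y = (0, false) then -w ^ q else 0)

theorem C_A {w : K} (hw : w * w ^ q = 1) (z : Fin 12) : (Matrix.of fun t t' => ∑ y, C q w t y * (A z t' y : K)).det =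
    if (z : ℕ) < 2 then 1 else 0 := by
  have h1 : ∀ t t', ∑ y, C q w t y * (A z t' y : K) = C q w t (zt z t') := by
    intro t t'
    rw [Finset.sum_eq_single (zt z t')]
    · simp [A]
    · intro y _ hy; simp [A, hy]
    · intro h; exact absurd (Finset.mem_univ _) h
  simp only [Matrix.det_fin_two, Matrix.of_apply, h1]
  fin_cases z <;> simp only [C, Fin.isValue, ↓reduceIte, zt, Fin.zero_eta, cons_val', cons_val_zero, cons_val_fin_one,
      one_ne_zero, cons_val_one, mul_one, Prod.mk.injEq, and_true, Bool.true_eq_false, and_false, zero_ne_one, mul_zero,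
      sub_zero, Order.lt_two_iff, zero_le, Fin.mk_one, Bool.false_eq_true, and_self, mul_neg, hw, sub_neg_eq_add, zero_add,
      Std.le_refl, Fin.reduceFinMk, cons_val, sub_self, lt_self_iff_false, zero_mul, neg_zero, Nat.not_ofNat_le_one,
      Fin.reduceEq]

theorem C_B {w : K} : (Matrix.of fun t t' => ∑ y, C q w t y * (B t' y : K)).det = (1 + w) * (1 + w ^ q) := by
  simp only [Matrix.det_fin_two, Matrix.of_apply, Fintype.sum_prod_type, Fin.sum_univ_three, Fintype.sum_bool, C, B]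
  simp only [↓ _root_.reduceIte, _root_.Int.cast_one, _root_.mul_one, _root_.Fin.isValue, _root_.Prod.mk.injEq, _root_.Bool.false_eq_true, _root_.and_false, _root_.zero_ne_one, _root_.and_true, _root_.Int.cast_zero, _root_.MulZeroClass.mul_zero, _root_.add_zero, _root_.one_ne_zero, _root_.Bool.true_eq_false, _root_.and_self, _root_.zero_add, _root_.Fin.reduceEq, _root_.Int.reduceNeg, _root_.Int.cast_neg, _root_.mul_neg, _root_.neg_neg, _root_.neg_zero, _root_.sub_zero, _root_.mul_eq_mul_left_iff]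
  left
  ring

theorem C_iso [Fintype K] (hK : Fintype.card K = q ^ 2) (w : K) (t t' : Fin 2) :
    ∑ y : Fin 3 × Bool, C q w t y * C q w t' (y.1, !y.2) ^ q = 0 := by
  have h0 : (0 : K) ^ q = 0 := zero_pow_q hK
  simp only [Fintype.sum_prod_type, Fin.sum_univ_three, Fintype.sum_bool, C]
  (revert t t'; simp only [Fin.zero_eta, Fin.isValue, ↓reduceIte, Bool.not_true, Prod.mk.injEq, Bool.false_eq_true, and_false, zero_ne_one, and_true, h0, mul_zero, Bool.not_false, one_pow, mul_one, add_zero, one_ne_zero, Bool.true_eq_false, and_self, zero_mul, Fin.reduceEq, Fin.mk_one, neg_pow_q hK, pow_q_pow_q hK, mul_neg, one_mul, zero_add, neg_add_cancel, neg_zero, _root_.Fin.forall_fin_succ, _root_.ite_pow, _root_.mul_ite, _root_.ite_mul, _root_.ite_self, _root_.Fin.succ_ne_zero, _root_.implies_true])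

end Mid

variable {K : Type} [Field K] [Fintype K] {N q m : ℕ} {hK : Fintype.card K = q ^ 2} {W : WFrame (PU hK N) m}
  {k : Type*} [Field k] {V : Type*} [AddCommGroup V] [Module k V] [FiniteDimensional k V]
  {r : ℕ} {j : K →+* k} {θ : Fin m → ℕ} {vv : (Fin m → Fin N → K) → V}
  {ff : (Fin m → Fin N → K) → Module.Dual k V}

include W in
theorem node_mid {i : Fin m} (h : IsKer q (i + 1) j θ vv ff) (h1 : 1 ≤ (i : ℕ)) (h2 : (i : ℕ) + 1 < m) (hθi : θ i ≠ 0)
    (hθ : ∀ i', i' ≠ i → θ i' = 0) : 13 ≤ Module.finrank k V := by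
  obtain ⟨w, hw, hθw⟩ := exists_param hK j
  let τ : Fin 3 → Fin m := ![⟨i - 1, by omega⟩, i, ⟨i + 1, h2⟩]
  let ι : Fin 2 → Fin m := ![⟨i - 1, by omega⟩, i]
  have hτ : Function.Injective τ := by
    intro a b hab
    fin_cases a <;> fin_cases b <;> simp only [Fin.zero_eta, Fin.isValue, cons_val_zero, τ, Fin.mk_one, cons_val_one,
        Fin.ext_iff, zero_ne_one, Fin.reduceFinMk, cons_val, Nat.pred_eq_succ_iff, Nat.left_eq_add, OfNat.ofNat_ne_zero,
        one_ne_zero, Fin.coe_ofNat_eq_mod, Nat.mod_succ, Nat.zero_mod, Nat.add_eq_left] at hab ⊢ <;> omega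
  have hι : Function.Injective ι := by
    intro a b hab
    fin_cases a <;> fin_cases b <;> simp only [Fin.zero_eta, Fin.isValue, cons_val_zero, ι, Fin.mk_one, cons_val_one,
        cons_val_fin_one, Fin.ext_iff, zero_ne_one, one_ne_zero] at hab ⊢ <;> omega
  have hιr : ∀ t, (ι t : ℕ) < (i : ℕ) + 1 := by
    intro t
    fin_cases t <;> simp only [Fin.zero_eta, Fin.isValue, cons_val_zero, Order.lt_add_one_iff, tsub_le_iff_right,
        le_add_iff_nonneg_right, zero_le, ι, Fin.mk_one, cons_val_one, cons_val_fin_one, lt_add_iff_pos_right,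
        Order.lt_one_iff]
  have hιτ : ∀ a : Fin m, (a : ℕ) < (i : ℕ) + 1 → a ∉ Set.range ι → a ∉ Set.range τ := by
    rintro a ha ha1 ⟨t, rfl⟩
    fin_cases t
    · exact ha1 ⟨0, rfl⟩
    · exact ha1 ⟨1, rfl⟩
    · simp [τ] at ha
  have e1 : ∀ z z' : Fin 12, (Matrix.of fun t t' => hermForm N K q (row (W := W) τ (Mid.A z) t)
      (col (W := W) τ (Mid.A z') t')).det = if z = z' then 1 else 0 := by
    intro z z'
    simp only [row, herm_col hτ W.V0.zero_mem]
    rw [gram_int, Mid.A_dual]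
    split_ifs <;> simp
  have e2 : ∀ z : Fin 12, (Matrix.of fun t t' => hermForm N K q (row (W := W) τ (Mid.A z) t)
      (col (W := W) τ Mid.B t')).det = if (z : ℕ) < 2 then 1 else 0 := by
    intro z
    simp only [row, herm_col hτ W.V0.zero_mem]
    rw [gram_int, Mid.A_B]
    split_ifs <;> simp
  have e3 : ∀ z : Fin 12, (Matrix.of fun t t' => hermForm N K q (vec W τ (Mid.C q w t) 0)
      (col (W := W) τ (Mid.A z) t')).det = if (z : ℕ) < 2 then 1 else 0 := by
    intro z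
    simp only [herm_col hτ W.V0.zero_mem]
    exact Mid.C_A hw z
  have e4 : (Matrix.of fun t t' => hermForm N K q (vec W τ (Mid.C q w t) 0)
      (col (W := W) τ Mid.B t')).det = (1 + w) * (1 + w) ^ q := by
    simp only [herm_col hτ W.V0.zero_mem]
    rw [Mid.C_B, add_pow_q hK, one_pow]
  have key := schur (κ := fun (a b : Fin 12 ⊕ Unit) => j (Matrix.of fun t t' => hermForm N K q
      (Sum.elim (fun z => row (W := W) τ (Mid.A z)) (fun _ t => vec W τ (Mid.C q w t) 0) a t)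
      (Sum.elim (fun z => col (W := W) τ (Mid.A z)) (fun _ => col (W := W) τ Mid.B) b t')).det ^ θ i)
    (f := Sum.inl) (g := Sum.inl) (f' := Sum.inr) (g' := Sum.inr) (n := 1) (fun z z' => by
      simp only [Sum.elim_inl, e1]
      split_ifs <;> simp [hθi]) (Rk.one_of ⟨(), (), by
        have e5 : ∀ z : Fin 12, j (if (z : ℕ) < 2 then 1 else 0) ^ θ i * j (if (z : ℕ) < 2 then 1 else 0) ^ θ i =
            if (z : ℕ) < 2 then 1 else 0 := by
          intro z
          split_ifs <;> simp [hθi]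
        simp only [Sum.elim_inl, Sum.elim_inr, e2, e3, e4, e5]
        have e6 : (∑ z : Fin 12, if (z : ℕ) < 2 then (1 : k) else 0) = 2 := by
          have e7 : (∑ z : Fin 12, if (z : ℕ) < 2 then 1 else 0 : ℕ) = 2 := by decide
          have e8 := congrArg (Nat.cast : ℕ → k) e7
          push_cast at e8
          exact e8
        rw [e6]
        exact hθw _ hθi⟩)
  rw [Fintype.card_fin] at key
  refine le_finrank_of (W := W) h rfl hθ hι hιr (fun a => ?_) (fun b => ?_) key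
  · rcases a with z | _
    · exact loc_row hτ hιτ (Mid.A_iso z) (B := Mid.A z) (by rw [Mid.A_dual, if_pos rfl])
    · refine loc_vec hτ hιτ (fun _ => W.V0.zero_mem) (fun t t' => ?_) (fun t y => ((Mid.A 0 t (y.1, !y.2) : ℤ) : K)) ?_
      · rw [herm_zero_right hK, add_zero]
        exact Mid.C_iso hK w t t'
      · have h3 := Mid.C_A hw 0
        rw [if_pos (by norm_num)] at h3
        have h4 : (Matrix.of fun t t' => ∑ y : Fin 3 × Bool, Mid.C q w t y *
            ((Mid.A 0 t' ((y.1, !y.2).1, !(y.1, !y.2).2) : ℤ) : K) ^ q).det = 1 := by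
          rw [← h3]
          congr 2
          ext t t'
          exact Finset.sum_congr rfl fun y _ => by rw [int_pow_q hK, Bool.not_not]
        rw [h4]
        exact one_ne_zero
  · rcases b with z | _
    · exact loc_col hτ hιτ (Mid.A_iso z) (A := Mid.A z) (by rw [Mid.A_dual, if_pos rfl])
    · exact loc_col hτ hιτ Mid.B_iso (A := Mid.A 0) (by rw [Mid.A_B, if_pos (by norm_num)])

end Cfsg.Agent.H991.D3
end

-- part: H991/D3/Last
section
/-!
# The last node, `m ≥ 3`: at least 14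

Eight coordinate planes of three hyperbolic pairs and six more isotropic planes.
-/

set_option autoImplicit false
set_option maxRecDepth 20000

namespace Cfsg.Agent.H991.D3

open Cfsg Cfsg.Geo Matrix Cfsg.Agent.H876.D3
open LieClassical.HermBasic LieClassical.HermSiegel Cfsg.Agent.TitsThree.KSideU Cfsg.Agent.TitsThree.KSideUDesc
  Cfsg.Agent.TitsThree.WBridge Cfsg.Agent.TitsThree.SiegelGen Cfsg.Agent.TitsThree.Siegel
  Cfsg.Agent.TitsThree.WittFrame

namespace Last

/-- the coordinate planes -/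
def sg (z : Fin 8) (t : Fin 3) : Bool := Nat.testBit z t

def A (z : Fin 8) (t : Fin 3) (y : Fin 3 × Bool) : ℤ := if y = (t, sg z t) then 1 else 0

/-- the other two pairs -/
def oa : Fin 3 → Fin 3 := ![1, 0, 0]
def ob : Fin 3 → Fin 3 := ![2, 2, 1]

/-- the dual coordinates of the columns -/
def B (x : Fin 3 × Bool) (t : Fin 3) (y : Fin 3 × Bool) : ℤ :=
  if t = x.1 then (if y = x then 1 else 0)
  else if t = oa x.1 then (if y = (oa x.1, true) then 1 else if y = (ob x.1, false) then 1 else 0)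
  else (if y = (ob x.1, true) then 1 else if y = (oa x.1, false) then -1 else 0)

def P (z : Fin 8) (x : Fin 3 × Bool) : Prop := sg z x.1 = x.2 ∧ sg z (oa x.1) = sg z (ob x.1)

instance instDecP (z : Fin 8) (x : Fin 3 × Bool) : Decidable (P z x) := inferInstanceAs (Decidable (_ ∧ _))

theorem A_iso : ∀ z t t', ∑ y : Fin 3 × Bool, A z t y * A z t' (y.1, !y.2) = 0 := by decide +kernel

theorem B_iso : ∀ x t t', ∑ y : Fin 3 × Bool, B x t y * B x t' (y.1, !y.2) = 0 := by decide +kernel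

private noncomputable def _root_.Cfsg.Agent.LsF.f28a37c_2 : {f // @Cfsg.Agent.H991.D3.Last.sg = f} := ⟨_, by first | (delta Cfsg.Agent.H991.D3.Last.sg; rewrite [Cfsg.Agent.LsF.testBit_eq]; exact rfl) | exact rfl⟩
private noncomputable def _root_.Cfsg.Agent.LsF.f28a37c_3 : {f // @Cfsg.Agent.H991.D3.Last.A = f} := ⟨_, by first | (delta Cfsg.Agent.H991.D3.Last.A; rewrite [Cfsg.Agent.LsF.f28a37c_2.2, Cfsg.Agent.LsF.dProdEq_eq, Cfsg.Agent.LsF.dFinEq_eq, Cfsg.Agent.LsF.dBoolEq_eq, Cfsg.Agent.LsF.ite_eq]; exact rfl) | exact rfl⟩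
theorem A_dual : ∀ z z', (Matrix.of fun t t' => ∑ y, A z t y * A z' t' y).det = if z = z' then 1 else 0 := by
  simp only [Matrix.det_fin_three, Matrix.of_apply]
  (refine of_decide_eq_true ?_; (try (rewrite [Cfsg.Agent.LsF.f28a37c_3.2, Cfsg.Agent.LsF.iadd_pat, Cfsg.Agent.LsF.imul_pat, Cfsg.Agent.LsF.isub_pat, Cfsg.Agent.LsF.finFintype_eq, Cfsg.Agent.LsF.prodFintype_eq, Cfsg.Agent.LsF.fsum_eq, Cfsg.Agent.LsF.iACM_eq, Cfsg.Agent.LsF.instIDecEq_eq, Cfsg.Agent.LsF.dFinEq_eq, Cfsg.Agent.LsF.dForallFin_eq, Cfsg.Agent.LsF.ite_eq, Cfsg.Agent.LsF.decide_eq])); decide +kernel)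

private noncomputable def _root_.Cfsg.Agent.LsF.f28a37c_4 : {f // @Cfsg.Agent.H991.D3.Last.oa = f} := ⟨_, by first | (delta Cfsg.Agent.H991.D3.Last.oa; rewrite [Cfsg.Agent.LsF.vecCons_eq]; exact rfl) | exact rfl⟩
private noncomputable def _root_.Cfsg.Agent.LsF.f28a37c_5 : {f // @Cfsg.Agent.H991.D3.Last.ob = f} := ⟨_, by first | (delta Cfsg.Agent.H991.D3.Last.ob; rewrite [Cfsg.Agent.LsF.vecCons_eq]; exact rfl) | exact rfl⟩
private noncomputable def _root_.Cfsg.Agent.LsF.f28a37c_6 : {f // @Cfsg.Agent.H991.D3.Last.B = f} := ⟨_, by first | (delta Cfsg.Agent.H991.D3.Last.B; rewrite [Cfsg.Agent.LsF.f28a37c_4.2, Cfsg.Agent.LsF.f28a37c_5.2, Cfsg.Agent.LsF.ineg_pat, Cfsg.Agent.LsF.dProdEq_eq, Cfsg.Agent.LsF.dFinEq_eq, Cfsg.Agent.LsF.dBoolEq_eq, Cfsg.Agent.LsF.ite_eq]; exact rfl) | exact rfl⟩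
theorem A_B : ∀ z x, (Matrix.of fun t t' => ∑ y, A z t y * B x t' y).det = if P z x then 1 else 0 := by
  simp only [Matrix.det_fin_three, Matrix.of_apply]
  (refine of_decide_eq_true ?_; (try (delta Cfsg.Agent.H991.D3.Last.P Cfsg.Agent.H991.D3.Last.instDecP Cfsg.Agent.H991.D3.Last.instDecP._aux_1; rewrite [Cfsg.Agent.LsF.f28a37c_3.2, Cfsg.Agent.LsF.f28a37c_6.2, Cfsg.Agent.LsF.f28a37c_2.2, Cfsg.Agent.LsF.f28a37c_4.2, Cfsg.Agent.LsF.f28a37c_5.2, Cfsg.Agent.LsF.iadd_pat, Cfsg.Agent.LsF.imul_pat, Cfsg.Agent.LsF.isub_pat, Cfsg.Agent.LsF.finFintype_eq, Cfsg.Agent.LsF.prodFintype_eq, Cfsg.Agent.LsF.dForall_eq, Cfsg.Agent.LsF.fsum_eq, Cfsg.Agent.LsF.iACM_eq, Cfsg.Agent.LsF.instIDecEq_eq, Cfsg.Agent.LsF.dAnd_eq, Cfsg.Agent.LsF.dBoolEq_eq, Cfsg.Agent.LsF.dForallFin_eq, Cfsg.Agent.LsF.ite_eq, Cfsg.Agent.LsF.decide_eq])); decide +kernel)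

theorem P_sum : ∀ x x', (∑ z : Fin 8, (if P z x then 1 else 0) * (if P z x' then 1 else 0) : ℕ) =
    if x.2 = x'.2 then (if x.1 = x'.1 then 2 else 1) else 0 := by
  decide +kernel

/-- a coordinate plane of the row -/
theorem exists_P : ∀ x, ∃ z, P z x := by decide +kernel

variable {K : Type} [Field K] {q : ℕ}

/-- the coordinates of the rows -/
def C (q : ℕ) (w : K) (x : Fin 3 × Bool) (t : Fin 3) (y : Fin 3 × Bool) : K :=
  if t = x.1 then (if y = x then 1 else 0)
  else if t = oa x.1 then (if y = (oa x.1, true) then 1 else if y = (ob x.1, false) then w else 0)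
  else (if y = (ob x.1, true) then 1 else if y = (oa x.1, false) then -w ^ q else 0)

private def c0 (x : Fin 3 × Bool) (t : Fin 3) (y : Fin 3 × Bool) : ℤ :=
  if t = x.1 then (if y = x then 1 else 0)
  else if t = oa x.1 then (if y = (oa x.1, true) then 1 else 0) else (if y = (ob x.1, true) then 1 else 0)

private def c1 (x : Fin 3 × Bool) (t : Fin 3) (y : Fin 3 × Bool) : ℤ :=
  if t = x.1 then 0
  else if t = oa x.1 then (if y = (oa x.1, true) then 0 else if y = (ob x.1, false) then 1 else 0) else 0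

private def c2 (x : Fin 3 × Bool) (t : Fin 3) (y : Fin 3 × Bool) : ℤ :=
  if t = x.1 then 0
  else if t = oa x.1 then 0 else (if y = (ob x.1, true) then 0 else if y = (oa x.1, false) then -1 else 0)

private theorem C_eq (w : K) (x : Fin 3 × Bool) (t : Fin 3) (y : Fin 3 × Bool) :
    C q w x t y = (c0 x t y : K) + (c1 x t y : K) * w + (c2 x t y : K) * w ^ q := by
  unfold C c0 c1 c2
  split_ifs <;> simp only [Int.cast_one, Int.cast_zero, Int.cast_neg, zero_mul, add_zero, zero_add, one_mul, neg_mul]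

private theorem C_pow [Fintype K] (hK : Fintype.card K = q ^ 2) (w : K) (x : Fin 3 × Bool) (t : Fin 3)
    (y : Fin 3 × Bool) : C q w x t y ^ q = (c0 x t y : K) + (c1 x t y : K) * w ^ q + (c2 x t y : K) * w := by
  unfold C c0 c1 c2
  split_ifs <;> simp only [Int.cast_one, Int.cast_zero, Int.cast_neg, zero_mul, add_zero, zero_add, one_mul, neg_mul,
    one_pow, zero_pow_q hK, neg_pow_q hK, pow_q_pow_q hK]

private def d00 (a b c : Fin 3 → Fin 3 → ℤ) : ℤ :=
  0 + a 0 0 * a 1 1 * a 2 2 - a 0 0 * a 1 2 * a 2 1 - a 0 1 * a 1 0 * a 2 2 + a 0 1 * a 1 2 * a 2 0 + a 0 2 * a 1 0 * a 2 1 - a 0 2 * a 1 1 * a 2 0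
private def d10 (a b c : Fin 3 → Fin 3 → ℤ) : ℤ :=
  0 + a 0 0 * a 1 1 * b 2 2 + a 0 0 * b 1 1 * a 2 2 + b 0 0 * a 1 1 * a 2 2 - a 0 0 * a 1 2 * b 2 1 - a 0 0 * b 1 2 * a 2 1 - b 0 0 * a 1 2 * a 2 1 - a 0 1 * a 1 0 * b 2 2 - a 0 1 * b 1 0 * a 2 2 - b 0 1 * a 1 0 * a 2 2 + a 0 1 * a 1 2 * b 2 0 + a 0 1 * b 1 2 * a 2 0 + b 0 1 * a 1 2 * a 2 0 + a 0 2 * a 1 0 * b 2 1 + a 0 2 * b 1 0 * a 2 1 + b 0 2 * a 1 0 * a 2 1 - a 0 2 * a 1 1 * b 2 0 - a 0 2 * b 1 1 * a 2 0 - b 0 2 * a 1 1 * a 2 0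
private def d01 (a b c : Fin 3 → Fin 3 → ℤ) : ℤ :=
  0 + a 0 0 * a 1 1 * c 2 2 + a 0 0 * c 1 1 * a 2 2 + c 0 0 * a 1 1 * a 2 2 - a 0 0 * a 1 2 * c 2 1 - a 0 0 * c 1 2 * a 2 1 - c 0 0 * a 1 2 * a 2 1 - a 0 1 * a 1 0 * c 2 2 - a 0 1 * c 1 0 * a 2 2 - c 0 1 * a 1 0 * a 2 2 + a 0 1 * a 1 2 * c 2 0 + a 0 1 * c 1 2 * a 2 0 + c 0 1 * a 1 2 * a 2 0 + a 0 2 * a 1 0 * c 2 1 + a 0 2 * c 1 0 * a 2 1 + c 0 2 * a 1 0 * a 2 1 - a 0 2 * a 1 1 * c 2 0 - a 0 2 * c 1 1 * a 2 0 - c 0 2 * a 1 1 * a 2 0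
private def d20 (a b c : Fin 3 → Fin 3 → ℤ) : ℤ :=
  0 + a 0 0 * b 1 1 * b 2 2 + b 0 0 * a 1 1 * b 2 2 + b 0 0 * b 1 1 * a 2 2 - a 0 0 * b 1 2 * b 2 1 - b 0 0 * a 1 2 * b 2 1 - b 0 0 * b 1 2 * a 2 1 - a 0 1 * b 1 0 * b 2 2 - b 0 1 * a 1 0 * b 2 2 - b 0 1 * b 1 0 * a 2 2 + a 0 1 * b 1 2 * b 2 0 + b 0 1 * a 1 2 * b 2 0 + b 0 1 * b 1 2 * a 2 0 + a 0 2 * b 1 0 * b 2 1 + b 0 2 * a 1 0 * b 2 1 + b 0 2 * b 1 0 * a 2 1 - a 0 2 * b 1 1 * b 2 0 - b 0 2 * a 1 1 * b 2 0 - b 0 2 * b 1 1 * a 2 0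
private def d11 (a b c : Fin 3 → Fin 3 → ℤ) : ℤ :=
  0 + a 0 0 * b 1 1 * c 2 2 + a 0 0 * c 1 1 * b 2 2 + b 0 0 * a 1 1 * c 2 2 + b 0 0 * c 1 1 * a 2 2 + c 0 0 * a 1 1 * b 2 2 + c 0 0 * b 1 1 * a 2 2 - a 0 0 * b 1 2 * c 2 1 - a 0 0 * c 1 2 * b 2 1 - b 0 0 * a 1 2 * c 2 1 - b 0 0 * c 1 2 * a 2 1 - c 0 0 * a 1 2 * b 2 1 - c 0 0 * b 1 2 * a 2 1 - a 0 1 * b 1 0 * c 2 2 - a 0 1 * c 1 0 * b 2 2 - b 0 1 * a 1 0 * c 2 2 - b 0 1 * c 1 0 * a 2 2 - c 0 1 * a 1 0 * b 2 2 - c 0 1 * b 1 0 * a 2 2 + a 0 1 * b 1 2 * c 2 0 + a 0 1 * c 1 2 * b 2 0 + b 0 1 * a 1 2 * c 2 0 + b 0 1 * c 1 2 * a 2 0 + c 0 1 * a 1 2 * b 2 0 + c 0 1 * b 1 2 * a 2 0 + a 0 2 * b 1 0 * c 2 1 + a 0 2 * c 1 0 * b 2 1 + b 0 2 * a 1 0 * c 2 1 + b 0 2 * c 1 0 * a 2 1 + c 0 2 * a 1 0 * b 2 1 + c 0 2 * b 1 0 * a 2 1 - a 0 2 * b 1 1 * c 2 0 - a 0 2 * c 1 1 * b 2 0 - b 0 2 * a 1 1 * c 2 0 - b 0 2 * c 1 1 * a 2 0 - c 0 2 * a 1 1 * b 2 0 - c 0 2 * b 1 1 * a 2 0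
private def d02 (a b c : Fin 3 → Fin 3 → ℤ) : ℤ :=
  0 + a 0 0 * c 1 1 * c 2 2 + c 0 0 * a 1 1 * c 2 2 + c 0 0 * c 1 1 * a 2 2 - a 0 0 * c 1 2 * c 2 1 - c 0 0 * a 1 2 * c 2 1 - c 0 0 * c 1 2 * a 2 1 - a 0 1 * c 1 0 * c 2 2 - c 0 1 * a 1 0 * c 2 2 - c 0 1 * c 1 0 * a 2 2 + a 0 1 * c 1 2 * c 2 0 + c 0 1 * a 1 2 * c 2 0 + c 0 1 * c 1 2 * a 2 0 + a 0 2 * c 1 0 * c 2 1 + c 0 2 * a 1 0 * c 2 1 + c 0 2 * c 1 0 * a 2 1 - a 0 2 * c 1 1 * c 2 0 - c 0 2 * a 1 1 * c 2 0 - c 0 2 * c 1 1 * a 2 0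
private def d30 (a b c : Fin 3 → Fin 3 → ℤ) : ℤ :=
  0 + b 0 0 * b 1 1 * b 2 2 - b 0 0 * b 1 2 * b 2 1 - b 0 1 * b 1 0 * b 2 2 + b 0 1 * b 1 2 * b 2 0 + b 0 2 * b 1 0 * b 2 1 - b 0 2 * b 1 1 * b 2 0
private def d21 (a b c : Fin 3 → Fin 3 → ℤ) : ℤ :=
  0 + b 0 0 * b 1 1 * c 2 2 + b 0 0 * c 1 1 * b 2 2 + c 0 0 * b 1 1 * b 2 2 - b 0 0 * b 1 2 * c 2 1 - b 0 0 * c 1 2 * b 2 1 - c 0 0 * b 1 2 * b 2 1 - b 0 1 * b 1 0 * c 2 2 - b 0 1 * c 1 0 * b 2 2 - c 0 1 * b 1 0 * b 2 2 + b 0 1 * b 1 2 * c 2 0 + b 0 1 * c 1 2 * b 2 0 + c 0 1 * b 1 2 * b 2 0 + b 0 2 * b 1 0 * c 2 1 + b 0 2 * c 1 0 * b 2 1 + c 0 2 * b 1 0 * b 2 1 - b 0 2 * b 1 1 * c 2 0 - b 0 2 * c 1 1 * b 2 0 - c 0 2 * b 1 1 * b 2 0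
private def d12 (a b c : Fin 3 → Fin 3 → ℤ) : ℤ :=
  0 + b 0 0 * c 1 1 * c 2 2 + c 0 0 * b 1 1 * c 2 2 + c 0 0 * c 1 1 * b 2 2 - b 0 0 * c 1 2 * c 2 1 - c 0 0 * b 1 2 * c 2 1 - c 0 0 * c 1 2 * b 2 1 - b 0 1 * c 1 0 * c 2 2 - c 0 1 * b 1 0 * c 2 2 - c 0 1 * c 1 0 * b 2 2 + b 0 1 * c 1 2 * c 2 0 + c 0 1 * b 1 2 * c 2 0 + c 0 1 * c 1 2 * b 2 0 + b 0 2 * c 1 0 * c 2 1 + c 0 2 * b 1 0 * c 2 1 + c 0 2 * c 1 0 * b 2 1 - b 0 2 * c 1 1 * c 2 0 - c 0 2 * b 1 1 * c 2 0 - c 0 2 * c 1 1 * b 2 0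
private def d03 (a b c : Fin 3 → Fin 3 → ℤ) : ℤ :=
  0 + c 0 0 * c 1 1 * c 2 2 - c 0 0 * c 1 2 * c 2 1 - c 0 1 * c 1 0 * c 2 2 + c 0 1 * c 1 2 * c 2 0 + c 0 2 * c 1 0 * c 2 1 - c 0 2 * c 1 1 * c 2 0

private theorem det_exp (a b c : Fin 3 → Fin 3 → ℤ) {u v : K} (h : u * v = 1) :
    (Matrix.of fun t t' => (a t t' : K) + (b t t' : K) * u + (c t t' : K) * v).det =
      ((d00 a b c + d11 a b c : ℤ) : K) + ((d10 a b c + d21 a b c : ℤ) : K) * u + ((d01 a b c + d12 a b c : ℤ) : K) * v +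
        (d20 a b c : K) * u ^ 2 + (d02 a b c : K) * v ^ 2 + (d30 a b c : K) * u ^ 3 + (d03 a b c : K) * v ^ 3 := by
  have e : (Matrix.of fun t t' => (a t t' : K) + (b t t' : K) * u + (c t t' : K) * v).det =
      (d00 a b c : K) + (d11 a b c : K) * (u * v) + (d10 a b c : K) * u + (d21 a b c : K) * (u * v) * u +
        (d01 a b c : K) * v + (d12 a b c : K) * (u * v) * v +
        (d20 a b c : K) * u ^ 2 + (d02 a b c : K) * v ^ 2 + (d30 a b c : K) * u ^ 3 + (d03 a b c : K) * v ^ 3 := by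
    simp only [Matrix.det_fin_three, Matrix.of_apply, d00, d10, d01, d20, d11, d02, d30, d21, d12, d03, Int.cast_add,
      Int.cast_sub, Int.cast_mul, Int.cast_zero]
    ring
  rw [e, h, Int.cast_add, Int.cast_add, Int.cast_add]
  ring

private def eA (c : Fin 3 × Bool → Fin 3 → Fin 3 × Bool → ℤ) (x : Fin 3 × Bool) (z : Fin 8) (t t' : Fin 3) : ℤ :=
  c x t (t', sg z t')

private theorem k_A : ∀ (x : Fin 3 × Bool) (z : Fin 8),
    d00 (eA c0 x z) (eA c1 x z) (eA c2 x z) + d11 (eA c0 x z) (eA c1 x z) (eA c2 x z) = (if P z x then 1 else 0) ∧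
    d10 (eA c0 x z) (eA c1 x z) (eA c2 x z) + d21 (eA c0 x z) (eA c1 x z) (eA c2 x z) = 0 ∧
    d01 (eA c0 x z) (eA c1 x z) (eA c2 x z) + d12 (eA c0 x z) (eA c1 x z) (eA c2 x z) = 0 ∧
    d20 (eA c0 x z) (eA c1 x z) (eA c2 x z) = 0 ∧ d02 (eA c0 x z) (eA c1 x z) (eA c2 x z) = 0 ∧
    d30 (eA c0 x z) (eA c1 x z) (eA c2 x z) = 0 ∧ d03 (eA c0 x z) (eA c1 x z) (eA c2 x z) = 0 := by
  decide +kernel

theorem C_A {w : K} (hw : w * w ^ q = 1) (x : Fin 3 × Bool) (z : Fin 8) :
    (Matrix.of fun t t' => ∑ y, C q w x t y * (A z t' y : K)).det = if P z x then 1 else 0 := by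
  have h1 : ∀ t t', ∑ y, C q w x t y * (A z t' y : K) =
      (eA c0 x z t t' : K) + (eA c1 x z t t' : K) * w + (eA c2 x z t t' : K) * w ^ q := by
    intro t t'
    rw [Finset.sum_eq_single (t', sg z t')]
    · rw [A, if_pos rfl, Int.cast_one, mul_one]
      exact C_eq w x t _
    · intro y _ hy
      rw [A, if_neg hy, Int.cast_zero, mul_zero]
    · intro h; exact absurd (Finset.mem_univ _) h
  obtain ⟨e0, e1, e2, e3, e4, e5, e6⟩ := k_A x z
  simp only [h1]
  rw [det_exp _ _ _ hw, e0, e1, e2, e3, e4, e5, e6]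
  split_ifs <;> simp only [Int.cast_one, Int.cast_zero, zero_mul, add_zero]

private def eB (c : Fin 3 × Bool → Fin 3 → Fin 3 × Bool → ℤ) (x x' : Fin 3 × Bool) (t t' : Fin 3) : ℤ :=
  ∑ y, c x t y * B x' t' y

private noncomputable def _root_.Cfsg.Agent.LsF.f28a37c_7 : {f // @Cfsg.Agent.H991.D3.Last.d00 = f} := ⟨_, by first | (delta Cfsg.Agent.H991.D3.Last.d00; rewrite [Cfsg.Agent.LsF.iadd_pat, Cfsg.Agent.LsF.imul_pat, Cfsg.Agent.LsF.isub_pat]; exact rfl) | exact rfl⟩
private noncomputable def _root_.Cfsg.Agent.LsF.f28a37c_21 : {f // @Cfsg.Agent.H991.D3.Last.eB = f} := ⟨_, by first | (delta Cfsg.Agent.H991.D3.Last.eB; rewrite [Cfsg.Agent.LsF.f28a37c_6.2, Cfsg.Agent.LsF.imul_pat, Cfsg.Agent.LsF.finFintype_eq, Cfsg.Agent.LsF.prodFintype_eq, Cfsg.Agent.LsF.fsum_eq, Cfsg.Agent.LsF.iACM_eq]; exact rfl) | exact rfl⟩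
private noncomputable def _root_.Cfsg.Agent.LsF.f28a37c_9 : {f // @Cfsg.Agent.H991.D3.Last.c0 = f} := ⟨_, by first | (delta Cfsg.Agent.H991.D3.Last.c0; rewrite [Cfsg.Agent.LsF.f28a37c_4.2, Cfsg.Agent.LsF.f28a37c_5.2, Cfsg.Agent.LsF.dProdEq_eq, Cfsg.Agent.LsF.dFinEq_eq, Cfsg.Agent.LsF.dBoolEq_eq, Cfsg.Agent.LsF.ite_eq]; exact rfl) | exact rfl⟩
private noncomputable def _root_.Cfsg.Agent.LsF.f28a37c_10 : {f // @Cfsg.Agent.H991.D3.Last.c1 = f} := ⟨_, by first | (delta Cfsg.Agent.H991.D3.Last.c1; rewrite [Cfsg.Agent.LsF.f28a37c_4.2, Cfsg.Agent.LsF.f28a37c_5.2, Cfsg.Agent.LsF.dProdEq_eq, Cfsg.Agent.LsF.dFinEq_eq, Cfsg.Agent.LsF.dBoolEq_eq, Cfsg.Agent.LsF.ite_eq]; exact rfl) | exact rfl⟩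
private noncomputable def _root_.Cfsg.Agent.LsF.f28a37c_11 : {f // @Cfsg.Agent.H991.D3.Last.c2 = f} := ⟨_, by first | (delta Cfsg.Agent.H991.D3.Last.c2; rewrite [Cfsg.Agent.LsF.f28a37c_4.2, Cfsg.Agent.LsF.f28a37c_5.2, Cfsg.Agent.LsF.ineg_pat, Cfsg.Agent.LsF.dProdEq_eq, Cfsg.Agent.LsF.dFinEq_eq, Cfsg.Agent.LsF.dBoolEq_eq, Cfsg.Agent.LsF.ite_eq]; exact rfl) | exact rfl⟩
private noncomputable def _root_.Cfsg.Agent.LsF.f28a37c_12 : {f // @Cfsg.Agent.H991.D3.Last.d11 = f} := ⟨_, by first | (delta Cfsg.Agent.H991.D3.Last.d11; rewrite [Cfsg.Agent.LsF.iadd_pat, Cfsg.Agent.LsF.imul_pat, Cfsg.Agent.LsF.isub_pat]; exact rfl) | exact rfl⟩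
private noncomputable def _root_.Cfsg.Agent.LsF.f28a37c_13 : {f // @Cfsg.Agent.H991.D3.Last.d10 = f} := ⟨_, by first | (delta Cfsg.Agent.H991.D3.Last.d10; rewrite [Cfsg.Agent.LsF.iadd_pat, Cfsg.Agent.LsF.imul_pat, Cfsg.Agent.LsF.isub_pat]; exact rfl) | exact rfl⟩
private noncomputable def _root_.Cfsg.Agent.LsF.f28a37c_14 : {f // @Cfsg.Agent.H991.D3.Last.d21 = f} := ⟨_, by first | (delta Cfsg.Agent.H991.D3.Last.d21; rewrite [Cfsg.Agent.LsF.iadd_pat, Cfsg.Agent.LsF.imul_pat, Cfsg.Agent.LsF.isub_pat]; exact rfl) | exact rfl⟩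
private noncomputable def _root_.Cfsg.Agent.LsF.f28a37c_15 : {f // @Cfsg.Agent.H991.D3.Last.d01 = f} := ⟨_, by first | (delta Cfsg.Agent.H991.D3.Last.d01; rewrite [Cfsg.Agent.LsF.iadd_pat, Cfsg.Agent.LsF.imul_pat, Cfsg.Agent.LsF.isub_pat]; exact rfl) | exact rfl⟩
private noncomputable def _root_.Cfsg.Agent.LsF.f28a37c_16 : {f // @Cfsg.Agent.H991.D3.Last.d12 = f} := ⟨_, by first | (delta Cfsg.Agent.H991.D3.Last.d12; rewrite [Cfsg.Agent.LsF.iadd_pat, Cfsg.Agent.LsF.imul_pat, Cfsg.Agent.LsF.isub_pat]; exact rfl) | exact rfl⟩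
private noncomputable def _root_.Cfsg.Agent.LsF.f28a37c_17 : {f // @Cfsg.Agent.H991.D3.Last.d20 = f} := ⟨_, by first | (delta Cfsg.Agent.H991.D3.Last.d20; rewrite [Cfsg.Agent.LsF.iadd_pat, Cfsg.Agent.LsF.imul_pat, Cfsg.Agent.LsF.isub_pat]; exact rfl) | exact rfl⟩
private noncomputable def _root_.Cfsg.Agent.LsF.f28a37c_18 : {f // @Cfsg.Agent.H991.D3.Last.d02 = f} := ⟨_, by first | (delta Cfsg.Agent.H991.D3.Last.d02; rewrite [Cfsg.Agent.LsF.iadd_pat, Cfsg.Agent.LsF.imul_pat, Cfsg.Agent.LsF.isub_pat]; exact rfl) | exact rfl⟩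
private noncomputable def _root_.Cfsg.Agent.LsF.f28a37c_19 : {f // @Cfsg.Agent.H991.D3.Last.d30 = f} := ⟨_, by first | (delta Cfsg.Agent.H991.D3.Last.d30; rewrite [Cfsg.Agent.LsF.iadd_pat, Cfsg.Agent.LsF.imul_pat, Cfsg.Agent.LsF.isub_pat]; exact rfl) | exact rfl⟩
private noncomputable def _root_.Cfsg.Agent.LsF.f28a37c_20 : {f // @Cfsg.Agent.H991.D3.Last.d03 = f} := ⟨_, by first | (delta Cfsg.Agent.H991.D3.Last.d03; rewrite [Cfsg.Agent.LsF.iadd_pat, Cfsg.Agent.LsF.imul_pat, Cfsg.Agent.LsF.isub_pat]; exact rfl) | exact rfl⟩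
private theorem k_B : ∀ x x' : Fin 3 × Bool,
    d00 (eB c0 x x') (eB c1 x x') (eB c2 x x') + d11 (eB c0 x x') (eB c1 x x') (eB c2 x x') =
      (if x.2 = x'.2 then (if x.1 = x'.1 then 2 else 1) else 0) ∧
    d10 (eB c0 x x') (eB c1 x x') (eB c2 x x') + d21 (eB c0 x x') (eB c1 x x') (eB c2 x x') =
      (if x.2 = x'.2 then (if x.1 = x'.1 then 1 else 0) else 0) ∧
    d01 (eB c0 x x') (eB c1 x x') (eB c2 x x') + d12 (eB c0 x x') (eB c1 x x') (eB c2 x x') =
      (if x.2 = x'.2 then (if x.1 = x'.1 then 1 else 0) else 0) ∧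
    d20 (eB c0 x x') (eB c1 x x') (eB c2 x x') = 0 ∧ d02 (eB c0 x x') (eB c1 x x') (eB c2 x x') = 0 ∧
    d30 (eB c0 x x') (eB c1 x x') (eB c2 x x') = 0 ∧ d03 (eB c0 x x') (eB c1 x x') (eB c2 x x') = 0 := by
  (refine of_decide_eq_true ?_; (try (rewrite [Cfsg.Agent.LsF.f28a37c_7.2, Cfsg.Agent.LsF.f28a37c_21.2, Cfsg.Agent.LsF.f28a37c_9.2, Cfsg.Agent.LsF.f28a37c_10.2, Cfsg.Agent.LsF.f28a37c_11.2, Cfsg.Agent.LsF.f28a37c_12.2, Cfsg.Agent.LsF.f28a37c_13.2, Cfsg.Agent.LsF.f28a37c_14.2, Cfsg.Agent.LsF.f28a37c_15.2, Cfsg.Agent.LsF.f28a37c_16.2, Cfsg.Agent.LsF.f28a37c_17.2, Cfsg.Agent.LsF.f28a37c_18.2, Cfsg.Agent.LsF.f28a37c_19.2, Cfsg.Agent.LsF.f28a37c_20.2, Cfsg.Agent.LsF.iadd_pat, Cfsg.Agent.LsF.finFintype_eq, Cfsg.Agent.LsF.prodFintype_eq, Cfsg.Agent.LsF.dForall_eq, Cfsg.Agent.LsF.instIDecEq_eq, Cfsg.Agent.LsF.dAnd_eq, Cfsg.Agent.LsF.dFinEq_eq, Cfsg.Agent.LsF.dBoolEq_eq, Cfsg.Agent.LsF.ite_eq, Cfsg.Agent.LsF.decide_eq])); decide +kernel)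

theorem C_B {w : K} (hw : w * w ^ q = 1) (x x' : Fin 3 × Bool) :
    (Matrix.of fun t t' => ∑ y, C q w x t y * (B x' t' y : K)).det =
      if x.2 = x'.2 then (if x.1 = x'.1 then (1 + w) * (1 + w ^ q) else 1) else 0 := by
  have h1 : ∀ t t', ∑ y, C q w x t y * (B x' t' y : K) =
      (eB c0 x x' t t' : K) + (eB c1 x x' t t' : K) * w + (eB c2 x x' t t' : K) * w ^ q := by
    intro t t'
    simp only [eB, Int.cast_sum, Int.cast_mul, Finset.sum_mul, ← Finset.sum_add_distrib]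
    refine Finset.sum_congr rfl fun y _ => ?_
    rw [C_eq]
    ring
  obtain ⟨e0, e1, e2, e3, e4, e5, e6⟩ := k_B x x'
  simp only [h1]
  rw [det_exp _ _ _ hw, e0, e1, e2, e3, e4, e5, e6]
  split_ifs
  · push_cast
    linear_combination -hw
  · push_cast
    ring
  · push_cast
    ring

private def eI (c d : Fin 3 × Bool → Fin 3 → Fin 3 × Bool → ℤ) (x : Fin 3 × Bool) (t t' : Fin 3) : ℤ :=
  ∑ y : Fin 3 × Bool, c x t y * d x t' (y.1, !y.2)

private noncomputable def _root_.Cfsg.Agent.LsF.f28a37c_22 : {f // @Cfsg.Agent.H991.D3.Last.eI = f} := ⟨_, by first | (delta Cfsg.Agent.H991.D3.Last.eI; rewrite [Cfsg.Agent.LsF.imul_pat, Cfsg.Agent.LsF.finFintype_eq, Cfsg.Agent.LsF.prodFintype_eq, Cfsg.Agent.LsF.fsum_eq, Cfsg.Agent.LsF.iACM_eq, Cfsg.Agent.LsF.not_eq]; exact rfl) | exact rfl⟩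
private theorem k_I : ∀ (x : Fin 3 × Bool) (t t' : Fin 3), eI c0 c0 x t t' = 0 ∧ eI c1 c0 x t t' + eI c0 c2 x t t' = 0 ∧
    eI c2 c0 x t t' + eI c0 c1 x t t' = 0 ∧ eI c1 c2 x t t' = 0 ∧ eI c1 c1 x t t' + eI c2 c2 x t t' = 0 ∧
    eI c2 c1 x t t' = 0 := by
  (refine of_decide_eq_true ?_; (try (rewrite [Cfsg.Agent.LsF.f28a37c_22.2, Cfsg.Agent.LsF.f28a37c_9.2, Cfsg.Agent.LsF.f28a37c_10.2, Cfsg.Agent.LsF.f28a37c_11.2, Cfsg.Agent.LsF.iadd_pat, Cfsg.Agent.LsF.finFintype_eq, Cfsg.Agent.LsF.prodFintype_eq, Cfsg.Agent.LsF.dForall_eq, Cfsg.Agent.LsF.instIDecEq_eq, Cfsg.Agent.LsF.dAnd_eq, Cfsg.Agent.LsF.dForallFin_eq, Cfsg.Agent.LsF.decide_eq])); decide +kernel)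

theorem C_iso [Fintype K] (hK : Fintype.card K = q ^ 2) (w : K) (x : Fin 3 × Bool) (t t' : Fin 3) :
    ∑ y : Fin 3 × Bool, C q w x t y * C q w x t' (y.1, !y.2) ^ q = 0 := by
  have h1 : ∑ y : Fin 3 × Bool, C q w x t y * C q w x t' (y.1, !y.2) ^ q =
      (eI c0 c0 x t t' : K) + ((eI c1 c0 x t t' : K) + eI c0 c2 x t t') * w +
      ((eI c2 c0 x t t' : K) + eI c0 c1 x t t') * w ^ q + (eI c1 c2 x t t' : K) * (w * w) +
      ((eI c1 c1 x t t' : K) + eI c2 c2 x t t') * (w * w ^ q) + (eI c2 c1 x t t' : K) * (w ^ q * w ^ q) := by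
    simp only [eI, Int.cast_sum, Int.cast_mul, Finset.sum_mul, ← Finset.sum_add_distrib]
    refine Finset.sum_congr rfl fun y _ => ?_
    rw [C_pow hK, C_eq]
    ring
  obtain ⟨e0, e1, e2, e3, e4, e5⟩ := k_I x t t'
  rw [h1, ← Int.cast_add, ← Int.cast_add, ← Int.cast_add, e0, e1, e2, e3, e4, e5, Int.cast_zero]
  ring

end Last

variable {K : Type} [Field K] [Fintype K] {N q m : ℕ} {hK : Fintype.card K = q ^ 2} {W : WFrame (PU hK N) m}
  {k : Type*} [Field k] {V : Type*} [AddCommGroup V] [Module k V] [FiniteDimensional k V]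
  {r : ℕ} {j : K →+* k} {θ : Fin m → ℕ} {vv : (Fin m → Fin N → K) → V}
  {ff : (Fin m → Fin N → K) → Module.Dual k V}

include W in
theorem node_last' {i : Fin m} (h : IsKer q (i + 1) j θ vv ff) (h1 : 2 ≤ (i : ℕ)) (hθi : θ i ≠ 0)
    (hθ : ∀ i', i' ≠ i → θ i' = 0) : 14 ≤ Module.finrank k V := by
  obtain ⟨w, hw, hθw⟩ := exists_param hK j
  let τ : Fin 3 → Fin m := ![⟨i - 2, by omega⟩, ⟨i - 1, by omega⟩, i]
  have hτ : Function.Injective τ := by
    intro a b hab
    fin_cases a <;> fin_cases b <;> simp only [Fin.zero_eta, Fin.isValue, cons_val_zero, τ, Fin.mk_one, cons_val_one,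
        Fin.ext_iff, zero_ne_one, Fin.reduceFinMk, cons_val, Nat.reduceAdd, Fin.coe_ofNat_eq_mod, Nat.zero_mod,
        Nat.mod_succ, OfNat.zero_ne_ofNat, one_ne_zero, Nat.one_mod, OfNat.one_ne_ofNat, OfNat.ofNat_ne_zero,
        OfNat.ofNat_ne_one] at hab ⊢ <;> omega
  have hιr : ∀ t, (τ t : ℕ) < (i : ℕ) + 1 := by
    intro t
    fin_cases t <;> simp only [Fin.zero_eta, Fin.isValue, cons_val_zero, Order.lt_add_one_iff, tsub_le_iff_right,
        le_add_iff_nonneg_right, zero_le, τ, Fin.mk_one, cons_val_one, Fin.reduceFinMk, cons_val, lt_add_iff_pos_right,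
        Order.lt_one_iff]
  have hιτ : ∀ a : Fin m, (a : ℕ) < (i : ℕ) + 1 → a ∉ Set.range τ → a ∉ Set.range τ := fun _ _ h => h
  have e1 : ∀ z z' : Fin 8, (Matrix.of fun t t' => hermForm N K q (row (W := W) τ (Last.A z) t)
      (col (W := W) τ (Last.A z') t')).det = if z = z' then 1 else 0 := by
    intro z z'
    simp only [row, herm_col hτ W.V0.zero_mem]
    rw [gram_int, Last.A_dual]
    split_ifs <;> simp
  have e2 : ∀ (z : Fin 8) (x : Fin 3 × Bool), (Matrix.of fun t t' => hermForm N K q (row (W := W) τ (Last.A z) t)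
      (col (W := W) τ (Last.B x) t')).det = if Last.P z x then 1 else 0 := by
    intro z x
    simp only [row, herm_col hτ W.V0.zero_mem]
    rw [gram_int, Last.A_B]
    split_ifs <;> simp
  have e3 : ∀ (x : Fin 3 × Bool) (z : Fin 8), (Matrix.of fun t t' => hermForm N K q (vec W τ (Last.C q w x t) 0)
      (col (W := W) τ (Last.A z) t')).det = if Last.P z x then 1 else 0 := by
    intro x z
    simp only [herm_col hτ W.V0.zero_mem]
    exact Last.C_A hw x z
  have e4 : ∀ x x' : Fin 3 × Bool, (Matrix.of fun t t' => hermForm N K q (vec W τ (Last.C q w x t) 0)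
      (col (W := W) τ (Last.B x') t')).det =
      if x.2 = x'.2 then (if x.1 = x'.1 then (1 + w) * (1 + w) ^ q else 1) else 0 := by
    intro x x'
    simp only [herm_col hτ W.V0.zero_mem]
    rw [Last.C_B hw, add_pow_q hK, one_pow]
  have key := schur (κ := fun (a b : Fin 8 ⊕ (Fin 3 × Bool)) => j (Matrix.of fun t t' => hermForm N K q
      (Sum.elim (fun z => row (W := W) τ (Last.A z)) (fun x t => vec W τ (Last.C q w x t) 0) a t)
      (Sum.elim (fun z => col (W := W) τ (Last.A z)) (fun x => col (W := W) τ (Last.B x)) b t')).det ^ θ i)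
    (f := Sum.inl) (g := Sum.inl) (f' := Sum.inr) (g' := Sum.inr) (n := Fintype.card (Fin 3 × Bool)) (fun z z' => by
      simp only [Sum.elim_inl, e1]
      split_ifs <;> simp [hθi]) (rk_diag (c := fun _ => j ((1 + w) * (1 + w) ^ q) ^ θ i - 2) (fun _ => hθw _ hθi)
        fun x x' => by
        have e5 : ∀ z : Fin 8, j (if Last.P z x then 1 else 0) ^ θ i * j (if Last.P z x' then 1 else 0) ^ θ i =
            (((if Last.P z x then 1 else 0) * (if Last.P z x' then 1 else 0) : ℕ) : k) := by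
          intro z
          split_ifs <;> simp only [map_one, one_pow, mul_one, Nat.cast_one, map_zero, ne_eq, hθi, not_false_eq_true,
              zero_pow, mul_zero, Nat.cast_zero]
        simp only [Sum.elim_inl, Sum.elim_inr, e2, e3, e4, e5]
        rw [← Nat.cast_sum, Last.P_sum]
        by_cases h2 : x.2 = x'.2
        · by_cases h3 : x.1 = x'.1
          · rw [if_pos h2, if_pos h3, if_pos h2, if_pos h3, if_pos (Prod.ext h3 h2)]
            push_cast
            rfl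
          · rw [if_pos h2, if_neg h3, if_pos h2, if_neg h3, if_neg (fun h4 => h3 (congrArg Prod.fst h4))]
            simp only [_root_.map_one, _root_.one_pow, _root_.Nat.cast_one, _root_.sub_self]
        · rw [if_neg h2, if_neg h2, if_neg (fun h4 => h2 (congrArg Prod.snd h4))]
          simp [hθi])
  rw [Fintype.card_fin, Fintype.card_prod, Fintype.card_fin, Fintype.card_bool] at key
  refine le_finrank_of (W := W) h rfl hθ hτ hιr (fun a => ?_) (fun b => ?_) key
  · rcases a with z | x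
    · exact loc_row hτ hιτ (Last.A_iso z) (B := Last.A z) (by rw [Last.A_dual, if_pos rfl])
    · obtain ⟨z, hz⟩ := Last.exists_P x
      refine loc_vec hτ hιτ (fun _ => W.V0.zero_mem) (fun t t' => ?_) (fun t y => ((Last.A z t (y.1, !y.2) : ℤ) : K)) ?_
      · rw [herm_zero_right hK, add_zero]
        exact Last.C_iso hK w x t t'
      · have h3 := Last.C_A hw x z
        rw [if_pos hz] at h3
        have h4 : (Matrix.of fun t t' => ∑ y : Fin 3 × Bool, Last.C q w x t y *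
            ((Last.A z t' ((y.1, !y.2).1, !(y.1, !y.2).2) : ℤ) : K) ^ q).det = 1 := by
          rw [← h3]
          congr 2
          ext t t'
          exact Finset.sum_congr rfl fun y _ => by rw [int_pow_q hK, Bool.not_not]
        rw [h4]
        exact one_ne_zero
  · rcases b with z | x
    · exact loc_col hτ hιτ (Last.A_iso z) (A := Last.A z) (by rw [Last.A_dual, if_pos rfl])
    · obtain ⟨z, hz⟩ := Last.exists_P x
      exact loc_col hτ hιτ (Last.B_iso x) (A := Last.A z) (by rw [Last.A_B, if_pos hz])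

include W in
/-- **a single node `i = m - 1 ≥ 2`** -/
theorem node_last {i : Fin m} (h : IsKer q (i + 1) j θ vv ff) (h1 : 2 ≤ (i : ℕ)) (hθi : θ i ≠ 0)
    (hθ : ∀ i', i' ≠ i → θ i' = 0) : 13 ≤ Module.finrank k V :=
  le_trans (by norm_num) (node_last' (W := W) h h1 hθi hθ)

end Cfsg.Agent.H991.D3
end

-- part: H876/D3/Main
section
/-!
# `PSU_N(q)`, `N ≥ 4`, in its own characteristic: dimensions at most `12` (helper876)

* `two_nodes` : two nodes: `13 ≤ dim V`; `dims` (the case `N = 5`, second node alone, as a hypothesis);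
* **`core_psu'`** : `N ≠ 5`: `card ι ≤ 12` gives `card ι = N`, or `N = 4`, `card ι = 6` and `SD P`, or `N = 4`,
  `card ι = 10` and `p ≠ 2`.
-/

set_option autoImplicit false
set_option linter.unusedSectionVars false

namespace Cfsg.Agent.H876.D3

open Cfsg Cfsg.Geo Matrix
open LieClassical.HermBasic LieClassical.HermSiegel Cfsg.Agent.TitsThree.KSideU Cfsg.Agent.TitsThree.KSideUDesc
  Cfsg.Agent.TitsThree.WBridge Cfsg.Agent.TitsThree.SiegelGen Cfsg.Agent.TitsThree.Siegel Cfsg.Agent.H61.SUCross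
  Cfsg.Agent.TitsThree.WittFrame
open Cfsg.Agent.H915.LD

universe u

section nodes

variable {K : Type} [Field K] [Fintype K] {N q m : ℕ} {hK : Fintype.card K = q ^ 2}
variable {k : Type*} [Field k] {V : Type*} [AddCommGroup V] [Module k V] [FiniteDimensional k V]
  {j : K →+* k} {θ : Fin m → ℕ} {vv : (Fin m → Fin N → K) → V}
  {ff : (Fin m → Fin N → K) → Module.Dual k V}

/-- **Two nodes.** -/
theorem two_nodes (p : ℕ) [hp : Fact p.Prime] [CharP K p] [CharP k p] (W : WFrame (PU hK N) m)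
    (h : IsKer q m j θ vv ff) {a b : Fin m} (hab : a < b) (ha : θ a ≠ 0) (hb : θ b ≠ 0) (hle : θ a < q ^ 2) :
    13 ≤ Module.finrank k V := by
  obtain ⟨f, hf⟩ := exists_f hK p
  obtain ⟨κ, hκ, vv', ff', h'⟩ := exists_pk W h hab hb
  rcases pk_cases (p := p) hK hf h' ha hle hκ with h1 | ⟨j', κ', hκ', hr, h1⟩ | ⟨hp3, j', κ', hκ', hr, h1⟩
  · exact h1
  · have := H887.D3.ex1_pair hK h1 hκ' hr
    omega
  · subst hp3
    exact H887.D3.ex2_pair hK h1 hκ' hr

/-- **The dimensions.** -/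
theorem dims (p : ℕ) [hp : Fact p.Prime] [CharP K p] [CharP k p] (hN : 4 ≤ N) (hm : 2 ≤ m) (W : WFrame (PU hK N) m)
    (hW : Kind W) (hev : W.V0 = ⊥ → N = 2 * m) (hodd : W.V0 ≠ ⊥ → N = 2 * m + 1) {J : Set (Fin m)}
    (hB : Bd W J θ) (hJ : ∃ i, i ∉ J)
    (hker : ∀ r, r ≤ m → 0 < r → (∀ i : Fin m, r ≤ (i : ℕ) → θ i = 0) →
        ∃ (vv : (Fin m → Fin N → K) → V) (ff : (Fin m → Fin N → K) → Module.Dual k V), IsKer q r j θ vv ff)
    (h5 : N = 5 → θ ⟨1, by omega⟩ ≠ 0 → (∀ i : Fin m, (i : ℕ) ≠ 1 → θ i = 0) →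
      ∀ (vv : (Fin m → Fin N → K) → V) (ff : (Fin m → Fin N → K) → Module.Dual k V), IsKer q 2 j θ vv ff →
        Module.finrank k V = 10 ∨ 13 ≤ Module.finrank k V) :
    Module.finrank k V = N ∨ (N = 4 ∧ Module.finrank k V = 6 ∧ W.V0 = ⊥ ∧ ∀ i : Fin m, (i : ℕ) + 1 < m → θ i = 0) ∨
      (N = 4 ∧ Module.finrank k V = 10 ∧ p ≠ 2) ∨ (N = 5 ∧ Module.finrank k V = 10) ∨ 13 ≤ Module.finrank k V := by
  obtain ⟨i, hi⟩ := hJ
  have hθi := hB.pos i hi
  have hlt : ∀ i, θ i < q ^ 2 := by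
    intro i
    have h3 := hB.le i
    have h4 : 0 < q ^ 2 := pow_pos (by have := two_le_q hK; omega) _
    omega
  by_cases huniq : ∃ i', i' ≠ i ∧ θ i' ≠ 0
  · obtain ⟨i', hne, hi'⟩ := huniq
    obtain ⟨vv, ff, h⟩ := hker m le_rfl (by omega) (fun i hi => absurd i.2 (by omega))
    right; right; right; right
    rcases lt_or_gt_of_ne hne with h3 | h3
    · exact two_nodes p W h h3 hi' hθi (hlt _)
    · exact two_nodes p W h h3 hθi hi' (hlt _)
  push Not at huniq
  obtain ⟨vv, ff, h⟩ := hker (i + 1) (by have := i.2; omega) (by omega) (fun i' hi' => huniq i' (by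
    rintro rfl
    omega))
  rcases Nat.eq_zero_or_pos (i : ℕ) with h0 | h0
  · have hi0 : i = ⟨0, by omega⟩ := Fin.ext h0
    rw [h0] at h
    have hθ : ∀ i' : Fin m, 1 ≤ (i' : ℕ) → θ i' = 0 := fun i' h1 => huniq i' (by
      rintro rfl
      omega)
    rcases node0 p hN hm W h hθ (hi0 ▸ hθi) (hlt _) with h1 | h1 | h1
    · exact Or.inl h1
    · exact Or.inr (Or.inr (Or.inl h1))
    · exact Or.inr (Or.inr (Or.inr (Or.inr h1)))
  by_cases h2 : (i : ℕ) + 1 < m
  · exact Or.inr (Or.inr (Or.inr (Or.inr (H991.D3.node_mid (W := W) h h0 h2 hθi huniq))))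
  by_cases h3 : 2 ≤ (i : ℕ)
  · exact Or.inr (Or.inr (Or.inr (Or.inr (H991.D3.node_last (W := W) h h3 hθi huniq))))
  have hi1 : (i : ℕ) = 1 := by omega
  have hi1' : i = ⟨1, by omega⟩ := Fin.ext hi1
  have hm2 : m = 2 := by omega
  rw [hi1] at h
  have hθ : ∀ i' : Fin m, (i' : ℕ) ≠ 1 → θ i' = 0 := fun i' h1 => huniq i' (by
    rintro rfl
    exact h1 hi1)
  by_cases hV0 : W.V0 = ⊥
  · have hN4 : N = 4 := by rw [hev hV0, hm2]
    subst hN4
    rcases node1_four p hm W h hθ (hi1' ▸ hθi) (hB.last hV0 _ (by simp; omega)) with h1 | h1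
    · exact Or.inr (Or.inl ⟨rfl, h1, hV0, fun i' h1 => hθ i' (by omega)⟩)
    · exact Or.inr (Or.inr (Or.inr (Or.inr (by omega))))
  · have hN5 : N = 5 := by rw [hodd hV0, hm2]
    rcases h5 hN5 (hi1' ▸ hθi) hθ vv ff h with h1 | h1
    · exact Or.inr (Or.inr (Or.inr (Or.inl ⟨hN5, h1⟩)))
    · exact Or.inr (Or.inr (Or.inr (Or.inr h1)))

end nodes

section core

variable {ι : Type} [Fintype ι] [DecidableEq ι] {F : Type u} [Field F] [Finite F] {P : Subgroup (GL ι F)}

/-- **`PSU_N(q)` in its own characteristic, dimension at most `12`, `N ≠ 5`.** -/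
theorem core_psu' (p : ℕ) [hp : Fact p.Prime] [CharP F p] (K : Type) [Field K] [Fintype K] [CharP K p] {N q : ℕ}
    (hN : 4 ≤ N) (hN5 : N ≠ 5) (hn : Fintype.card ι ≤ 12) (hK : Fintype.card K = q ^ 2) (hC : Core P)
    (Φ : Soc P ≃* PSU N K q) :
    Fintype.card ι = N ∨ (N = 4 ∧ Fintype.card ι = 6 ∧ SD P) ∨ (N = 4 ∧ Fintype.card ι = 10 ∧ p ≠ 2) := by
  obtain ⟨m, W, hm, hW, hev, hodd, k, _, _, _, j, J, θ, hB, hJ, hker, hSD⟩ := H151.D3.setup p K hN hK hC Φ
  have hfin : Module.finrank k (ι → k) = Fintype.card ι := Module.finrank_fintype_fun_eq_card k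
  have h1 := dims p hN hm W hW hev hodd hB hJ hker (fun h => absurd h hN5)
  rw [hfin] at h1
  rcases h1 with h1 | ⟨h1, h2, h3, h4⟩ | h1 | h1 | h1
  · exact Or.inl h1
  · exact Or.inr (Or.inl ⟨h1, h2, hSD h3 h4⟩)
  · exact Or.inr (Or.inr h1)
  · exact absurd h1.1 hN5
  · omega

/-- `PSU_4(q)` in its own characteristic -/
theorem core_psu_four (p : ℕ) [hp : Fact p.Prime] [CharP F p] (K : Type) [Field K] [Fintype K] [CharP K p] {q : ℕ}
    (hn : Fintype.card ι ≤ 12) (hK : Fintype.card K = q ^ 2) (hC : Core P) (Φ : Soc P ≃* PSU 4 K q) :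
    Fintype.card ι = 4 ∨ (Fintype.card ι = 6 ∧ SD P) ∨ (Fintype.card ι = 10 ∧ p ≠ 2) := by
  rcases core_psu' p K le_rfl (by norm_num) hn hK hC Φ with h | h | h
  · exact Or.inl h
  · exact Or.inr (Or.inl h.2)
  · exact Or.inr (Or.inr h.2)

/-- `PSU_N(q)`, `N ≥ 6`, in its own characteristic -/
theorem core_psu_six (p : ℕ) [hp : Fact p.Prime] [CharP F p] (K : Type) [Field K] [Fintype K] [CharP K p] {N q : ℕ}
    (hN : 6 ≤ N) (hn : Fintype.card ι ≤ 12) (hK : Fintype.card K = q ^ 2) (hC : Core P)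
    (Φ : Soc P ≃* PSU N K q) : Fintype.card ι = N := by
  rcases core_psu' p K (by omega) (by omega) hn hK hC Φ with h | h | h
  · exact h
  · omega
  · omega

end core

end Cfsg.Agent.H876.D3
end

private theorem dce_3442839110d6 : _root_.True := by
  try have : _root_.True := by simp only [_root_.Cfsg.Agent.H991.D3.row.eq_1]
  try have : _root_.True := by simp only [_root_.Cfsg.Agent.H991.D3.Mid.C.eq_1]
  try have : _root_.True := by simp only [_root_.Cfsg.Agent.H991.D3.Last.P.eq_1]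
  try have : _root_.True := by simp only [_root_.Cfsg.Agent.H991.D3.Last.sg.eq_1]
  try have : _root_.True := by simp only [_root_.Cfsg.Agent.H887.D3.Q2.eq_1]
  try have : _root_.True := by simp only [_root_.Cfsg.Agent.H991.D3.Mid.B.eq_1]
  try have : _root_.True := by simp only [_root_.Cfsg.Agent.H887.D3.hf.eq_1]
  try have : _root_.True := by simp only [_root_.Cfsg.Agent.H887.D3.h4.eq_1]
  try have : _root_.True := by simp only [_root_.Cfsg.Agent.H887.D3.G16.eq_1]
  try have : _root_.True := by simp only [_root_.Cfsg.Agent.H991.D3.Last.ob.eq_1]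
  try have : _root_.True := by simp only [_root_.Cfsg.Agent.H991.D3.Mid.A.eq_1]
  try have : _root_.True := by simp only [_root_.Cfsg.Agent.H991.D3.Last.C.eq_1]
  try have : _root_.True := by simp only [_root_.Cfsg.Agent.H887.D3.F15.eq_1]
  try have : _root_.True := by simp only [_root_.Cfsg.Agent.H887.D3.F16.eq_1]
  try have : _root_.True := by simp only [_root_.Cfsg.Agent.H887.D3.F10.eq_1]
  try have : _root_.True := by simp only [_root_.Cfsg.Agent.H991.D3.Last.B.eq_1]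
  try have : _root_.True := by simp only [_root_.Cfsg.Agent.H887.D3.G15.eq_1]
  try have : _root_.True := by simp only [_root_.Cfsg.Agent.H991.D3.Last.oa.eq_1]
  try have : _root_.True := by simp only [_root_.Cfsg.Agent.H887.D3.ex.eq_1]
  try have : _root_.True := by simp only [_root_.Cfsg.Agent.H887.D3.G10.eq_1]
  try have : _root_.True := by simp only [_root_.Cfsg.Agent.H991.D3.Mid.zt.eq_1]
  try have : _root_.True := by simp only [_root_.Cfsg.Agent.H887.D3.F24.eq_1]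
  try have : _root_.True := by simp only [_root_.Cfsg.Agent.H991.D3.Last.A.eq_1]
  exact _root_.True.intro
end

-- part: H991/D3/FiveMain
section
prune_inst 0x407044002202000000001062002004280001000020040084210d02000083000000090004001401482e320008000008111000a002400000040004000002000008800000200002000e0088000080000000000000000000000000000000000004000000000
set_option linter.all false
open scoped Cfsg.Agent.FastGrp

-- part: H991/D3/Five
section
/-!
# Pairs with an anisotropic vector: coordinates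

* `rk_tri` : block triangular families; `IsKer.congr`;
* `v5` : the vector with coordinates in `e0, f0, e1, f1, d`; `Bf` : the form; `G2`.
-/

set_option autoImplicit false

namespace Cfsg.Agent.H991.D3

open Cfsg Cfsg.Geo Matrix Cfsg.Agent.H876.D3
open LieClassical.HermBasic LieClassical.HermSiegel Cfsg.Agent.TitsThree.KSideU Cfsg.Agent.TitsThree.KSideUDesc
  Cfsg.Agent.TitsThree.WBridge Cfsg.Agent.TitsThree.SiegelGen Cfsg.Agent.TitsThree.Siegel
  Cfsg.Agent.TitsThree.WittFrame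

section

variable {k : Type*} [Field k] {X Y : Type*} [Fintype X] [Fintype Y]

/-- three blocks -/
theorem rk_tri {κ : X → Y → k} {α β γ : Type*} [Fintype α] [DecidableEq α] [Fintype β] [DecidableEq β] [Fintype γ]
    [DecidableEq γ] {P₁ : α → X → k} {Q₁ : α → Y → k} {P₂ : β → X → k} {Q₂ : β → Y → k} {P₃ : γ → X → k}
    {Q₃ : γ → Y → k} (h₁ : ∀ i j, bl κ (P₁ i) (Q₁ j) = if i = j then 1 else 0)
    (h₂ : ∀ i j, bl κ (P₂ i) (Q₂ j) = if i = j then 1 else 0)
    (h₃ : ∀ i j, bl κ (P₃ i) (Q₃ j) = if i = j then 1 else 0) (h₁₂ : ∀ i j, bl κ (P₁ i) (Q₂ j) = 0)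
    (h₁₃ : ∀ i j, bl κ (P₁ i) (Q₃ j) = 0) (h₂₃ : ∀ i j, bl κ (P₂ i) (Q₃ j) = 0) :
    Rk κ (Fintype.card α + (Fintype.card β + Fintype.card γ)) := by
  have h1 := Rk.of_isUnit (κ := κ) (Sum.elim P₁ (Sum.elim P₂ P₃)) (Sum.elim Q₁ (Sum.elim Q₂ Q₃)) (by
    have h2 : (Matrix.of fun i j => bl κ (Sum.elim P₁ (Sum.elim P₂ P₃) i) (Sum.elim Q₁ (Sum.elim Q₂ Q₃) j)) =
        Matrix.fromBlocks 1 0 (Matrix.of fun i j => bl κ (Sum.elim P₂ P₃ i) (Q₁ j))
          (Matrix.fromBlocks 1 0 (Matrix.of fun i j => bl κ (P₃ i) (Q₂ j)) 1) := by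
      ext i j
      rcases i with i | i | i <;> rcases j with j | j | j <;>
        simp [h₁, h₂, h₃, h₁₂, h₁₃, h₂₃, Matrix.one_apply]
    rw [h2, Matrix.det_fromBlocks_zero₁₂, Matrix.det_fromBlocks_zero₁₂, Matrix.det_one, Matrix.det_one, Matrix.det_one,
      one_mul, one_mul]
    exact isUnit_one)
  rwa [Fintype.card_sum, Fintype.card_sum] at h1

end

variable {K : Type} [Field K] [Fintype K] {N q m : ℕ} {hK : Fintype.card K = q ^ 2}

section Ker

variable {k : Type*} [Field k] {V : Type*} [AddCommGroup V] [Module k V] {r : ℕ}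
  {j : K →+* k} {θ : Fin m → ℕ} {vv : (Fin m → Fin N → K) → V} {ff : (Fin m → Fin N → K) → Module.Dual k V}

theorem IsKer_congr (h : IsKer q r j θ vv ff) {θ' : Fin m → ℕ} (hθ : ∀ (i : Fin m) (x : K), x ^ θ i = x ^ θ' i) :
    IsKer q r j θ' vv ff where
  ker u u' hu hu' := by
    rw [h.ker u u' hu hu']
    refine Finset.prod_congr rfl fun i _ => ?_
    rw [← map_pow, ← map_pow, hθ]
  span := h.span
  sep := h.sep

end Ker

/-! ### coordinates -/

/-- the form in coordinates -/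
def Bf (q : ℕ) (η : K) (v w : Fin 5 → K) : K :=
  v 0 * w 1 ^ q + v 1 * w 0 ^ q + v 2 * w 3 ^ q + v 3 * w 2 ^ q + η * (v 4 * w 4 ^ q)

/-- the minor -/
def G2 (q : ℕ) (η : K) (x y : (Fin 5 → K) × (Fin 5 → K)) : K :=
  Bf q η x.1 y.1 * Bf q η x.2 y.2 - Bf q η x.1 y.2 * Bf q η x.2 y.1

section

variable (W : WFrame (PU hK N) m) (hm : 2 ≤ m) (d : Fin N → K)

/-- the vector with the coordinates `v` -/
noncomputable def v5 (v : Fin 5 → K) : Fin N → K :=
  v 0 • (toFrame W).b (⟨0, by omega⟩, true) + v 1 • (toFrame W).b (⟨0, by omega⟩, false) +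
    (v 2 • (toFrame W).b (⟨1, by omega⟩, true) + v 3 • (toFrame W).b (⟨1, by omega⟩, false)) + v 4 • d

variable {W d}

theorem herm_v5 (hd : d ∈ W.V0) (v w : Fin 5 → K) :
    hermForm N K q (v5 W hm d v) (v5 W hm d w) = Bf q (hermForm N K q d d) v w := by
  unfold v5 Bf
  simp only [herm_add_left, herm_add_right hK, herm_smul_left, herm_smul_right, hb_all, hb_V0 _ hd, V0_hb _ hd]
  simp only [_root_.Fin.isValue, _root_.Bool.not_true, _root_.Bool.true_eq_false, _root_.and_false, ↓ _root_.reduceIte, _root_.MulZeroClass.mul_zero, _root_.Bool.not_false, _root_.and_self, _root_.mul_one, _root_.zero_add, _root_.Fin.mk.injEq, _root_.one_ne_zero, _root_.and_true, _root_.add_zero, _root_.Bool.false_eq_true, _root_.zero_ne_one]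
  ring

/-- an isotropic pair -/
structure Iso (q : ℕ) (η : K) (x : (Fin 5 → K) × (Fin 5 → K)) : Prop where
  vv : Bf q η x.1 x.1 = 0
  vw : Bf q η x.1 x.2 = 0
  wv : Bf q η x.2 x.1 = 0
  ww : Bf q η x.2 x.2 = 0
  ne : ∃ y, G2 q η x y ≠ 0

theorem Iso.pfr (hd : d ∈ W.V0) {x : (Fin 5 → K) × (Fin 5 → K)} (h : Iso q (hermForm N K q d d) x) :
    PFr (m := m) q 2 (pr2 (v5 W hm d x.1) (v5 W hm d x.2)) := by
  refine pfr_two hm (by rw [herm_v5 hm hd, h.vv]) (by rw [herm_v5 hm hd, h.vw]) (by rw [herm_v5 hm hd, h.wv])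
    (by rw [herm_v5 hm hd, h.ww]) fun a b hab => ?_
  obtain ⟨y, hy⟩ := h.ne
  have h1 : a * Bf q (hermForm N K q d d) x.1 y.1 + b * Bf q (hermForm N K q d d) x.2 y.1 = 0 := by
    rw [← herm_v5 hm hd, ← herm_v5 hm hd, ← herm_smul_left, ← herm_smul_left, ← herm_add_left, hab, herm_zero_left]
  have h2 : a * Bf q (hermForm N K q d d) x.1 y.2 + b * Bf q (hermForm N K q d d) x.2 y.2 = 0 := by
    rw [← herm_v5 hm hd, ← herm_v5 hm hd, ← herm_smul_left, ← herm_smul_left, ← herm_add_left, hab, herm_zero_left]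
  constructor
  · have h3 : a * G2 q (hermForm N K q d d) x y = 0 := by
      unfold G2
      linear_combination Bf q (hermForm N K q d d) x.2 y.2 * h1 - Bf q (hermForm N K q d d) x.2 y.1 * h2
    exact (mul_eq_zero.1 h3).resolve_right hy
  · have h3 : b * G2 q (hermForm N K q d d) x y = 0 := by
      unfold G2
      linear_combination Bf q (hermForm N K q d d) x.1 y.1 * h2 - Bf q (hermForm N K q d d) x.1 y.2 * h1
    exact (mul_eq_zero.1 h3).resolve_right hy

theorem Gr_v5 (hd : d ∈ W.V0) (x y : (Fin 5 → K) × (Fin 5 → K)) :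
    Gr q ⟨1, by omega⟩ (pr2 (m := m) (v5 W hm d x.1) (v5 W hm d x.2)) (pr2 (v5 W hm d y.1) (v5 W hm d y.2)) =
      G2 q (hermForm N K q d d) x y := by
  have e1 : ∀ x y : Fin N → K, pr2 (m := m) x y ⟨0, by omega⟩ = x := fun x y => rfl
  have e2 : ∀ x y : Fin N → K, pr2 (m := m) x y ⟨1, by omega⟩ = y := fun x y => rfl
  rw [Gr_one hm, e1, e1, e2, e2, herm_v5 hm hd, herm_v5 hm hd, herm_v5 hm hd, herm_v5 hm hd]
  rfl

end

section Ker

variable {k : Type*} [Field k] {V : Type*} [AddCommGroup V] [Module k V] [FiniteDimensional k V]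
  {j : K →+* k} {θ : Fin m → ℕ} {vv : (Fin m → Fin N → K) → V}
  {ff : (Fin m → Fin N → K) → Module.Dual k V}

theorem le_finrank_v5 {W : WFrame (PU hK N) m} (hm : 2 ≤ m) {d : Fin N → K} (hd : d ∈ W.V0)
    (h : IsKer q 2 j θ vv ff) (hθ : ∀ i : Fin m, (i : ℕ) ≠ 1 → θ i = 0) {X Y : Type*} [Fintype X] [Fintype Y]
    {f : X → (Fin 5 → K) × (Fin 5 → K)} {g : Y → (Fin 5 → K) × (Fin 5 → K)}
    (hf : ∀ x, Iso q (hermForm N K q d d) (f x)) (hg : ∀ y, Iso q (hermForm N K q d d) (g y)) {n : ℕ}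
    (hn : Rk (fun x y => j (G2 q (hermForm N K q d d) (f x) (g y)) ^ θ ⟨1, by omega⟩) n) :
    n ≤ Module.finrank k V := by
  refine h.le_finrank (f := fun x => pr2 (v5 W hm d (f x).1) (v5 W hm d (f x).2))
    (g := fun x => pr2 (v5 W hm d (g x).1) (v5 W hm d (g x).2))
    (fun x => (hf x).pfr hm hd) (fun x => (hg x).pfr hm hd) (fun x y => ?_) hn
  rw [prod_two hm hθ, Gr_v5 hm hd]

end Ker

end Cfsg.Agent.H991.D3
end

-- part: H991/D3/FiveRows
section
/-!
# The three families of lines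
-/

set_option autoImplicit false

namespace Cfsg.Agent.H991.D3

open Cfsg Cfsg.Geo Matrix Cfsg.Agent.H876.D3
open LieClassical.HermBasic

variable {K : Type} [Field K] [Fintype K] {q : ℕ}

/-- the parameters of the lines -/
abbrev Ix (q : ℕ) (K : Type) [Field K] := Fin 4 ⊕ (K ⊕ (Fin 4 × {ζ : K // ζ * ζ ^ q = 1}))

/-- the rows -/
def fR (q : ℕ) (μ : K) : Ix q K → (Fin 5 → K) × (Fin 5 → K)
  | .inl z => ![(![1, 0, 0, 0, 0], ![0, 0, 1, 0, 0]), (![0, 1, 0, 0, 0], ![0, 0, 0, 1, 0]),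
      (![1, 0, 0, 0, 0], ![0, 0, 0, 1, 0]), (![0, 1, 0, 0, 0], ![0, 0, 1, 0, 0])] z
  | .inr (.inl z) => (![1, 0, 0, z, 0], ![0, -z ^ q, 1, 0, 0])
  | .inr (.inr (a, ζ)) => ![(![1, μ, 0, 0, (ζ : K)], ![0, 0, 1, 0, 0]), (![1, μ, 0, 0, (ζ : K)], ![0, 0, 0, 1, 0]),
      (![1, 0, 0, 0, 0], ![0, 0, 1, μ, (ζ : K)]), (![0, 1, 0, 0, 0], ![0, 0, 1, μ, (ζ : K)])] a

/-- the columns -/
def fC (q : ℕ) (μ : K) : Ix q K → (Fin 5 → K) × (Fin 5 → K)
  | .inl z => ![(![0, 1, 0, 0, 0], ![0, 0, 0, 1, 0]), (![1, 0, 0, 0, 0], ![0, 0, 1, 0, 0]),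
      (![0, 1, 0, 0, 0], ![0, 0, 1, 0, 0]), (![1, 0, 0, 0, 0], ![0, 0, 0, 1, 0])] z
  | .inr (.inl z) => (![0, 1, z, 0, 0], ![-z ^ q, 0, 0, 1, 0])
  | .inr (.inr (a, ζ)) => ![(![1, μ, 0, 0, (ζ : K)], ![0, 0, 0, 1, 0]), (![1, μ, 0, 0, (ζ : K)], ![0, 0, 1, 0, 0]),
      (![0, 1, 0, 0, 0], ![0, 0, 1, μ, (ζ : K)]), (![1, 0, 0, 0, 0], ![0, 0, 1, μ, (ζ : K)])] a

variable {η μ : K} (hK : Fintype.card K = q ^ 2)
include hK

theorem G_cc (z z' : Fin 4) : G2 q η (fR q μ (.inl z)) (fC q μ (.inl z')) = if z = z' then 1 else 0 := by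
  have h0 : (0 : K) ^ q = 0 := zero_pow_q hK
  (revert z z'; simp only [fR, fC, G2, Bf, h0, _root_.Fin.forall_fin_succ, _root_.Nat.succ_eq_add_one, Nat.reduceAdd, Fin.isValue, _root_.Matrix.cons_val_zero, _root_.Matrix.cons_val_one, _root_.one_pow, _root_.mul_one, _root_.MulZeroClass.mul_zero, _root_.add_zero, _root_.Matrix.cons_val, _root_.zero_add, _root_.Matrix.cons_val_succ, _root_.Fin.succ_zero_eq_one, _root_.Fin.succ_one_eq_two, _root_.Matrix.cons_val_fin_one, Fin.reduceSucc, _root_.IsEmpty.forall_iff, _root_.and_true, _root_.sub_zero, ↓reduceIte, _root_.sub_self, _root_.zero_ne_one, Fin.reduceEq, _root_.and_self, _root_.Fin.succ_ne_zero, _root_.right_eq_ite_iff, _root_.imp_false, _root_.ne_eq, _root_.left_eq_ite_iff, _root_.one_ne_zero, _root_.Decidable.not_not, _root_.true_and, _root_.not_false_eq_true])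

theorem G_cl (z : Fin 4) (z' : K) : G2 q η (fR q μ (.inl z)) (fC q μ (.inr (.inl z'))) =
    if z = 0 then 1 else if z = 1 then z' ^ (q + 1) else 0 := by
  have h0 : (0 : K) ^ q = 0 := zero_pow_q hK
  (revert z; simp only [fR, fC, G2, Bf, h0, neg_pow_q hK, pow_q_pow_q hK, pow_succ, mul_comm, _root_.Fin.forall_fin_succ, _root_.Nat.succ_eq_add_one, Nat.reduceAdd, Fin.isValue, _root_.Matrix.cons_val_one, _root_.Matrix.cons_val_zero, _root_.one_pow, _root_.one_mul, _root_.MulZeroClass.zero_mul, _root_.add_zero, _root_.Matrix.cons_val, _root_.MulZeroClass.mul_zero, _root_.neg_mul, _root_.zero_add, _root_.neg_zero, _root_.mul_one, _root_.sub_zero, ↓reduceIte, _root_.Matrix.cons_val_succ, _root_.Fin.succ_ne_zero, _root_.mul_neg, _root_.sub_neg_eq_add, _root_.Fin.succ_zero_eq_one, _root_.sub_self, _root_.Fin.succ_one_eq_two, Fin.reduceEq, _root_.Matrix.cons_val_fin_one, _root_.right_eq_ite_iff, _root_.zero_eq_mul, _root_.pow_eq_zero_iff', _root_.ne_eq,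 Fin.reduceSucc, _root_.IsEmpty.forall_iff, _root_.and_self])

theorem G_ll (z z' : K) : G2 q η (fR q μ (.inr (.inl z))) (fC q μ (.inr (.inl z'))) =
    (1 + z * z' ^ q) * (1 + z ^ q * z') := by
  have h0 : (0 : K) ^ q = 0 := zero_pow_q hK
  simp only [fR, fC, G2, Bf, h0, neg_pow_q hK, pow_q_pow_q hK, _root_.Fin.isValue, _root_.Matrix.cons_val_zero, _root_.Matrix.cons_val_one, _root_.one_pow, _root_.mul_one, _root_.MulZeroClass.mul_zero, _root_.add_zero, _root_.Matrix.cons_val, _root_.mul_neg, _root_.neg_mul, _root_.neg_neg, _root_.zero_add, _root_.MulZeroClass.zero_mul, _root_.neg_zero, _root_.sub_zero, _root_.mul_eq_mul_left_iff]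
  left
  ring

theorem G_cd (z : Fin 4) (a : Fin 4) (ζ ζ' : {ζ : K // ζ * ζ ^ q = 1}) :
    G2 q η (fR q μ (.inl z)) (fC q μ (.inr (.inr (a, ζ)))) = G2 q η (fR q μ (.inl z)) (fC q μ (.inr (.inr (a, ζ')))) := by
  have h0 : (0 : K) ^ q = 0 := zero_pow_q hK
  (revert z a; simp only [fR, fC, G2, Bf, h0, _root_.Fin.forall_fin_succ, _root_.Nat.succ_eq_add_one, Nat.reduceAdd, Fin.isValue, _root_.Matrix.cons_val_zero, _root_.Matrix.cons_val_one, _root_.one_pow, _root_.mul_one, _root_.Matrix.cons_val, _root_.MulZeroClass.mul_zero, _root_.add_zero, _root_.zero_add, _root_.Matrix.cons_val_succ, _root_.Matrix.cons_val_fin_one, _root_.forall_const, _root_.one_mul, _root_.MulZeroClass.zero_mul, _root_.sub_zero, _root_.sub_self, _root_.and_self, _root_.implies_true])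

theorem G_ld (z : K) (a : Fin 4) (ζ ζ' : {ζ : K // ζ * ζ ^ q = 1}) :
    G2 q η (fR q μ (.inr (.inl z))) (fC q μ (.inr (.inr (a, ζ)))) =
      G2 q η (fR q μ (.inr (.inl z))) (fC q μ (.inr (.inr (a, ζ')))) := by
  have h0 : (0 : K) ^ q = 0 := zero_pow_q hK
  (revert a; simp only [fR, fC, G2, Bf, h0, _root_.Fin.forall_fin_succ, Fin.isValue, _root_.Matrix.cons_val_zero, _root_.Nat.succ_eq_add_one, Nat.reduceAdd, _root_.one_mul, _root_.Matrix.cons_val_one, _root_.MulZeroClass.zero_mul, _root_.add_zero, _root_.Matrix.cons_val, _root_.MulZeroClass.mul_zero, _root_.neg_mul, _root_.zero_add, _root_.neg_zero, _root_.one_pow, _root_.mul_one, _root_.mul_neg, _root_.sub_zero, _root_.Matrix.cons_val_succ, _root_.sub_neg_eq_add, _root_.Matrix.cons_val_fin_one, _root_.implies_true, _root_.and_self])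

theorem G_dd_ne {a b : Fin 4} (hab : a ≠ b) (ζ₀ ζ ζ' : {ζ : K // ζ * ζ ^ q = 1}) :
    G2 q η (fR q μ (.inr (.inr (a, ζ₀)))) (fC q μ (.inr (.inr (b, ζ)))) =
      G2 q η (fR q μ (.inr (.inr (a, ζ₀)))) (fC q μ (.inr (.inr (b, ζ')))) := by
  have h0 : (0 : K) ^ q = 0 := zero_pow_q hK
  fin_cases a <;> fin_cases b <;> first
    | exact absurd rfl hab
    | simp [fR, fC, G2, Bf, h0]

theorem G_dd (hμ : μ ^ q + μ + η = 0) (a : Fin 4) (ζ ζ' : {ζ : K // ζ * ζ ^ q = 1}) :
    G2 q η (fR q μ (.inr (.inr (a, ζ)))) (fC q μ (.inr (.inr (a, ζ')))) = η * ((ζ : K) * (ζ' : K) ^ q - 1) := by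
  have h0 : (0 : K) ^ q = 0 := zero_pow_q hK
  (revert a; simp only [fR, fC, G2, Bf, h0, _root_.Fin.forall_fin_succ, _root_.Nat.succ_eq_add_one, Nat.reduceAdd, Fin.isValue, _root_.Matrix.cons_val_zero, _root_.Matrix.cons_val_one, _root_.one_mul, _root_.one_pow, _root_.mul_one, _root_.Matrix.cons_val, _root_.MulZeroClass.mul_zero, _root_.add_zero, _root_.zero_add, _root_.MulZeroClass.zero_mul, _root_.sub_zero, _root_.Matrix.cons_val_succ, _root_.Matrix.cons_val_fin_one, _root_.forall_const, _root_.and_self]) <;> (repeat' with_reducible apply And.intro) <;> linear_combination hμ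

theorem norm_q (ζ : {ζ : K // ζ * ζ ^ q = 1}) : (ζ : K) * (ζ : K) ^ q = 1 := ζ.2

theorem iso_fR (hμ : μ ^ q + μ + η = 0) (x : Ix q K) : Iso q η (fR q μ x) := by
  have h0 : (0 : K) ^ q = 0 := zero_pow_q hK
  rcases x with z | z | ⟨a, ζ⟩
  · have h1 := G_cc (η := η) (μ := μ) hK z z
    rw [if_pos rfl] at h1
    refine ⟨?_, ?_, ?_, ?_, _, by rw [h1]; exact one_ne_zero⟩ <;> fin_cases z <;> simp [fR, Bf, h0]
  · have h1 := G_ll (η := η) (μ := μ) hK z 0
    rw [h0, mul_zero, mul_zero, add_zero, mul_one] at h1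
    refine ⟨?_, ?_, ?_, ?_, _, by rw [h1]; exact one_ne_zero⟩ <;>
      simp [fR, Bf, h0, neg_pow_q hK, pow_q_pow_q hK]
  · have hζ := norm_q hK ζ
    have h1 : ∃ y, G2 q η (fR q μ (.inr (.inr (a, ζ)))) y = 1 := by
      fin_cases a
      · exact ⟨fC q μ (.inl 0), by simp [fR, fC, G2, Bf, h0]⟩
      · exact ⟨fC q μ (.inl 2), by simp [fR, fC, G2, Bf, h0]⟩
      · exact ⟨fC q μ (.inl 0), by simp [fR, fC, G2, Bf, h0]⟩
      · exact ⟨fC q μ (.inl 3), by simp [fR, fC, G2, Bf, h0]⟩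
    obtain ⟨y, hy⟩ := h1
    refine ⟨?_, ?_, ?_, ?_, y, by rw [hy]; exact one_ne_zero⟩ <;> fin_cases a <;> simp only [fR, Bf, h0, _root_.Nat.succ_eq_add_one, _root_.Nat.reduceAdd, _root_.Fin.zero_eta, _root_.Fin.isValue, _root_.Matrix.cons_val_zero, _root_.Matrix.cons_val_one, _root_.one_mul, _root_.one_pow, _root_.mul_one, _root_.Matrix.cons_val, _root_.MulZeroClass.mul_zero, _root_.add_zero, _root_.Fin.mk_one, _root_.Fin.reduceFinMk, _root_.MulZeroClass.zero_mul, _root_.zero_add] <;>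
      linear_combination hμ + η * hζ

theorem iso_fC (hμ : μ ^ q + μ + η = 0) (x : Ix q K) : Iso q η (fC q μ x) := by
  have h0 : (0 : K) ^ q = 0 := zero_pow_q hK
  rcases x with z | z | ⟨a, ζ⟩
  · have h1 : G2 q η (fC q μ (.inl z)) (fR q μ (.inl z)) = 1 := by
      fin_cases z <;> simp [fR, fC, G2, Bf, h0]
    refine ⟨?_, ?_, ?_, ?_, _, by rw [h1]; exact one_ne_zero⟩ <;> fin_cases z <;> simp [fC, Bf, h0]
  · have h1 : G2 q η (fC q μ (.inr (.inl z))) (fR q μ (.inl 0)) = 1 := by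
      simp [fR, fC, G2, Bf, h0]
    refine ⟨?_, ?_, ?_, ?_, _, by rw [h1]; exact one_ne_zero⟩ <;>
      simp [fC, Bf, h0, neg_pow_q hK, pow_q_pow_q hK]
  · have hζ := norm_q hK ζ
    have h1 : ∃ y, G2 q η (fC q μ (.inr (.inr (a, ζ)))) y = 1 := by
      fin_cases a
      · exact ⟨fC q μ (.inl 2), by simp [fC, G2, Bf, h0]⟩
      · exact ⟨fC q μ (.inl 0), by simp [fC, G2, Bf, h0]⟩
      · exact ⟨fC q μ (.inl 3), by simp [fC, G2, Bf, h0]⟩
      · exact ⟨fC q μ (.inl 0), by simp [fC, G2, Bf, h0]⟩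
    obtain ⟨y, hy⟩ := h1
    refine ⟨?_, ?_, ?_, ?_, y, by rw [hy]; exact one_ne_zero⟩ <;> fin_cases a <;> simp only [fC, Bf, h0, _root_.Nat.succ_eq_add_one, _root_.Nat.reduceAdd, _root_.Fin.zero_eta, _root_.Fin.isValue, _root_.Matrix.cons_val_zero, _root_.Matrix.cons_val_one, _root_.one_mul, _root_.one_pow, _root_.mul_one, _root_.Matrix.cons_val, _root_.MulZeroClass.mul_zero, _root_.add_zero, _root_.Fin.mk_one, _root_.Fin.reduceFinMk, _root_.MulZeroClass.zero_mul, _root_.zero_add] <;>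
      linear_combination hμ + η * hζ

end Cfsg.Agent.H991.D3
end

-- part: H991/D3/FiveRank
section
/-!
# The rank of the kernel on the three families
-/

set_option autoImplicit false

namespace Cfsg.Agent.H991.D3

open Cfsg Cfsg.Geo Matrix Cfsg.Agent.H876.D3
open LieClassical.HermBasic

variable {K : Type} [Field K] [Fintype K] {q : ℕ} {k : Type*} [Field k]

section

variable {X Y : Type*} [Fintype X] [Fintype Y]

theorem bl_eq_zero {κ : X → Y → k} {P : X → k} {Q : Y → k} (h : ∀ x, P x ≠ 0 → ∑ y, κ x y * Q y = 0) : bl κ P Q = 0 := by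
  unfold bl
  refine Finset.sum_eq_zero fun x _ => ?_
  by_cases hx : P x = 0
  · simp only [hx, _root_.MulZeroClass.zero_mul, _root_.Finset.sum_const_zero]
  · have h1 := h x hx
    simp only [mul_assoc]
    rw [← Finset.mul_sum, h1, mul_zero]

end

theorem jb_pow_q (hK : Fintype.card K = q ^ 2) {j : K →+* k} (z : K) : j (z ^ (q + 1)) = jb hK j z ^ (q + 1) := by
  rw [jb_apply, ← map_pow, ← pow_mul, mul_comm, pow_mul]
  congr 1
  rw [pow_succ, mul_pow, pow_q_pow_q hK, mul_comm]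

/-- **The rank of the kernel.** -/
theorem rk_five (hK : Fintype.card K = q ^ 2) {j : K →+* k} {η μ : K} (hη : η ≠ 0) (hμ : μ ^ q + μ + η = 0) {θ a : ℕ} (hθ0 : θ ≠ 0)
    (hE : ∀ g : K, g ^ q = g → g ^ θ = g) {ε : K} (hε : ε ≠ 0) (ha : a + 1 ≤ q)
    (hx : ∀ x : K, x ^ (q + 1) = 1 → (x - 1) ^ θ = ε * (x ^ a - x ^ (a + 1))) [Fintype {ζ : K // ζ * ζ ^ q = 1}] :
    Rk (fun x y : Ix q K => j (G2 q η (fR q μ x) (fC q μ y)) ^ θ) (6 + 4 * (({a, a + 1} : Finset ℕ).erase 0).card) := by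
  classical
  have hq2 : 2 ≤ q := two_le hK
  set S : Finset ℕ := ({a, a + 1} : Finset ℕ).erase 0 with hS
  set κ : Ix q K → Ix q K → k := fun x y => j (G2 q η (fR q μ x) (fC q μ y)) ^ θ with hκ
  have hcardZ : Fintype.card {ζ : K // ζ * ζ ^ q = 1} = q + 1 := by
    rw [← Nat.card_eq_fintype_card, card_norm_eq_one hK]
  obtain ⟨A, hA⟩ := exists_dual_pow j j.injective
  obtain ⟨B, hB⟩ := exists_dual_pow (jb hK j) (jb hK j).injective
  obtain ⟨A', hA'⟩ := exists_dual_pow (fun ζ : {ζ : K // ζ * ζ ^ q = 1} => j ζ) (fun ζ ζ' h => Subtype.ext (j.injective h))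
  obtain ⟨B', hB'⟩ := exists_dual_pow (fun ζ : {ζ : K // ζ * ζ ^ q = 1} => jb hK j ζ)
    (fun ζ ζ' h => Subtype.ext ((jb hK j).injective h))
  rw [hcardZ] at hA' hB'
  rw [hK] at hA hB
  have hqq : q + 1 < q ^ 2 := by nlinarith only [hq2]
  have hSlt : ∀ c ∈ S, c < q + 1 ∧ c ≠ 0 := by
    intro c hc
    rw [hS, Finset.mem_erase, Finset.mem_insert, Finset.mem_singleton] at hc
    omega
  -- columns with `ζ`
  have hcol : ∀ (x : Ix q K) (b : Fin 4) (c : ℕ), c ∈ S →
      (∀ ζ ζ', κ x (.inr (.inr (b, ζ))) = κ x (.inr (.inr (b, ζ')))) →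
      ∑ y : Ix q K, κ x y * (Sum.elim (0 : Fin 4 → k) (Sum.elim (0 : K → k)
        (fun z : Fin 4 × {ζ : K // ζ * ζ ^ q = 1} => if z.1 = b then B' c z.2 else 0)) y) = 0 := by
    intro x b c hc h
    have h1 : ∑ ζ, B' c ζ = 0 := by
      have h2 := hB' c (hSlt c hc).1 0 (by omega)
      simp only [pow_zero, mul_one] at h2
      rw [h2, if_neg (hSlt c hc).2]
    simp only [Fintype.sum_sum_type, Sum.elim_inl, Sum.elim_inr, Pi.zero_apply, mul_zero, Finset.sum_const_zero,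
      zero_add, Fintype.sum_prod_type]
    rw [Finset.sum_eq_single b]
    · simp only [if_true]
      rw [Finset.sum_congr rfl fun ζ _ => by rw [h ζ ⟨1, by simp⟩], ← Finset.mul_sum, h1, mul_zero]
    · intro b' _ hb'
      exact Finset.sum_eq_zero fun ζ _ => by rw [if_neg hb', mul_zero]
    · intro h2; exact absurd (Finset.mem_univ _) h2
  -- the constant
  have hK0 : j η ^ θ * j ε ≠ 0 := mul_ne_zero (pow_ne_zero _ ((map_ne_zero j).2 hη)) ((map_ne_zero j).2 hε)
  set K0 : k := j η ^ θ * j ε with hK0'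
  let cf : ℕ → k := fun c => if c = a then K0 else -K0
  have hcf : ∀ c, cf c ≠ 0 := by
    intro c
    simp only [cf]
    split_ifs
    · exact hK0
    · exact neg_ne_zero.2 hK0
  let e : Bool → ℕ := fun b => if b then 1 else q
  have key := rk_tri (κ := κ) (α := Fin 4) (β := Bool) (γ := Fin 4 × S)
    (P₁ := fun z => Pi.single (.inl z) 1) (Q₁ := fun z => Pi.single (.inl z) 1)
    (P₂ := fun b => Sum.elim 0 (Sum.elim (A (e b)) 0)) (Q₂ := fun b => Sum.elim 0 (Sum.elim (B (e b)) 0))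
    (P₃ := fun c => Sum.elim 0 (Sum.elim 0 (fun z => if z.1 = c.1 then (cf c.2)⁻¹ * A' c.2 z.2 else 0)))
    (Q₃ := fun c => Sum.elim 0 (Sum.elim 0 (fun z => if z.1 = c.1 then B' c.2 z.2 else 0)))
    (fun z z' => by
      rw [bl_single, one_mul, mul_one, hκ]
      simp only [G_cc hK]
      split_ifs <;> simp [hθ0])
    (fun b b' => by
      have h1 : bl κ (Sum.elim 0 (Sum.elim (A (e b)) 0)) (Sum.elim 0 (Sum.elim (B (e b')) 0)) =
          bl (fun z z' : K => κ (.inr (.inl z)) (.inr (.inl z'))) (A (e b)) (B (e b')) := by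
        simp only [bl, Fintype.sum_sum_type, _root_.Sum.elim_inl, _root_.Pi.zero_apply, _root_.MulZeroClass.mul_zero, _root_.Finset.sum_const_zero, _root_.Sum.elim_inr, _root_.add_zero, _root_.zero_add, _root_.MulZeroClass.zero_mul]
      rw [h1]
      have h2 : ∀ z z' : K, κ (.inr (.inl z)) (.inr (.inl z')) = j z ^ 0 * jb hK j z' ^ 0 + j z ^ 1 * jb hK j z' ^ 1 +
          j z ^ q * jb hK j z' ^ q + j z ^ (q + 1) * jb hK j z' ^ (q + 1) := by
        intro z z'
        have hg : ((1 + z * z' ^ q) * (1 + z ^ q * z')) ^ q = (1 + z * z' ^ q) * (1 + z ^ q * z') := by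
          rw [mul_pow, add_pow_q hK, add_pow_q hK, mul_pow, mul_pow, one_pow, pow_q_pow_q hK, pow_q_pow_q hK]
          ring
        rw [hκ]
        simp only [G_ll hK]
        rw [← map_pow, hE _ hg]
        have e1 : jb hK j z' ^ q = j z' := by
          rw [jb_apply, ← map_pow, pow_q_pow_q hK]
        have e2 : jb hK j z' ^ (q + 1) = j z' * j z' ^ q := by
          rw [pow_succ, e1, jb_apply, map_pow]
        rw [e1, e2, pow_one, pow_one, pow_zero, pow_zero, jb_apply]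
        simp only [map_mul, map_add, map_one, map_pow]
        ring
      simp only [h2]
      have h3 : ∀ l, bl (fun z z' : K => j z ^ l * jb hK j z' ^ l) (A (e b)) (B (e b')) =
          (∑ z, A (e b) z * j z ^ l) * ∑ z', B (e b') z' * jb hK j z' ^ l := by
        intro l
        unfold bl
        rw [Finset.sum_mul_sum]
        exact Finset.sum_congr rfl fun x _ => Finset.sum_congr rfl fun y _ => by ring
      have h4 : bl (fun z z' : K => j z ^ 0 * jb hK j z' ^ 0 + j z ^ 1 * jb hK j z' ^ 1 +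
          j z ^ q * jb hK j z' ^ q + j z ^ (q + 1) * jb hK j z' ^ (q + 1)) (A (e b)) (B (e b')) =
          bl (fun z z' : K => j z ^ 0 * jb hK j z' ^ 0) (A (e b)) (B (e b')) +
          bl (fun z z' : K => j z ^ 1 * jb hK j z' ^ 1) (A (e b)) (B (e b')) +
          bl (fun z z' : K => j z ^ q * jb hK j z' ^ q) (A (e b)) (B (e b')) +
          bl (fun z z' : K => j z ^ (q + 1) * jb hK j z' ^ (q + 1)) (A (e b)) (B (e b')) := by
        unfold bl
        simp only [← Finset.sum_add_distrib]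
        exact Finset.sum_congr rfl fun x _ => Finset.sum_congr rfl fun y _ => by ring
      have heb : ∀ b, e b < q ^ 2 := by
        intro b
        cases b <;> simp only [e] <;> simp <;> omega
      rw [h4, h3, h3, h3, h3, hA _ (heb b) 0 (by omega), hA _ (heb b) 1 (by omega), hA _ (heb b) q (by omega),
        hA _ (heb b) (q + 1) hqq, hB _ (heb b') 0 (by omega), hB _ (heb b') 1 (by omega), hB _ (heb b') q (by omega),
        hB _ (heb b') (q + 1) hqq]
      have hq1 : q ≠ 1 := by omega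
      have hq0 : q ≠ 0 := by omega
      cases b <;> cases b' <;> simp [e, hq1, hq0, Ne.symm hq1])
    (fun c c' => by
      by_cases hcc : c.1 = c'.1
      · have h1 : bl κ (Sum.elim 0 (Sum.elim 0 (fun z => if z.1 = c.1 then (cf c.2)⁻¹ * A' c.2 z.2 else 0)))
            (Sum.elim 0 (Sum.elim 0 (fun z => if z.1 = c'.1 then B' c'.2 z.2 else 0))) =
            bl (fun ζ ζ' => κ (.inr (.inr (c.1, ζ))) (.inr (.inr (c.1, ζ')))) (fun ζ => (cf c.2)⁻¹ * A' c.2 ζ)
              (B' c'.2) := by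
          rw [← hcc]
          simp only [bl, Fintype.sum_sum_type, Sum.elim_inl, Sum.elim_inr, Pi.zero_apply, zero_mul, mul_zero,
            Finset.sum_const_zero, zero_add, Fintype.sum_prod_type]
          rw [Finset.sum_eq_single c.1]
          · refine Finset.sum_congr rfl fun ζ _ => ?_
            rw [Finset.sum_eq_single c.1]
            · simp only [↓ _root_.reduceIte]
            · intro b _ hb
              exact Finset.sum_eq_zero fun ζ' _ => by rw [if_neg hb, mul_zero]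
            · intro h2; exact absurd (Finset.mem_univ _) h2
          · intro b _ hb
            refine Finset.sum_eq_zero fun ζ _ => ?_
            simp [hb]
          · intro h2; exact absurd (Finset.mem_univ _) h2
        rw [h1]
        have h2 : ∀ ζ ζ' : {ζ : K // ζ * ζ ^ q = 1}, κ (.inr (.inr (c.1, ζ))) (.inr (.inr (c.1, ζ'))) =
            K0 * (j ζ ^ a * jb hK j ζ' ^ a) - K0 * (j ζ ^ (a + 1) * jb hK j ζ' ^ (a + 1)) := by
          intro ζ ζ'
          rw [hκ]
          have hxx : ((ζ : K) * (ζ' : K) ^ q) ^ (q + 1) = 1 := by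
            have e1 := ζ.2
            have e2 := ζ'.2
            rw [mul_pow, ← pow_mul, pow_succ, mul_comm ((ζ : K) ^ q), e1, one_mul, Nat.mul_succ, pow_add, pow_mul,
              pow_q_pow_q hK, e2]
          have hj : j ((ζ : K) * (ζ' : K) ^ q) = j ζ * jb hK j ζ' := by rw [map_mul, jb_apply]
          simp only [G_dd hK hμ]
          rw [map_mul, mul_pow, ← map_pow j (_ - 1), hx _ hxx, map_mul, map_sub, map_pow, map_pow, hj, hK0', mul_pow,
            mul_pow]
          ring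
        have h3 : bl (fun ζ ζ' => κ (.inr (.inr (c.1, ζ))) (.inr (.inr (c.1, ζ')))) (fun ζ => (cf c.2)⁻¹ * A' c.2 ζ)
              (B' c'.2) = (cf c.2)⁻¹ * (K0 * ((∑ ζ, A' c.2 ζ * j ζ ^ a) * ∑ ζ', B' c'.2 ζ' * jb hK j ζ' ^ a) -
                K0 * ((∑ ζ, A' c.2 ζ * j ζ ^ (a + 1)) * ∑ ζ', B' c'.2 ζ' * jb hK j ζ' ^ (a + 1))) := by
          simp only [h2]
          unfold bl
          rw [Finset.sum_mul_sum, Finset.sum_mul_sum]
          simp only [Finset.mul_sum, ← Finset.sum_sub_distrib]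
          exact Finset.sum_congr rfl fun x _ => Finset.sum_congr rfl fun y _ => by ring
        rw [h3, hA' _ (hSlt _ c.2.2).1 a (by omega), hA' _ (hSlt _ c.2.2).1 (a + 1) (by omega),
          hB' _ (hSlt _ c'.2.2).1 a (by omega), hB' _ (hSlt _ c'.2.2).1 (a + 1) (by omega)]
        have hm : ∀ c : S, (c : ℕ) = a ∨ (c : ℕ) = a + 1 := by
          rintro ⟨c, h5⟩
          rw [hS, Finset.mem_erase, Finset.mem_insert, Finset.mem_singleton] at h5
          exact h5.2
        have hne : (a : ℕ) ≠ a + 1 := by omega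
        by_cases h4 : c = c'
        · subst h4
          rw [if_pos rfl]
          rcases hm c.2 with h5 | h5
          · simp only [h5, cf, if_true, hne, if_false, mul_one, mul_zero, sub_zero]
            exact inv_mul_cancel₀ hK0
          · simp only [h5, cf, if_true, hne.symm, if_false, mul_one, mul_zero, zero_sub]
            exact inv_mul_cancel₀ (neg_ne_zero.2 hK0)
        · rw [if_neg h4]
          have h6 : (c.2 : ℕ) ≠ c'.2 := fun h => h4 (Prod.ext hcc (Subtype.ext h))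
          rcases hm c.2 with h5 | h5 <;> rcases hm c'.2 with h7 | h7
          · exact absurd (h5.trans h7.symm) h6
          · simp only [h5, h7, if_true, hne, hne.symm, if_false, mul_zero, zero_mul, sub_zero]
          · simp only [h5, h7, if_true, hne, hne.symm, if_false, mul_zero, zero_mul, sub_zero]
          · exact absurd (h5.trans h7.symm) h6
      · rw [if_neg (fun h => hcc (congrArg Prod.fst h))]
        refine bl_eq_zero fun x hx => hcol x c'.1 c'.2 c'.2.2 fun ζ ζ' => ?_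
        rcases x with z | z | ⟨b, ζ₀⟩
        · exact absurd rfl hx
        · exact absurd rfl hx
        · have hb : b = c.1 := by
            by_contra hb
            simp [hb] at hx
          subst hb
          rw [hκ]
          simp only
          rw [G_dd_ne hK hcc])
    (fun z b => by
      have h1 : bl κ (Pi.single (.inl z) 1) (Sum.elim 0 (Sum.elim (B (e b)) 0)) =
          ∑ z' : K, B (e b) z' * κ (.inl z) (.inr (.inl z')) := by
        unfold bl
        rw [Finset.sum_eq_single (.inl z)]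
        · simp only [Fintype.sum_sum_type, mul_comm, _root_.Pi.single_eq_same, _root_.one_mul, _root_.Sum.elim_inl, _root_.Pi.zero_apply, _root_.MulZeroClass.zero_mul, _root_.Finset.sum_const_zero, _root_.Sum.elim_inr, _root_.add_zero, _root_.zero_add]
        · intro x _ hx
          rw [Pi.single_eq_of_ne hx]
          simp only [_root_.MulZeroClass.zero_mul, _root_.Finset.sum_const_zero]
        · intro h2; exact absurd (Finset.mem_univ _) h2
      rw [h1]
      have heb : e b < q ^ 2 ∧ e b ≠ 0 ∧ e b ≠ q + 1 := by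
        cases b <;> simp only [e] <;> simp <;> omega
      by_cases hz0 : z = 0
      · have h2 : ∀ z' : K, κ (.inl z) (.inr (.inl z')) = jb hK j z' ^ 0 := by
          intro z'
          rw [hκ]
          simp only [G_cl hK, hz0, if_true]
          simp
        simp only [h2]
        rw [hB _ heb.1 0 (by omega), if_neg heb.2.1]
      · by_cases hz1 : z = 1
        · have h2 : ∀ z' : K, κ (.inl z) (.inr (.inl z')) = jb hK j z' ^ (q + 1) := by
            intro z'
            have hg : (z' ^ (q + 1)) ^ q = z' ^ (q + 1) := by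
              rw [pow_succ, mul_pow, pow_q_pow_q hK, mul_comm]
            rw [hκ]
            simp only [G_cl hK, hz0, hz1, if_true, if_false]
            simp only [one_ne_zero, if_false]
            rw [← map_pow, hE _ hg, jb_pow_q hK]
          simp only [h2]
          rw [hB _ heb.1 (q + 1) hqq, if_neg heb.2.2]
        · have h2 : ∀ z' : K, κ (.inl z) (.inr (.inl z')) = 0 := by
            intro z'
            rw [hκ]
            simp only [G_cl hK, hz0, hz1, if_false]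
            rw [map_zero, zero_pow hθ0]
          simp only [h2, mul_zero, Finset.sum_const_zero])
    (fun z c => bl_eq_zero fun x hx => hcol x c.1 c.2 c.2.2 fun ζ ζ' => by
      have hxz : x = .inl z := by
        by_contra h
        exact hx (Pi.single_eq_of_ne h _)
      subst hxz
      rw [hκ]
      simp only
      rw [G_cd hK])
    (fun b c => bl_eq_zero fun x hx => hcol x c.1 c.2 c.2.2 fun ζ ζ' => by
      rcases x with z | z | ⟨b, ζ₀⟩
      · exact absurd rfl hx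
      · rw [hκ]
        simp only
        rw [G_ld hK]
      · exact absurd rfl hx)
  rw [Fintype.card_fin, Fintype.card_bool, Fintype.card_prod, Fintype.card_fin, Fintype.card_coe] at key
  rwa [show 6 + 4 * S.card = 4 + (2 + 4 * S.card) by ring]

end Cfsg.Agent.H991.D3
end

-- part: H991/D3/FiveMain
section
/-!
# The second node for `SU_5(q)`: `dim V = 10` or `13 ≤ dim V`

* `ten_of_one`, `fourteen_of_digits`;
* **`node1_five`**.
-/

set_option autoImplicit false

namespace Cfsg.Agent.H991.D3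

open Cfsg Cfsg.Geo Matrix Cfsg.Agent.H876.D3
open LieClassical.HermBasic LieClassical.HermSiegel Cfsg.Agent.TitsThree.KSideU Cfsg.Agent.TitsThree.KSideUDesc
  Cfsg.Agent.TitsThree.WBridge Cfsg.Agent.TitsThree.SiegelGen Cfsg.Agent.TitsThree.Siegel
  Cfsg.Agent.TitsThree.WittFrame

variable {K : Type} [Field K] [Fintype K] {N q m : ℕ} {hK : Fintype.card K = q ^ 2}
  {k : Type*} [Field k] {V : Type*} [AddCommGroup V] [Module k V] [FiniteDimensional k V]
  {j : K →+* k} {θ : Fin m → ℕ}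

theorem exists_aniso {W : WFrame (PU hK N) m} (hV0 : W.V0 ≠ ⊥) :
    ∃ d ∈ W.V0, hermForm N K q d d ≠ 0 ∧ ∃ μ : K, μ ^ q + μ + hermForm N K q d d = 0 := by
  obtain ⟨d, hd, hd0⟩ := (Submodule.ne_bot_iff _).1 hV0
  have h1 : hermForm N K q d d ≠ 0 := by
    intro h
    apply hd0
    refine W.aniso d hd ?_
    change (0 : K) + 0 ^ q = -hermForm N K q d d
    rw [h, zero_pow_q hK, add_zero, neg_zero]
  obtain ⟨μ, hμ⟩ := exists_trace_eq hK (c := -hermForm N K q d d) (by
    rw [neg_pow_q hK, ← herm_swap hK])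
  exact ⟨d, hd, h1, μ, by linear_combination hμ⟩

theorem lower_five {W : WFrame (PU hK N) m} (hm : 2 ≤ m) (hV0 : W.V0 ≠ ⊥) {vv : (Fin m → Fin N → K) → V}
    {ff : (Fin m → Fin N → K) → Module.Dual k V} (h : IsKer q 2 j θ vv ff)
    (hθ : ∀ i : Fin m, (i : ℕ) ≠ 1 → θ i = 0) (hθ0 : θ ⟨1, by omega⟩ ≠ 0)
    (hE : ∀ g : K, g ^ q = g → g ^ θ ⟨1, by omega⟩ = g) {a : ℕ} {ε : K} (hε : ε ≠ 0) (ha : a + 1 ≤ q)
    (hx : ∀ x : K, x ^ (q + 1) = 1 → (x - 1) ^ θ ⟨1, by omega⟩ = ε * (x ^ a - x ^ (a + 1))) :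
    6 + 4 * (({a, a + 1} : Finset ℕ).erase 0).card ≤ Module.finrank k V := by
  classical
  obtain ⟨d, hd, hη, μ, hμ⟩ := exists_aniso hV0
  have h1 := rk_five hK (j := j) hη hμ hθ0 hE hε ha hx
  exact le_finrank_v5 hm hd h hθ (fun x => iso_fR hK hμ x) (fun x => iso_fC hK hμ x) h1

/-- Plücker coordinates in dimension `5` -/
def plT (x y : Fin 5 → K) : Fin 10 → K :=
  ![x 0 * y 1 - x 1 * y 0, x 0 * y 2 - x 2 * y 0, x 0 * y 3 - x 3 * y 0, x 0 * y 4 - x 4 * y 0,
    x 1 * y 2 - x 2 * y 1, x 1 * y 3 - x 3 * y 1, x 1 * y 4 - x 4 * y 1, x 2 * y 3 - x 3 * y 2,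
    x 2 * y 4 - x 4 * y 2, x 3 * y 4 - x 4 * y 3]

theorem sum_ten (f : Fin 10 → K) : ∑ i, f i = f 0 + f 1 + f 2 + f 3 + f 4 + f 5 + f 6 + f 7 + f 8 + f 9 := by
  simp only [Fin.sum_univ_succ, Fin.sum_univ_zero, Fin.succ_zero_eq_one]
  simp only [add_zero, ← add_assoc]
  rfl

theorem le_ten {vv : (Fin m → Fin 5 → K) → V} {ff : (Fin m → Fin 5 → K) → Module.Dual k V}
    (hK : Fintype.card K = q ^ 2) (hm : 2 ≤ m) (h : IsKer q 2 j θ vv ff)
    (hθ : ∀ i : Fin m, (i : ℕ) ≠ 1 → θ i = 0) (h1 : θ ⟨1, by omega⟩ = 1) : Module.finrank k V ≤ 10 := by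
  have hs : ∀ a b : K, (a - b) ^ q = a ^ q - b ^ q := fun a b => by
    rw [sub_eq_add_neg, add_pow_q hK, neg_pow_q hK, ← sub_eq_add_neg]
  have h2 := h.finrank_le (α := Fin 10) (fun u b => j (plT (u ⟨0, by omega⟩) (u ⟨1, by omega⟩) b))
    (fun u b => jb hK j (plT (u ⟨0, by omega⟩) (u ⟨1, by omega⟩) b)) (fun u u' _ _ => by
      rw [prod_two hm hθ, h1, pow_one, Gr_one hm]
      simp only [jb_apply]
      simp only [← map_mul]
      rw [← map_sum]
      congr 1
      unfold hermForm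
      rw [sum_ten]
      simp only [Fin.sum_univ_five, plT, Matrix.cons_val]
      simp only [hs, mul_pow]
      ring)
  rwa [Fintype.card_fin] at h2

theorem ten_of_one {W : WFrame (PU hK 5) m} (hm : 2 ≤ m) (hV0 : W.V0 ≠ ⊥) {vv : (Fin m → Fin 5 → K) → V}
    {ff : (Fin m → Fin 5 → K) → Module.Dual k V} (h : IsKer q 2 j θ vv ff)
    (hθ : ∀ i : Fin m, (i : ℕ) ≠ 1 → θ i = 0) (h1 : θ ⟨1, by omega⟩ = 1) : Module.finrank k V = 10 := by
  refine le_antisymm (le_ten hK hm h hθ h1) ?_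
  have hq2 := two_le hK
  have h2 := lower_five hm hV0 h hθ (by rw [h1]; norm_num) (fun g _ => by rw [h1, pow_one]) (a := 0) (ε := -1)
    (neg_ne_zero.2 one_ne_zero) (by omega) (fun x _ => by rw [h1]; ring)
  have h3 : (({0, 0 + 1} : Finset ℕ).erase 0).card = 1 := by decide
  rw [h3] at h2
  omega

theorem fourteen_of_digits {W : WFrame (PU hK N) m} (hm : 2 ≤ m) (hV0 : W.V0 ≠ ⊥) {vv : (Fin m → Fin N → K) → V}
    {ff : (Fin m → Fin N → K) → Module.Dual k V} (h : IsKer q 2 j θ vv ff)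
    (hθ : ∀ i : Fin m, (i : ℕ) ≠ 1 → θ i = 0) {u v : ℕ} (h1 : θ ⟨1, by omega⟩ = u + q * v)
    (huv : u + v = q) (hu : 1 ≤ u) (hv : 1 ≤ v) : 14 ≤ Module.finrank k V := by
  have hq2 := two_le hK
  have h2 := lower_five hm hV0 h hθ (by rw [h1]; omega) (fun g hg => by
      rw [h1, pow_add, pow_mul, hg, ← pow_add, huv, hg]) (a := u) (ε := (-1) ^ v)
    (pow_ne_zero _ (neg_ne_zero.2 one_ne_zero)) (by omega) (fun x hx => by
      have hx0 : x ≠ 0 := by
        rintro rfl
        rw [zero_pow (by omega)] at hx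
        exact zero_ne_one hx
      apply mul_left_cancel₀ (pow_ne_zero v hx0)
      have e1 : (x - 1) ^ q = x ^ q - 1 := by rw [sub_pow_q hK, one_pow]
      have e2 : x ^ v * (x ^ q - 1) ^ v = (-1) ^ v * (x - 1) ^ v := by
        rw [← mul_pow, ← mul_pow]
        congr 1
        rw [pow_succ] at hx
        linear_combination hx
      rw [h1, pow_add, pow_mul, e1]
      have e3 : x ^ v * ((x - 1) ^ u * (x ^ q - 1) ^ v) = (-1) ^ v * ((x - 1) ^ (u + v)) := by
        rw [pow_add]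
        linear_combination (x - 1) ^ u * e2
      rw [e3, huv, e1]
      have e4 : x ^ v * ((-1) ^ v * (x ^ u - x ^ (u + 1))) = (-1) ^ v * (x ^ (u + v) - x ^ (u + v + 1)) := by
        ring
      rw [e4, huv, hx])
  have h3 : (({u, u + 1} : Finset ℕ).erase 0).card = 2 := by
    rw [Finset.erase_eq_of_notMem, Finset.card_pair (by omega)]
    rw [Finset.mem_insert, Finset.mem_singleton]
    omega
  rw [h3] at h2
  omega

/-- the second node, `N = 5`, with the exponent -/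
theorem node1_five_aux {vv : (Fin m → Fin 5 → K) → V} {ff : (Fin m → Fin 5 → K) → Module.Dual k V}
    (p : ℕ) [hp : Fact p.Prime] [hcK : CharP K p] [CharP k p] (hm : 2 ≤ m) (W : WFrame (PU hK 5) m) (hV0 : W.V0 ≠ ⊥)
    (h : IsKer q 2 j θ vv ff) (hθ : ∀ i : Fin m, (i : ℕ) ≠ 1 → θ i = 0) (h1θ : θ ⟨1, by omega⟩ ≠ 0) :
    ((∃ b, p ^ b < q ^ 2 ∧ θ ⟨1, by omega⟩ ≡ p ^ b [MOD (q ^ 2 - 1)]) ∧ Module.finrank k V = 10) ∨
      13 ≤ Module.finrank k V := by
  have hq2 := two_le hK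
  have h1 := pair_bound p hm W h hθ h1θ
  set t := θ ⟨1, by omega⟩ with ht
  have h2 := two_le_card_Ib (p := p) (red_ne_zero q t)
  by_cases h3 : 3 ≤ (Ib p (red q t)).card
  · right
    refine le_trans ?_ h1
    obtain ⟨n, hn⟩ : ∃ n, (Ib p (red q t)).card = n + 3 := ⟨(Ib p (red q t)).card - 3, by omega⟩
    rw [hn]
    have e1 : (n + 3) * (n + 3) = n * n + 6 * n + 9 := by ring
    have e2 : 0 ≤ n * n := Nat.zero_le _
    omega
  have h5 : ∃ a, red q t = p ^ a := by
    rcases Ib_cases (p := p) (red_ne_zero q t) with h5 | ⟨h5, -⟩ | ⟨h5, -⟩ | h5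
    · exact h5
    all_goals omega
  obtain ⟨a, ha⟩ := h5
  obtain ⟨p', f, hp', hcp', hqf, hf⟩ := exists_prime_pow hK
  have hpp : p' = p := CharP.eq K hcp' hcK
  subst hpp
  have haf : a < f := by
    have h6 := red_lt (e := t) hq2
    rw [ha, hqf] at h6
    exact (Nat.pow_lt_pow_iff_right hp'.one_lt).1 h6
  -- the twist
  set t1 := t * p' ^ (2 * f - a) with ht1
  have hpt : p' ^ a * t1 = t * q ^ 2 := by
    rw [ht1, hqf, ← pow_mul, mul_comm f 2]
    have e1 : p' ^ a * (t * p' ^ (2 * f - a)) = t * (p' ^ a * p' ^ (2 * f - a)) := by ring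
    rw [e1, ← pow_add, Nat.add_sub_cancel' (by omega)]
  have ht10 : t1 ≠ 0 := mul_ne_zero h1θ (pow_ne_zero _ hp'.ne_zero)
  have hA : IsKer q 2 j (fun i : Fin m => if (i : ℕ) = 1 then p' ^ a * t1 else 0) vv ff := by
    refine IsKer_congr h fun i x => ?_
    by_cases hi : (i : ℕ) = 1
    · have : i = ⟨1, by omega⟩ := Fin.ext hi
      rw [if_pos hi, this, ← ht, hpt, pow_mul, ← hK, FiniteField.pow_card]
    · rw [if_neg hi, hθ i hi]
  have hB := hA.twist a (θ' := fun i => if (i : ℕ) = 1 then t1 else 0) (fun i => by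
    by_cases hi : (i : ℕ) = 1
    · rw [if_pos hi, if_pos hi]
    · rw [if_neg hi, if_neg hi, mul_zero])
  set t2 := red (q ^ 2) t1 with ht2
  have hq22 : 2 ≤ q ^ 2 := by nlinarith only [hq2]
  have hC : IsKer q 2 (j.comp (iterateFrobenius K p' a)) (fun i : Fin m => if (i : ℕ) = 1 then t2 else 0) vv ff := by
    refine IsKer_congr hB fun i x => ?_
    by_cases hi : (i : ℕ) = 1
    · rw [if_pos hi, if_pos hi, ht2, ← hK, pow_red ht10]
    · rw [if_neg hi, if_neg hi]
  have ht20 : t2 ≠ 0 := red_ne_zero _ _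
  have ht2le : t2 ≤ q ^ 2 - 1 := red_le hq22
  -- the digits
  have hdvd : (q - 1) ∣ q ^ 2 - 1 := by
    have := Nat.sub_dvd_pow_sub_pow q 1 2
    rwa [one_pow] at this
  have hmod : t2 ≡ 1 [MOD (q - 1)] := by
    have e1 : t2 ≡ t1 [MOD (q - 1)] := (red_modEq ht10).of_dvd hdvd
    have e2 : p' ^ a ≡ t [MOD (q - 1)] := ha ▸ red_modEq h1θ
    have e3 : t1 ≡ q ^ 2 [MOD (q - 1)] := by
      rw [ht1]
      have e4 := (e2.symm.mul_right (p' ^ (2 * f - a)))
      rw [← pow_add, Nat.add_sub_cancel' (by omega), show p' ^ (2 * f) = q ^ 2 by rw [mul_comm, pow_mul, ← hqf]] at e4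
      exact e4
    have e5 : q ^ 2 ≡ 1 [MOD (q - 1)] := ((Nat.modEq_iff_dvd' (by omega)).2 hdvd).symm
    exact e1.trans (e3.trans e5)
  obtain ⟨u, v, huv, hu, hv⟩ : ∃ u v, t2 = u + q * v ∧ u ≤ q - 1 ∧ v ≤ q - 1 := by
    refine ⟨t2 % q, t2 / q, (Nat.mod_add_div t2 q).symm, ?_, ?_⟩
    · have := Nat.mod_lt t2 (show 0 < q by omega)
      omega
    · have h6 : t2 / q < q := by
        rw [Nat.div_lt_iff_lt_mul (by omega), ← sq]
        omega
      omega
  have hsum : u + v = 1 ∨ u + v = q := by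
    have e1 : q ≡ 1 [MOD (q - 1)] := ((Nat.modEq_iff_dvd' (by omega)).2 (dvd_refl _)).symm
    have e2 : u + v ≡ 1 [MOD (q - 1)] := by
      have e3 : u + q * v ≡ u + 1 * v [MOD (q - 1)] := (e1.mul_right v).add_left u
      rw [one_mul] at e3
      exact e3.symm.trans (huv ▸ hmod)
    have h6 : 1 ≤ u + v := by
      by_contra h7
      have : u = 0 := by omega
      have : v = 0 := by omega
      subst u v
      exact ht20 huv
    have h7 := (Nat.modEq_iff_dvd' h6).1 e2.symm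
    obtain ⟨n, hn⟩ := h7
    have h8 : n < 2 := by
      by_contra h9
      have h10 : (q - 1) * 2 ≤ (q - 1) * n := Nat.mul_le_mul_left _ (by omega)
      omega
    interval_cases n
    · left; omega
    · right; (clear * - hq2 hn; omega)
  have hback : t ≡ p' ^ a * t2 [MOD (q ^ 2 - 1)] := by
    have e1 : t2 ≡ t1 [MOD (q ^ 2 - 1)] := red_modEq ht10
    have e2 : q ^ 2 ≡ 1 [MOD (q ^ 2 - 1)] := ((Nat.modEq_iff_dvd' (by omega)).2 (dvd_refl _)).symm
    have e3 := (e1.mul_left (p' ^ a))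
    rw [hpt] at e3
    have e4 := e2.mul_left t
    rw [mul_one] at e4
    exact (e3.trans e4).symm
  have hpaf : ∀ b, b < 2 * f → p' ^ b < q ^ 2 := by
    intro b hb
    rw [hqf, ← pow_mul, mul_comm f 2]
    exact Nat.pow_lt_pow_right hp'.one_lt hb
  rcases hsum with h6 | h6
  · left
    rcases Nat.eq_zero_or_pos v with hv0 | hv0
    · have hu1 : u = 1 := by omega
      subst hv0 hu1
      refine ⟨⟨a, hpaf a (by omega), ?_⟩, ten_of_one (W := W) hm hV0 hC (fun i hi => if_neg hi) (by simp [huv])⟩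
      rw [huv, mul_zero, add_zero, mul_one] at hback
      exact hback
    · have hv1 : v = 1 := by omega
      have hu0 : u = 0 := by omega
      subst hv1 hu0
      refine ⟨⟨a + f, hpaf _ (by omega), ?_⟩, ?_⟩
      · rw [huv, zero_add, mul_one] at hback
        rwa [pow_add, ← hqf]
      have hD := hC.twist f (θ' := fun i => if (i : ℕ) = 1 then 1 else 0) (fun i => by
        by_cases hi : (i : ℕ) = 1
        · rw [if_pos hi, if_pos hi, huv, hqf]; ring
        · rw [if_neg hi, if_neg hi, mul_zero])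
      exact ten_of_one (W := W) hm hV0 hD (fun i hi => if_neg hi) (by simp)
  · right
    have := fourteen_of_digits (W := W) hm hV0 hC (fun i hi => if_neg hi) (u := u) (v := v) (by simp [huv]) h6
      (by omega) (by omega)
    omega

/-- **The second node, `N = 5`.** -/
theorem node1_five {vv : (Fin m → Fin 5 → K) → V} {ff : (Fin m → Fin 5 → K) → Module.Dual k V}
    (p : ℕ) [hp : Fact p.Prime] [hcK : CharP K p] [CharP k p] (hm : 2 ≤ m) (W : WFrame (PU hK 5) m) (hV0 : W.V0 ≠ ⊥)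
    (h : IsKer q 2 j θ vv ff) (hθ : ∀ i : Fin m, (i : ℕ) ≠ 1 → θ i = 0) (h1θ : θ ⟨1, by omega⟩ ≠ 0) :
    Module.finrank k V = 10 ∨ 13 ≤ Module.finrank k V :=
  (node1_five_aux p hm W hV0 h hθ h1θ).imp_left And.right

/-- **The second node, `N = 5`, with the exponent.** -/
theorem node1_five_pow {vv : (Fin m → Fin 5 → K) → V} {ff : (Fin m → Fin 5 → K) → Module.Dual k V}
    (p : ℕ) [hp : Fact p.Prime] [hcK : CharP K p] [CharP k p] (hm : 2 ≤ m) (W : WFrame (PU hK 5) m) (hV0 : W.V0 ≠ ⊥)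
    (h : IsKer q 2 j θ vv ff) (hθ : ∀ i : Fin m, (i : ℕ) ≠ 1 → θ i = 0) (h1θ : θ ⟨1, by omega⟩ ≠ 0)
    (hle : θ ⟨1, by omega⟩ ≤ q ^ 2 - 1) :
    ((∃ a, θ ⟨1, by omega⟩ = p ^ a) ∧ Module.finrank k V = 10) ∨ 13 ≤ Module.finrank k V := by
  refine (node1_five_aux p hm W hV0 h hθ h1θ).imp_left fun h2 => ⟨?_, h2.2⟩
  obtain ⟨b, hb, hmod⟩ := h2.1
  refine ⟨b, ?_⟩
  have hq2 := two_le hK
  have h3 : 1 ≤ p ^ b := Nat.one_le_pow _ _ hp.out.pos
  have e1 : (θ ⟨1, by omega⟩ - 1) % (q ^ 2 - 1) = (p ^ b - 1) % (q ^ 2 - 1) := by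
    have h4 : θ ⟨1, by omega⟩ - 1 + 1 ≡ p ^ b - 1 + 1 [MOD (q ^ 2 - 1)] := by
      rw [Nat.sub_add_cancel (by omega), Nat.sub_add_cancel h3]
      exact hmod
    exact Nat.ModEq.add_right_cancel' 1 h4
  have h5 : 4 ≤ q ^ 2 := by nlinarith only [hq2]
  rw [Nat.mod_eq_of_lt (by omega), Nat.mod_eq_of_lt (by omega)] at e1
  omega

end Cfsg.Agent.H991.D3
end

private theorem dce_aec8617e1c54 : _root_.True := by
  try have : _root_.True := by simp only [_root_.Cfsg.Agent.H991.D3.fR.eq_2]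
  try have : _root_.True := by simp only [_root_.Cfsg.Agent.H991.D3.fR.eq_1]
  try have : _root_.True := by simp only [_root_.Cfsg.Agent.H991.D3.fC.eq_3]
  try have : _root_.True := by simp only [_root_.Cfsg.Agent.H991.D3.Bf.eq_1]
  try have : _root_.True := by simp only [_root_.Cfsg.Agent.H991.D3.plT.eq_1]
  try have : _root_.True := by simp only [_root_.Cfsg.Agent.H991.D3.G2.eq_1]
  try have : _root_.True := by simp only [_root_.Cfsg.Agent.H991.D3.fR.eq_3]
  try have : _root_.True := by simp only [_root_.Cfsg.Agent.H991.D3.fC.eq_1]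
  try have : _root_.True := by simp only [_root_.Cfsg.Agent.H991.D3.fC.eq_2]
  exact _root_.True.intro
end

-- part: H876/D3/Main5
section
set_option linter.all false
open scoped Cfsg.Agent.FastGrp

/-!
# `PSU_N(q)`, `N ≥ 4`, in its own characteristic: dimensions at most `12` (helper876)

* **`core_psu`** : `card ι ≤ 12` gives `card ι = N`, or `N = 4`, `card ι = 6` and `SD P`, or `N = 4`, `card ι = 10`
  and `p ≠ 2`, or `N = 5`, `card ι = 10`; `core_psu_five`.
-/

set_option autoImplicit false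
set_option linter.unusedSectionVars false

namespace Cfsg.Agent.H876.D3

open Cfsg Cfsg.Geo Matrix
open LieClassical.HermBasic LieClassical.HermSiegel Cfsg.Agent.TitsThree.KSideU Cfsg.Agent.TitsThree.KSideUDesc
  Cfsg.Agent.TitsThree.WBridge Cfsg.Agent.TitsThree.SiegelGen Cfsg.Agent.TitsThree.Siegel Cfsg.Agent.H61.SUCross
  Cfsg.Agent.TitsThree.WittFrame
open Cfsg.Agent.H915.LD

universe u

variable {ι : Type} [Fintype ι] [DecidableEq ι] {F : Type u} [Field F] [Finite F] {P : Subgroup (GL ι F)}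

/-- **`PSU_5(q)` in its own characteristic, dimension at most `12`.** -/
theorem core_psu_five (p : ℕ) [hp : Fact p.Prime] [CharP F p] (K : Type) [Field K] [Fintype K] [CharP K p] {q : ℕ}
    (hn : Fintype.card ι ≤ 12) (hK : Fintype.card K = q ^ 2) (hC : Core P) (Φ : Soc P ≃* PSU 5 K q) :
    Fintype.card ι = 5 ∨ Fintype.card ι = 10 := by
  obtain ⟨m, W, hm, hW, hev, hodd, k, _, _, _, j, J, θ, hB, hJ, hker, hSD⟩ :=
    H151.D3.setup p K (by norm_num) hK hC Φ
  have hfin : Module.finrank k (ι → k) = Fintype.card ι := Module.finrank_fintype_fun_eq_card k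
  have hV0 : W.V0 ≠ ⊥ := by
    intro h
    have := hev h
    omega
  have h1 := dims p (by norm_num) hm W hW hev hodd hB hJ hker (fun _ h1 hθ vv ff h =>
    H991.D3.node1_five p hm W hV0 h hθ h1)
  rw [hfin] at h1
  rcases h1 with h1 | h1 | h1 | h1 | h1
  · exact Or.inl h1
  · omega
  · omega
  · exact Or.inr h1.2
  · omega

/-- **`PSU_N(q)` in its own characteristic, dimension at most `12`.** -/
theorem core_psu (p : ℕ) [hp : Fact p.Prime] [CharP F p] (K : Type) [Field K] [Fintype K] [CharP K p] {N q : ℕ}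
    (hN : 4 ≤ N) (hn : Fintype.card ι ≤ 12) (hK : Fintype.card K = q ^ 2) (hC : Core P)
    (Φ : Soc P ≃* PSU N K q) :
    Fintype.card ι = N ∨ (N = 4 ∧ Fintype.card ι = 6 ∧ SD P) ∨ (N = 4 ∧ Fintype.card ι = 10 ∧ p ≠ 2) ∨
      (N = 5 ∧ Fintype.card ι = 10) := by
  by_cases hN5 : N = 5
  · subst hN5
    rcases core_psu_five p K hn hK hC Φ with h | h
    · exact Or.inl h
    · exact Or.inr (Or.inr (Or.inr ⟨rfl, h⟩))
  · rcases core_psu' p K hN hN5 hn hK hC Φ with h | h | h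
    · exact Or.inl h
    · exact Or.inr (Or.inl h)
    · exact Or.inr (Or.inr (Or.inl h))

end Cfsg.Agent.H876.D3
end

-- part: H887/D3/Fields5
section
prune_inst 0x6030040022000000000000400000400000000000400400c40100040800804009000001000000114820808000000008110000200240000004000400000000000880120020000000020080000080000000000000000000000000000000000000000000000
set_option linter.all false
open scoped Cfsg.Agent.FastGrp

-- part: H887/D3/Torus
section
/-!
# Elements of the torus of `SU_N(q)` (helper887)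

* `scM` : the isometry scaling a hyperbolic pair;
* `exists_t0` : `t ∈ T` with `dl 0 t = x`; `exists_t1` : `t ∈ T` with `dl i t = x` for all `i`, `V0 = ⟨d⟩`.
-/

set_option autoImplicit false
set_option linter.unusedSectionVars false

namespace Cfsg.Agent.H887.D3

open Cfsg Cfsg.Geo Matrix
open LieClassical.HermBasic LieClassical.HermSiegel Cfsg.Agent.TitsThree.KSideU Cfsg.Agent.TitsThree.KSideUDesc
  Cfsg.Agent.TitsThree.WBridge Cfsg.Agent.TitsThree.SiegelGen Cfsg.Agent.TitsThree.Siegel Cfsg.Agent.H61.SUCross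
  Cfsg.Agent.TitsThree.WittFrame Cfsg.Agent.Nodes.WittAll Cfsg.Agent.Nodes Cfsg.Agent.Nodes.WittRGD
  Cfsg.Agent.Nodes.WittRoot
open Cfsg.Agent.ClassicalGeometry.UnitTransv (rankOne rankOne_mulVec det_rankOne)
open Cfsg.Agent.H876.D3 (dl dl_one cf two_le_q hb_iso hb_pair Dl_mul_diag Dl_one Dl)

section pair

variable {K : Type} [Field K] [Fintype K] {N q : ℕ}

/-- a hyperbolic pair -/
structure Hyp (q : ℕ) (e f : Fin N → K) : Prop where
  ee : hermForm N K q e e = 0
  ff : hermForm N K q f f = 0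
  ef : hermForm N K q e f = 1
  fe : hermForm N K q f e = 1

/-- scaling a hyperbolic pair -/
noncomputable def scM (q : ℕ) (e f : Fin N → K) (c : K) : Matrix (Fin N) (Fin N) K :=
  rankOne q ((c - 1) • e) f * rankOne q (((c ^ q)⁻¹ - 1) • f) e

variable {e f : Fin N → K}

theorem scM_apply (h : Hyp q e f) (c : K) (x : Fin N → K) : scM q e f c *ᵥ x =
    x + (hermForm N K q x e * ((c ^ q)⁻¹ - 1)) • f + (hermForm N K q x f * (c - 1)) • e := by
  rw [scM, ← Matrix.mulVec_mulVec, rankOne_mulVec, rankOne_mulVec, herm_add_left, herm_smul_left, herm_smul_left,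
    h.ff, mul_zero, mul_zero, add_zero, smul_smul, smul_smul]

theorem scM_iso (hK : Fintype.card K = q ^ 2) (h : Hyp q e f) {c : K} (hc : c ≠ 0) (x y : Fin N → K) :
    hermForm N K q (scM q e f c *ᵥ x) (scM q e f c *ᵥ y) = hermForm N K q x y := by
  have hcq : c ^ q ≠ 0 := pow_ne_zero _ hc
  rw [scM_apply h, scM_apply h]
  simp only [herm_add_left, herm_add_right hK, herm_smul_left, herm_smul_right, h.ee, h.ff, h.ef, h.fe]
  have e1 : hermForm N K q f y = hermForm N K q y f ^ q := herm_swap hK y f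
  have e2 : hermForm N K q e y = hermForm N K q y e ^ q := herm_swap hK y e
  rw [e1, e2, mul_pow, mul_pow, sub_pow_q hK, sub_pow_q hK, one_pow, inv_pow, pow_q_pow_q hK]
  field_simp
  ring

theorem scM_det (h : Hyp q e f) (c : K) : (scM q e f c).det = c * (c ^ q)⁻¹ := by
  rw [scM, Matrix.det_mul, det_rankOne, det_rankOne, herm_smul_left, herm_smul_left, h.ef, h.fe]
  ring

theorem scM_e (h : Hyp q e f) (c : K) : scM q e f c *ᵥ e = c • e := by
  rw [scM_apply h, h.ee, h.ef, zero_mul, zero_smul, add_zero]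
  module

theorem scM_f (h : Hyp q e f) (c : K) : scM q e f c *ᵥ f = (c ^ q)⁻¹ • f := by
  rw [scM_apply h, h.ff, h.fe, zero_mul, zero_smul, add_zero]
  module

theorem scM_perp (h : Hyp q e f) (c : K) {x : Fin N → K} (h1 : hermForm N K q x e = 0)
    (h2 : hermForm N K q x f = 0) : scM q e f c *ᵥ x = x := by
  rw [scM_apply h, h1, h2, zero_mul, zero_smul, zero_mul, zero_smul, add_zero, add_zero]

/-- scaling a vector of length one -/
theorem dM_iso (hK : Fintype.card K = q ^ 2) {d : Fin N → K} (hd : hermForm N K q d d = 1) {c : K}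
    (hc : c * c ^ q = 1) (x y : Fin N → K) :
    hermForm N K q (rankOne q ((c - 1) • d) d *ᵥ x) (rankOne q ((c - 1) • d) d *ᵥ y) = hermForm N K q x y := by
  rw [rankOne_mulVec, rankOne_mulVec]
  simp only [herm_add_left, herm_add_right hK, herm_smul_left, herm_smul_right, hd]
  have e1 : hermForm N K q d y = hermForm N K q y d ^ q := herm_swap hK y d
  rw [e1, sub_pow_q hK, one_pow]
  linear_combination (hermForm N K q x d * hermForm N K q y d ^ q) * hc

end pair

section frame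

variable {K : Type} [Field K] [Fintype K] {N q m : ℕ} {hK : Fintype.card K = q ^ 2} (hN : 3 ≤ N)
  (W : WFrame (PU hK N) m)

theorem hyp (a : Fin m) : Hyp q (W.e a) (W.f a) where
  ee := W.ee a a
  ff := W.ff a a
  ef := (W.ef a a).trans (if_pos rfl)
  fe := (W.fe a a).trans (if_pos rfl)

/-- the action on the frame -/
theorem scM_b (a : Fin m) (c : K) (x : Fin m × Bool) : scM q (W.e a) (W.f a) c *ᵥ (toFrame W).b x =
    (if x.1 = a then (if x.2 then c else (c ^ q)⁻¹) else 1) • (toFrame W).b x := by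
  obtain ⟨b, s⟩ := x
  by_cases h : b = a
  · subst h
    rw [if_pos rfl]
    cases s
    · rw [if_neg (by simp)]
      exact scM_f (hyp W b) c
    · rw [if_pos rfl]
      exact scM_e (hyp W b) c
  · rw [if_neg h, one_smul]
    refine scM_perp (hyp W a) c ?_ ?_
    · cases s
      · exact (hb_pair W false b a).trans (if_neg h)
      · exact hb_iso W true b a
    · cases s
      · exact hb_iso W false b a
      · exact (hb_pair W true b a).trans (if_neg h)

theorem mem_T_of {t : SU N K q} {l : Fin m × Bool → K} (hl : ∀ x, l x ≠ 0)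
    (h : ∀ x, act t ((toFrame W).b x) = l x • (toFrame W).b x) : t ∈ WittModel.T (modelSU hK hN W) := by
  rw [T_eq]
  exact ⟨⟨t, rfl⟩, fun x => ⟨l x, hl x, h x⟩⟩

theorem dl_of {t : SU N K q} {l : Fin m × Bool → K}
    (h : ∀ x, act t ((toFrame W).b x) = l x • (toFrame W).b x) (i : Fin m) :
    dl W i t = ∏ a : {a : Fin m // a ≤ i}, l (a.1, true) := by
  have h1 := Dl_mul_diag (Fr := toFrame W) (s := true) (i := i) (t := _root_.Cfsg.Agent.TitsThree.KSideU.toLin K q N t) (l := fun a => l (a, true))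
    (fun a _ => h (a, true)) 1
  rw [one_mul, Dl_one, mul_one] at h1
  exact h1

/-- **The torus of the first node.** -/
theorem exists_t0 (hm : 2 ≤ m) {x : K} (hx : x ≠ 0) : ∃ t ∈ WittModel.T (modelSU hK hN W),
    dl W ⟨0, by omega⟩ t = x := by
  have hx' : x⁻¹ ≠ 0 := inv_ne_zero hx
  have hxq : x ^ q ≠ 0 := pow_ne_zero _ hx
  set a0 : Fin m := ⟨0, by omega⟩ with ha0
  set a1 : Fin m := ⟨1, by omega⟩ with ha1
  have h01 : a0 ≠ a1 := by rw [ha0, ha1]; simp [Fin.ext_iff]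
  set M := scM q (W.e a0) (W.f a0) x * scM q (W.e a1) (W.f a1) x⁻¹ with hM
  have hMx : ∀ u, M *ᵥ u = scM q (W.e a0) (W.f a0) x *ᵥ (scM q (W.e a1) (W.f a1) x⁻¹ *ᵥ u) := fun u => by
    rw [hM, Matrix.mulVec_mulVec]
  have hdet : M.det = 1 := by
    rw [hM, Matrix.det_mul, scM_det (hyp W a0), scM_det (hyp W a1), inv_pow, inv_inv]
    field_simp
  let t : SU N K q := mkSU M hdet fun u v => by
    rw [hMx, hMx, scM_iso hK (hyp W a0) hx, scM_iso hK (hyp W a1) hx']
  have ht : ∀ y, act t ((toFrame W).b y) = ((if y.1 = a0 then (if y.2 then x else (x ^ q)⁻¹) else 1) *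
      (if y.1 = a1 then (if y.2 then x⁻¹ else (x⁻¹ ^ q)⁻¹) else 1)) • (toFrame W).b y := by
    intro y
    change M *ᵥ (toFrame W).b y = _
    rw [hMx, scM_b, Matrix.mulVec_smul, scM_b, smul_smul, mul_comm]
  refine ⟨t, mem_T_of hN W (fun y => ?_) ht, ?_⟩
  · refine mul_ne_zero ?_ ?_
    · split_ifs
      · exact hx
      · exact inv_ne_zero hxq
      · exact one_ne_zero
    · split_ifs
      · exact hx'
      · exact inv_ne_zero (pow_ne_zero _ hx')
      · exact one_ne_zero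
  · rw [dl_of W ht, Finset.prod_eq_single ⟨a0, le_rfl⟩]
    · rw [if_pos rfl, if_pos rfl, if_neg h01, mul_one]
    · rintro ⟨a, ha⟩ _ h1
      exfalso
      apply h1
      apply Subtype.ext
      apply Fin.ext
      have : (a : ℕ) ≤ (a0 : ℕ) := ha
      have : (a0 : ℕ) = 0 := rfl
      simp only
      omega
    · intro h1
      exact absurd (Finset.mem_univ _) h1

/-- **The torus with an anisotropic vector.** -/
theorem exists_t1 (hm : 0 < m) {d : Fin N → K} (hd : hermForm N K q d d = 1)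
    (hV : W.V0 = Submodule.span K {d}) {x : K} (hx : x ≠ 0) : ∃ t ∈ WittModel.T (modelSU hK hN W),
    ∀ i, dl W i t = x := by
  have hq := two_le_q hK
  have hxq : x ^ q ≠ 0 := pow_ne_zero _ hx
  set a0 : Fin m := ⟨0, hm⟩ with ha0
  have hdV : d ∈ W.V0 := by rw [hV]; exact Submodule.mem_span_singleton_self d
  have hc : x ^ (q - 1) * (x ^ (q - 1)) ^ q = 1 := by
    rw [← pow_succ', ← pow_mul]
    have e1 : (q - 1) * (q + 1) = q ^ 2 - 1 := by
      have := Nat.sq_sub_sq q 1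
      rw [one_pow] at this
      rw [this, mul_comm]
    rw [e1, ← hK]
    exact FiniteField.pow_card_sub_one_eq_one x hx
  set M := scM q (W.e a0) (W.f a0) x * rankOne q ((x ^ (q - 1) - 1) • d) d with hM
  have hMx : ∀ u, M *ᵥ u = scM q (W.e a0) (W.f a0) x *ᵥ (rankOne q ((x ^ (q - 1) - 1) • d) d *ᵥ u) := fun u => by
    rw [hM, Matrix.mulVec_mulVec]
  have hdet : M.det = 1 := by
    rw [hM, Matrix.det_mul, scM_det (hyp W a0), det_rankOne, herm_smul_left, hd]
    have e1 : x ^ q = x ^ (q - 1) * x := by rw [← pow_succ, Nat.sub_add_cancel (by omega)]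
    rw [e1]
    have e2 : x ^ (q - 1) ≠ 0 := pow_ne_zero _ hx
    field_simp
    ring
  let t : SU N K q := mkSU M hdet fun u v => by
    rw [hMx, hMx, scM_iso hK (hyp W a0) hx, dM_iso hK hd hc]
  have ht : ∀ y, act t ((toFrame W).b y) = (if y.1 = a0 then (if y.2 then x else (x ^ q)⁻¹) else 1) •
      (toFrame W).b y := by
    intro y
    change M *ᵥ (toFrame W).b y = _
    have h0 : hermForm N K q ((toFrame W).b y) d = 0 := by
      obtain ⟨b, s⟩ := y
      have e1 : hermForm N K q d ((toFrame W).b (b, s)) = 0 := by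
        cases s
        · exact W.V0f d hdV b
        · exact W.V0e d hdV b
      rw [herm_swap hK d, e1, zero_pow (by omega)]
    rw [hMx, rankOne_mulVec, h0, zero_smul, add_zero, scM_b]
  refine ⟨t, mem_T_of hN W (fun y => ?_) ht, fun i => ?_⟩
  · split_ifs
    · exact hx
    · exact inv_ne_zero hxq
    · exact one_ne_zero
  · rw [dl_of W ht, Finset.prod_eq_single ⟨a0, Fin.mk_le_of_le_val (Nat.zero_le _)⟩]
    · rw [if_pos rfl, if_pos rfl]
    · rintro ⟨a, ha⟩ _ h1
      rw [if_neg]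
      intro h2
      exact h1 (Subtype.ext h2)
    · intro h1
      exact absurd (Finset.mem_univ _) h1

end frame

end Cfsg.Agent.H887.D3
end

-- part: H887/D3/Fields
section
/-!
# Fields of the small modules of `SU_N(q)` (helper887)

* `setup2` : `H151.D3.setup` with the values of the highest weight in `F`;
* `card_sq` : `|F| = q ^ 2` and `¬ SD P` from the highest weight;
* **`psu4_ten`** : `N = 4`, `card ι = 10`;
* **`psu_nat`** : `card ι = N ≤ 12`, `N ≠ 5`.
-/

set_option autoImplicit false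
set_option linter.unusedSectionVars false
set_option linter.style.haveILetI false

namespace Cfsg.Agent.H887.D3

open CoxeterSystem Cfsg.Agent.ChevalleyStructure.CoxeterGeom Cfsg.Agent.Tits.Roots Cfsg.Agent.Nodes.TypeC
open Cfsg.Agent.Nodes.Comb Cfsg.Agent.Nodes.Reps Cfsg.Agent.Nodes.WittRoot Cfsg.Agent.Nodes.BNOf
open Cfsg.Agent.Nodes.WittRGD Cfsg.Agent.Nodes.RGDLib Cfsg.Agent.Nodes.WittAll Cfsg.Agent.Nodes
open Cfsg.Agent.TitsThree Cfsg.Agent.TitsThree.Siegel Cfsg.Agent.TitsThree.WittFrame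
  Cfsg.Agent.TitsThree.WittWeyl Cfsg.Agent.TitsThree.FrameCN Cfsg.Agent.H905.Md
  Cfsg.Agent.Nodes.StabComb Cfsg.Agent.Tits.Core
open Cfsg Cfsg.Geo Cfsg.Agent.H876.D3 Cfsg.Agent.H911 Cfsg.Agent.H915.LD
open LieClassical.HermBasic Cfsg.Agent.TitsThree.KSideU Cfsg.Agent.TitsThree.KSideUDesc Cfsg.Agent.Nodes.WittU
  Cfsg.Agent.TitsThree.WBridge Cfsg.Agent.TitsThree.SiegelGen Cfsg.Agent.H61.SUCross Cfsg.Agent.H61.SUNode
open Cfsg.Agent.KFacts.MulOdd.Inst (Lv)
open Cfsg.Agent.Omega.CR Cfsg.Agent.Omega.FOne.Lift.Sd Cfsg.Agent.Nodes.Bruhat Cfsg.Agent.Nodes.OppDec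
open Cfsg.Agent.H151.D3 (exists_emb exists_kind')
open scoped MatrixGroups

universe u

section

variable {F : Type u} [Field F] [Finite F] {ι : Type} [Fintype ι] [DecidableEq ι] {P : Subgroup (GL ι F)}

/-- one node -/
theorem cf_single {K : Type} [Field K] [Fintype K] {N q m : ℕ} {hK : Fintype.card K = q ^ 2}
    {W : WFrame (PU hK N) m} {k : Type*} [Field k] (j : K →+* k) {θ : Fin m → ℕ} {i : Fin m}
    (hθ : ∀ i', i' ≠ i → θ i' = 0) (g : SU N K q) : cf W j θ g = j (dl W i g) ^ θ i := by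
  unfold cf
  rw [Finset.prod_eq_single i]
  · intro a _ ha
    rw [hθ a ha, pow_zero]
  · intro h
    exact absurd (Finset.mem_univ _) h

/-- **The kernel of `P` and its highest weight.** -/
theorem setup2 (p : ℕ) [Fact p.Prime] [CharP F p] (K : Type) [Field K] [Fintype K] [CharP K p]
    {N q : ℕ} (hN : 4 ≤ N) (hK : Fintype.card K = q ^ 2) (hC : Core P) (Φ : Soc P ≃* PSU N K q) :
    ∃ (m : ℕ) (W : WFrame (PU hK N) m), 2 ≤ m ∧ Kind W ∧ (W.V0 = ⊥ → N = 2 * m) ∧
      (W.V0 ≠ ⊥ → N = 2 * m + 1) ∧ ∃ (k : Type u) (_ : Field k) (_ : IsAlgClosed k) (_ : CharP k p)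
      (j : K →+* k) (J : Set (Fin m)) (θ : Fin m → ℕ), Bd W J θ ∧ (∃ i, i ∉ J) ∧
      (∀ r, r ≤ m → 0 < r → (∀ i : Fin m, r ≤ (i : ℕ) → θ i = 0) →
        ∃ (vv : (Fin m → Fin N → K) → (ι → k)) (ff : (Fin m → Fin N → K) → Module.Dual k (ι → k)),
          IsKer q r j θ vv ff) ∧
      (∀ i : Fin m, (∀ i', i' ≠ i → θ i' = 0) → ((i : ℕ) = 0 ∨ W.V0 ≠ ⊥) →
        ∀ x : K, x ≠ 0 → (j x ^ θ i) ^ Nat.card F = j x ^ θ i) := by
  classical
  have hN3 : 3 ≤ N := by omega
  haveI := hC.nonempty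
  obtain ⟨m, W, hm, hW, hev, hodd⟩ := exists_kind' hK hN
  obtain ⟨φ, hφ, -, -⟩ := psu_cover p hC.perfect hN3 hK (by omega) Φ
  haveI hchar : CharP (AlgebraicClosure F) p := charP_of_injective_algebraMap (algebraMap F _).injective p
  obtain ⟨j⟩ := exists_emb p K (AlgebraicClosure F)
  have hm0 : 0 < m := by omega
  obtain ⟨p0, hp0, -⟩ := exists_adm hK W
  have hA : AmbT (toFrame W) p (modelSU hK hN3 W).I := AmbT.of_amb (amb_U hK W) p
  haveI : Finite (CoxeterMatrix.B m).Group := finite_W (CoxeterMatrix.B m).toCoxeterSystem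
  have R := rgdC_model (modelSU hK hN3 W) hA hp0 (CoxeterMatrix.B m).toCoxeterSystem
  have hG : GG (CoxeterMatrix.B m).toCoxeterSystem (isCartan m) (WittModel.T (modelSU hK hN3 W))
      (WittModel.X (modelSU hK hN3 W)) = ⊤ := gg_top (WittModel.G1_eq_top _ hm0 _)
  have hT := modelT_comm (M := modelSU hK hN3 W) hA (kd_su hW)
  have hirr := ac_irr R hG hT hφ hC.absIrred
  have hirr' : ∀ L : Submodule (AlgebraicClosure F) (ι → AlgebraicClosure F), Ivt (lin (acRep φ)) ⊤ L →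
      L = ⊥ ∨ L = ⊤ := by
    intro L hL
    exact hirr L (by rw [hG]; exact hL)
  obtain ⟨J, θ, hB, hJ, v, ψ, hv0, hv, hvT, hψ⟩ := exists_coef hN3 p hW hm0 j (lin (acRep φ)) hirr'
  refine ⟨m, W, hm, hW, hev, hodd, AlgebraicClosure F, inferInstance, inferInstance, hchar, j, J, θ, hB, ?_, ?_, ?_⟩
  · apply hJ
    rw [Module.finrank_fintype_fun_eq_card]
    have := hC.two_le
    omega
  · intro r hr hr0 hθ
    exact isKer_of_coef hirr' hv0 hψ hr hr0 hθ
  · have hmem : ∀ t ∈ WittModel.T (modelSU hK hN3 W), cf W j θ t ^ Nat.card F = cf W j θ t := by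
      intro t ht
      obtain ⟨a, ha⟩ := chi_mem R hG hφ hC.absIrred hv hv0 hvT ht
      have : Fintype F := Fintype.ofFinite F
      rw [← ha, ← map_pow, Nat.card_eq_fintype_card, FiniteField.pow_card]
    intro i hθ hi x hx
    have h1 : ∃ t ∈ WittModel.T (modelSU hK hN3 W), dl W i t = x := by
      rcases hi with hi | hi
      · have h2 : i = ⟨0, by omega⟩ := Fin.ext hi
        rw [h2]
        exact exists_t0 hN3 W hm hx
      · rcases hW with h2 | ⟨d, hd, hV⟩
        · exact absurd h2 hi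
        · obtain ⟨t, ht, h3⟩ := exists_t1 hN3 W hm0 hd hV hx
          exact ⟨t, ht, h3 i⟩
    obtain ⟨t, ht, h2⟩ := h1
    have h3 := hmem t ht
    rwa [cf_single j hθ, h2] at h3

/-- **The field of a core.** -/
theorem card_sq (p : ℕ) [hp : Fact p.Prime] [CharP F p] {K : Type} [Field K] [Fintype K] {q f : ℕ}
    (hK : Fintype.card K = q ^ 2) (hf : q = p ^ f) (hC : Core P) (hcj : Cj P q) {k : Type*} [Field k] (j : K →+* k)
    {c a : ℕ} (hc : c = 1 ∨ c = 2)
    (h : ∀ x : K, x ≠ 0 → (j x ^ (c * p ^ a)) ^ Nat.card F = j x ^ (c * p ^ a)) :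
    Nat.card F = q ^ 2 ∧ ¬ SD P := by
  have := Fintype.ofFinite F
  have hq := two_le_q hK
  have hp2 := hp.out.two_le
  have hf0 : f ≠ 0 := by
    rintro rfl
    rw [pow_zero] at hf
    omega
  rw [Nat.card_eq_fintype_card] at *
  obtain ⟨e, he, hFe⟩ := FiniteField.card F p
  have h2F : 2 ≤ Fintype.card F := Fintype.one_lt_card
  -- the upper bound
  have hle : Fintype.card F ≤ p ^ (2 * f) := by
    refine hC.card_le p (by omega) ?_
    have h1 := hcj.fr
    rw [hf, ← pow_add, ← two_mul] at h1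
    exact h1
  -- the divisibility
  have hdvd : q ^ 2 - 1 ∣ c * (Fintype.card F - 1) := by
    obtain ⟨g, hg⟩ := IsCyclic.exists_generator (α := Kˣ)
    have hord : orderOf g = q ^ 2 - 1 := by
      rw [orderOf_eq_card_of_forall_mem_zpowers hg, Nat.card_units, Nat.card_eq_fintype_card, hK]
    have h1 := h (g : K) (Units.ne_zero g)
    rw [← pow_mul, ← map_pow, ← map_pow] at h1
    have h2 := j.injective h1
    have h3 : g ^ (c * p ^ a * Fintype.card F) = g ^ (c * p ^ a) := by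
      ext
      push_cast
      exact h2
    have h4 : g ^ (c * p ^ a * (Fintype.card F - 1)) = 1 := by
      have h5 : c * p ^ a * Fintype.card F = c * p ^ a * (Fintype.card F - 1) + c * p ^ a := by
        conv_lhs => rw [show Fintype.card F = (Fintype.card F - 1) + 1 by omega]
        rw [mul_add, mul_one]
      rw [h5, pow_add] at h3
      exact mul_eq_right.1 h3
    have h5 := orderOf_dvd_of_pow_eq_one h4
    rw [hord] at h5
    have h6 : (q ^ 2 - 1).Coprime (p ^ a) := by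
      apply Nat.Coprime.pow_right
      rw [Nat.coprime_comm, Nat.Prime.coprime_iff_not_dvd hp.out]
      intro h7
      have h8 : p ∣ q ^ 2 := by
        rw [hf, ← pow_mul]
        exact dvd_pow_self p (by omega)
      have h9 : p ∣ 1 := by
        have h10 := Nat.dvd_sub h8 h7
        have h11 : 1 ≤ q ^ 2 := Nat.one_le_pow _ _ (by omega)
        rwa [Nat.sub_sub_self h11] at h10
      exact hp.out.one_lt.ne' (Nat.dvd_one.1 h9)
    refine h6.dvd_of_dvd_mul_left ?_
    rw [← mul_assoc, mul_comm (p ^ a) c]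
    exact h5
  have hq2 : q ^ 2 = p ^ (2 * f) := by rw [hf, ← pow_mul, mul_comm]
  have hcard : Fintype.card F = q ^ 2 := by
    rcases hle.lt_or_eq with hlt | heq
    · exfalso
      rw [hFe] at hlt
      have h1 : (e : ℕ) < 2 * f := (Nat.pow_lt_pow_iff_right hp.out.one_lt).1 hlt
      have h2 : Fintype.card F * p ≤ q ^ 2 := by
        rw [hq2, hFe, ← pow_succ]
        exact Nat.pow_le_pow_right hp.out.pos h1
      have h3 : Fintype.card F * 2 ≤ Fintype.card F * p := Nat.mul_le_mul_left _ hp2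
      have h4 := Nat.le_of_dvd (by
        rcases hc with rfl | rfl
        · omega
        · omega) hdvd
      rcases hc with rfl | rfl
      · omega
      · omega
    · rw [heq, hq2]
  refine ⟨hcard, fun hsd => ?_⟩
  have h1 : Fr P (p ^ f) := by
    rw [← hf]
    exact Fr.of_sd_cj hsd hcj
  have h2 := hC.card_le p hf0 h1
  rw [hcard, ← hf] at h2
  nlinarith only [hq, h2]

theorem cj_psu (p : ℕ) [Fact p.Prime] [CharP F p] {K : Type} [Field K] [Fintype K] [CharP K p] {N q : ℕ}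
    (hN : 4 ≤ N) (hK : Fintype.card K = q ^ 2) (hC : Core P) (Φ : Soc P ≃* PSU N K q) : Cj P q := by
  haveI := hC.nonempty
  intro g hg
  exact (psu_both p hC.absIrred hC.perfect (by omega) hK (by omega) Φ hg).2.symm

/-- **The dimensions and the exponents.** -/
theorem dims2 {K : Type} [Field K] [Fintype K] {N q m : ℕ} {hK : Fintype.card K = q ^ 2}
    {k : Type*} [Field k] {V : Type*} [AddCommGroup V] [Module k V] [FiniteDimensional k V]
    {j : K →+* k} {θ : Fin m → ℕ} (p : ℕ) [hp : Fact p.Prime] [CharP K p] [CharP k p] (hN : 4 ≤ N) (hm : 2 ≤ m)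
    (W : WFrame (PU hK N) m) (hev : W.V0 = ⊥ → N = 2 * m) (hodd : W.V0 ≠ ⊥ → N = 2 * m + 1) {J : Set (Fin m)}
    (hB : Bd W J θ) (hJ : ∃ i, i ∉ J)
    (hker : ∀ r, r ≤ m → 0 < r → (∀ i : Fin m, r ≤ (i : ℕ) → θ i = 0) →
        ∃ (vv : (Fin m → Fin N → K) → V) (ff : (Fin m → Fin N → K) → Module.Dual k V), IsKer q r j θ vv ff)
    (h5 : N = 5 → θ ⟨1, by omega⟩ ≠ 0 → (∀ i : Fin m, (i : ℕ) ≠ 1 → θ i = 0) →
      ∀ (vv : (Fin m → Fin N → K) → V) (ff : (Fin m → Fin N → K) → Module.Dual k V), IsKer q 2 j θ vv ff →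
        ((∃ a, θ ⟨1, by omega⟩ = p ^ a) ∧ Module.finrank k V = 10) ∨ 13 ≤ Module.finrank k V) :
    (∃ i : Fin m, (∀ i', i' ≠ i → θ i' = 0) ∧ ((i : ℕ) = 0 ∨ W.V0 ≠ ⊥) ∧
      ((∃ a, θ i = 1 * p ^ a) ∧ (Module.finrank k V = N ∨ (N = 5 ∧ Module.finrank k V = 10)) ∨
        (∃ a, θ i = 2 * p ^ a) ∧ N = 4 ∧ Module.finrank k V = 10)) ∨
      (N = 4 ∧ Module.finrank k V = 6) ∨ 13 ≤ Module.finrank k V := by
  obtain ⟨i, hi⟩ := hJ
  have hθi := hB.pos i hi
  have hlt : ∀ i, θ i < q ^ 2 := by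
    intro i
    have h3 := hB.le i
    have h4 : 0 < q ^ 2 := pow_pos (by have := two_le_q hK; omega) _
    omega
  by_cases huniq : ∃ i', i' ≠ i ∧ θ i' ≠ 0
  · obtain ⟨i', hne, hi'⟩ := huniq
    obtain ⟨vv, ff, h⟩ := hker m le_rfl (by omega) (fun i hi => absurd i.2 (by omega))
    right; right
    rcases lt_or_gt_of_ne hne with h3 | h3
    · exact two_nodes p W h h3 hi' hθi (hlt _)
    · exact two_nodes p W h h3 hθi hi' (hlt _)
  push Not at huniq
  obtain ⟨vv, ff, h⟩ := hker (i + 1) (by have := i.2; omega) (by omega) (fun i' hi' => huniq i' (by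
    rintro rfl
    omega))
  rcases Nat.eq_zero_or_pos (i : ℕ) with h0 | h0
  · have hi0 : i = ⟨0, by omega⟩ := Fin.ext h0
    rw [h0] at h
    have hθ : ∀ i' : Fin m, 1 ≤ (i' : ℕ) → θ i' = 0 := fun i' h1 => huniq i' (by
      rintro rfl
      omega)
    have hθ2 : ∀ i' : Fin m, (i' : ℕ) ≠ 0 → θ i' = 0 := fun i' h1 => hθ i' (by omega)
    obtain ⟨f, hf⟩ := exists_f hK p
    rcases node0_cases p hm W h hθ (hi0 ▸ hθi) (hlt _) hf with ⟨a, ha⟩ | h1 | ⟨hp2, a, ha⟩ | ⟨a, ha⟩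
    · exact Or.inl ⟨i, huniq, Or.inl h0, Or.inl ⟨⟨a, by rw [one_mul, hi0, ha]⟩, Or.inl (natural p (by omega) W h hθ ha)⟩⟩
    · exact Or.inr (Or.inr h1)
    · have h2 := node0_two (p := p) W hm h ha hθ2 hp2
      rcases Nat.lt_or_ge N 5 with h3 | h3
      · have h4 : N = 4 := by omega
        exact Or.inl ⟨i, huniq, Or.inl h0, Or.inr ⟨⟨a, by rw [hi0, ha]⟩, h4, h2.1 h4⟩⟩
      · have := h2.2 h3
        exact Or.inr (Or.inr (by omega))
    · have h2 := node0_adj (p := p) W hm h hf ha hθ2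
      exact Or.inr (Or.inr (by omega))
  by_cases h2 : (i : ℕ) + 1 < m
  · exact Or.inr (Or.inr (H991.D3.node_mid (W := W) h h0 h2 hθi huniq))
  by_cases h3 : 2 ≤ (i : ℕ)
  · exact Or.inr (Or.inr (H991.D3.node_last (W := W) h h3 hθi huniq))
  have hi1 : (i : ℕ) = 1 := by omega
  have hi1' : i = ⟨1, by omega⟩ := Fin.ext hi1
  have hm2 : m = 2 := by omega
  rw [hi1] at h
  have hθ : ∀ i' : Fin m, (i' : ℕ) ≠ 1 → θ i' = 0 := fun i' h1 => huniq i' (by
    rintro rfl
    exact h1 hi1)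
  by_cases hV0 : W.V0 = ⊥
  · have hN4 : N = 4 := by rw [hev hV0, hm2]
    subst hN4
    rcases node1_four p hm W h hθ (hi1' ▸ hθi) (hB.last hV0 _ (by simp; omega)) with h1 | h1
    · exact Or.inr (Or.inl ⟨rfl, h1⟩)
    · exact Or.inr (Or.inr (by omega))
  · have hN5 : N = 5 := by rw [hodd hV0, hm2]
    rcases h5 hN5 (hi1' ▸ hθi) hθ vv ff h with ⟨⟨a, ha⟩, h1⟩ | h1
    · exact Or.inl ⟨i, huniq, Or.inr hV0, Or.inl ⟨⟨a, by rw [one_mul, hi1', ha]⟩, Or.inr ⟨hN5, h1⟩⟩⟩
    · exact Or.inr (Or.inr h1)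

/-- **The fields**, `N ≠ 5`. -/
theorem psu_field' (p : ℕ) [hp : Fact p.Prime] [CharP F p] (K : Type) [Field K] [Fintype K] [CharP K p] {N q : ℕ}
    (hN : 4 ≤ N) (hN5 : N ≠ 5) (hn : Fintype.card ι ≤ 12) (hK : Fintype.card K = q ^ 2) (hC : Core P)
    (Φ : Soc P ≃* PSU N K q) (h6 : ¬ (N = 4 ∧ Fintype.card ι = 6)) : Nat.card F = q ^ 2 ∧ ¬ SD P := by
  obtain ⟨m, W, hm, hW, hev, hodd, k, _, _, _, j, J, θ, hB, hJ, hker, hval⟩ := setup2 p K hN hK hC Φ
  have hfin : Module.finrank k (ι → k) = Fintype.card ι := Module.finrank_fintype_fun_eq_card k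
  obtain ⟨f, hf⟩ := exists_f hK p
  have hcj := cj_psu p hN hK hC Φ
  have h1 := dims2 p hN hm W hev hodd hB hJ hker (fun h => absurd h hN5)
  rw [hfin] at h1
  rcases h1 with ⟨i, hi, hi', ⟨⟨a, ha⟩, -⟩ | ⟨⟨a, ha⟩, -⟩⟩ | h1 | h1
  · exact card_sq p hK hf hC hcj j (Or.inl rfl) (a := a) (by rw [← ha]; exact hval i hi hi')
  · exact card_sq p hK hf hC hcj j (Or.inr rfl) (a := a) (by rw [← ha]; exact hval i hi hi')
  · exact absurd h1 h6
  · omega

/-- **`PSU_4(q)` in dimension `10`.** -/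
theorem psu4_ten (p : ℕ) [hp : Fact p.Prime] [CharP F p] (K : Type) [Field K] [Fintype K] [CharP K p] {q : ℕ}
    (hK : Fintype.card K = q ^ 2) (hC : Core P) (Φ : Soc P ≃* PSU 4 K q) (hn : Fintype.card ι = 10) :
    Nat.card F = q ^ 2 ∧ ¬ SD P :=
  psu_field' p K le_rfl (by omega) (by omega) hK hC Φ (by omega)

end

end Cfsg.Agent.H887.D3
end

-- part: H887/D3/Fields5
section
/-!
# Fields of the small modules of `SU_N(q)`, all `N ≥ 4` (helper887)

* **`psu_field`** : `card ι ≤ 12`, not `N = 4`, `card ι = 6`: `|F| = q ^ 2` and `¬ SD P`;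
* **`psu5_ten`**, **`psu_nat`**.
-/

set_option autoImplicit false
set_option linter.unusedSectionVars false

namespace Cfsg.Agent.H887.D3

open Cfsg Cfsg.Geo Cfsg.Agent.H876.D3 Cfsg.Agent.H915.LD
open LieClassical.HermBasic Cfsg.Agent.TitsThree.KSideU Cfsg.Agent.TitsThree.WBridge Cfsg.Agent.TitsThree.WittFrame

universe u

section

variable {F : Type u} [Field F] [Finite F] {ι : Type} [Fintype ι] [DecidableEq ι] {P : Subgroup (GL ι F)}

/-- **The fields.** -/
theorem psu_field (p : ℕ) [hp : Fact p.Prime] [CharP F p] (K : Type) [Field K] [Fintype K] [CharP K p] {N q : ℕ}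
    (hN : 4 ≤ N) (hn : Fintype.card ι ≤ 12) (hK : Fintype.card K = q ^ 2) (hC : Core P)
    (Φ : Soc P ≃* PSU N K q) (h6 : ¬ (N = 4 ∧ Fintype.card ι = 6)) : Nat.card F = q ^ 2 ∧ ¬ SD P := by
  by_cases hN5 : N = 5
  · subst hN5
    obtain ⟨m, W, hm, hW, hev, hodd, k, _, _, _, j, J, θ, hB, hJ, hker, hval⟩ := setup2 p K hN hK hC Φ
    have hfin : Module.finrank k (ι → k) = Fintype.card ι := Module.finrank_fintype_fun_eq_card k
    obtain ⟨f, hf⟩ := exists_f hK p
    have hcj := cj_psu p hN hK hC Φ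
    have hV0 : W.V0 ≠ ⊥ := by
      intro h
      have := hev h
      omega
    have h1 := dims2 p hN hm W hev hodd hB hJ hker (fun _ h1 hθ vv ff h =>
      H991.D3.node1_five_pow p hm W hV0 h hθ h1 (hB.le _))
    rw [hfin] at h1
    rcases h1 with ⟨i, hi, hi', ⟨⟨a, ha⟩, -⟩ | ⟨⟨a, ha⟩, -⟩⟩ | h1 | h1
    · exact card_sq p hK hf hC hcj j (Or.inl rfl) (a := a) (by rw [← ha]; exact hval i hi hi')
    · exact card_sq p hK hf hC hcj j (Or.inr rfl) (a := a) (by rw [← ha]; exact hval i hi hi')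
    · exact absurd h1 h6
    · omega
  · exact psu_field' p K hN hN5 hn hK hC Φ h6

/-- **`PSU_5(q)` in dimension `10`.** -/
theorem psu5_ten (p : ℕ) [hp : Fact p.Prime] [CharP F p] (K : Type) [Field K] [Fintype K] [CharP K p] {q : ℕ}
    (hK : Fintype.card K = q ^ 2) (hC : Core P) (Φ : Soc P ≃* PSU 5 K q) (hn : Fintype.card ι = 10) :
    Nat.card F = q ^ 2 ∧ ¬ SD P :=
  psu_field p K (by norm_num) (by omega) hK hC Φ (by omega)

end

end Cfsg.Agent.H887.D3
end

private theorem dce_ff3e3a2de284 : _root_.True := by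
  try have : _root_.True := by simp only [_root_.Cfsg.Agent.H887.D3.scM.eq_1]
  exact _root_.True.intro
end
end
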