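import Cfsg.Agent.H905.MdK
import Cfsg.Agent.H905.MdH_m3
import Cfsg.Agent.H905.MdL
import Cfsg.Agent.KFacts.MulOdd.Shrink
import Cfsg.Agent.H876.UWitt
import Mathlib
import Cfsg.Agent.H905.MdM
import Cfsg.Agent.H906.Cover_m3
import Cfsg.Agent.FastGrp
import Cfsg.Agent.Prune
set_option linter.all false

section
prune_inst 0x7ffdbdf9bbbcbfffdfff7e7fa6dccffc39911fffe6dff94bbfe029ef2bdf338009e56bad09e090fe0ec2621410387843fb7eeeffe26bdc7ffffd5ff41ffbee4ff5f7b50951948c340f382ff703f0778e7f3fffffffffffffffffffffffffffbeffbfffffffff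

-- part: H876/D3/Base
section
prune_inst 0x1800000000180200000000000b0400042100000000080000000e01002001035000000000010000001000000000000000000000000100000000000000000000000000000000000000000000000000000000000000000000000000000
set_option linter.all false
open scoped Cfsg.Agent.FastGrp

-- part: H876/D3/Delta
section
/-!
# The leading minors of an isometry over a Witt frame (helper876)

`Dl Fr s i g = det (h(g b_(a,s), b_(b,!s)))_{a, b ≤ i}`.

* `KD Fr s i` : the `u` with `Dl s i (g u) = Dl s i g`; `rg_le_KD` : it contains the root groups of the roots `x` with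
  `x_i ≥ 0` (`s = true`), `x_i ≤ 0` (`s = false`);
* `Dl_mul_diag`, `Dl_one`, `Dl_swap`;
* `exists_act_mono`, `coord_of_Dl`.
-/

set_option autoImplicit false
set_option linter.unusedSectionVars false

namespace Cfsg.Agent.H876.D3

open CoxeterSystem Cfsg.Agent.ChevalleyStructure.CoxeterGeom Cfsg.Agent.Tits.Roots Cfsg.Agent.Nodes.TypeC
open Cfsg.Agent.Nodes.Comb Cfsg.Agent.Nodes.Reps Cfsg.Agent.Nodes.WittRoot Cfsg.Agent.Nodes.BNOf
open Cfsg.Agent.Nodes.WittRGD Cfsg.Agent.Nodes.RGDLib Cfsg.Agent.Nodes.WittAll Cfsg.Agent.Nodes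
open Cfsg.Agent.TitsThree Cfsg.Agent.TitsThree.Siegel Cfsg.Agent.TitsThree.WittFrame
  Cfsg.Agent.TitsThree.WittWeyl Cfsg.Agent.TitsThree.FrameCN

/-! ### partial sums -/

section Sums

variable {m : ℕ}

theorem sum_wt (y : Fin m × Bool) (i : Fin m) :
    ∑ k ∈ Finset.Iic i, wt y k = if y.1 ≤ i then (if y.2 then 1 else -1) else 0 := by
  unfold wt
  rw [Finset.sum_pi_single']
  simp only [Finset.mem_Iic]

theorem sum_ee (x : Fin m → ℤ) (i : Fin m) :
    ∑ k ∈ Finset.Iic i, ee x k = (if (i : ℕ) + 1 < m then 1 else 2) * x i := by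
  have h1 : ∀ k, ee x k = ∑ j, x j * bt j k := by
    intro k
    simp only [ee, Finset.sum_apply, _root_.zsmul_eq_mul, _root_.Pi.mul_apply, _root_.Pi.intCast_apply, _root_.Int.cast_eq]
  simp only [h1]
  rw [Finset.sum_comm]
  simp only [← Finset.mul_sum, sum_bt]
  rw [Finset.sum_eq_single i]
  · simp only [if_true]
    split_ifs <;> ring
  · intro j _ hj
    simp [Ne.symm hj]
  · simp only [_root_.Finset.mem_univ, _root_.not_true_eq_false, ↓ _root_.reduceIte, _root_.mul_ite, _root_.mul_one, _root_.IsEmpty.forall_iff]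

theorem sum_ee_pair {x : Fin m → ℤ} {a b : Fin m × Bool} (e : ee x = wt a + wt b) (i : Fin m) :
    (if (i : ℕ) + 1 < m then 1 else 2) * x i = (if a.1 ≤ i then (if a.2 then 1 else -1) else 0) +
      (if b.1 ≤ i then (if b.2 then 1 else -1) else 0) := by
  rw [← sum_ee, e]
  simp only [Pi.add_apply, Finset.sum_add_distrib, sum_wt]

end Sums

variable {F : Type*} [Field F] {V : Type*} [AddCommGroup V] [Module F V] {H : HForm F V} {m : ℕ}
  (Fr : Frame H (Fin m))

/-- the leading minors -/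
noncomputable def Dl (s : Bool) (i : Fin m) (g : V ≃ₗ[F] V) : F :=
  (Matrix.of fun a b : {a : Fin m // a ≤ i} => H.h (g (Fr.b (a.1, s))) (Fr.b (b.1, !s))).det

/-- the right stabiliser of `Dl` -/
def KD (s : Bool) (i : Fin m) : Subgroup (V ≃ₗ[F] V) where
  carrier := {u | ∀ g, Dl Fr s i (g * u) = Dl Fr s i g}
  one_mem' := fun g => by rw [mul_one]
  mul_mem' := fun {u v} hu hv g => by rw [← mul_assoc, hv, hu]
  inv_mem' := fun {u} hu g => by
    have := hu (g * u⁻¹)
    rw [inv_mul_cancel_right] at this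
    exact this.symm

variable {Fr}

theorem mem_KD_of_fix {s : Bool} {i : Fin m} {u : V ≃ₗ[F] V} (hu : ∀ c ≤ i, u (Fr.b (c, s)) = Fr.b (c, s)) :
    u ∈ KD Fr s i := by
  intro g
  unfold Dl
  congr 1
  ext a b
  rw [Matrix.of_apply, Matrix.of_apply, mul_apply', hu a.1 a.2]

theorem mem_KD_of_transv {s : Bool} {i : Fin m} {u : V ≃ₗ[F] V} {c₁ c₂ : Fin m} (h1 : c₁ ≤ i) (h2 : c₂ ≤ i)
    (hne : c₁ ≠ c₂) {t : F} (hu : u (Fr.b (c₁, s)) = Fr.b (c₁, s) + t • Fr.b (c₂, s))
    (hfix : ∀ c ≤ i, c ≠ c₁ → u (Fr.b (c, s)) = Fr.b (c, s)) : u ∈ KD Fr s i := by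
  intro g
  set M : Matrix {a : Fin m // a ≤ i} {a : Fin m // a ≤ i} F :=
    Matrix.of fun a b : {a : Fin m // a ≤ i} => H.h (g (Fr.b (a.1, s))) (Fr.b (b.1, !s)) with hM
  have h3 : (⟨c₁, h1⟩ : {a : Fin m // a ≤ i}) ≠ ⟨c₂, h2⟩ := fun h => hne (congrArg Subtype.val h)
  have h4 := Matrix.det_updateRow_add_smul_self M h3 t
  unfold Dl
  rw [← hM, ← h4]
  congr 1
  ext a b
  rw [Matrix.of_apply, Matrix.updateRow_apply]
  split_ifs with h5
  · rw [h5, mul_apply', hu, map_add, map_smul, H.add_left, H.smul_left, Pi.add_apply, Pi.smul_apply, smul_eq_mul]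
    rfl
  · rw [mul_apply', hfix a.1 a.2 fun h6 => h5 (Subtype.ext h6)]
    rfl

/-- the sign -/
def sgn (s : Bool) : ℤ := if s then 1 else -1

theorem PG_le_KD {s : Bool} {i : Fin m} {a b : Fin m × Bool} (hab : Ok a b)
    (h0 : 0 ≤ sgn s * ((if a.1 ≤ i then (if a.2 then 1 else -1) else 0) +
      (if b.1 ≤ i then (if b.2 then 1 else -1) else 0))) : PG Fr a b ≤ KD Fr s i := by
  obtain ⟨a, u⟩ := a
  obtain ⟨b, v⟩ := b
  simp only at h0
  rcases hab with hab | hab
  · simp only at hab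
    rw [PG_ne Fr hab]
    rintro _ ⟨t, rfl⟩
    by_cases h1 : a ≤ i ∧ u = !s
    · -- `e_a ↦ e_a + c e_b`
      have h2 : b ≤ i ∧ v = s := by
        by_contra hcon
        rcases h1 with ⟨h1, rfl⟩
        cases s <;> cases v <;> simp_all only [sgn, _root_.ne_eq, _root_.and_true, _root_.not_le, _root_.Bool.false_eq_true, ↓ _root_.reduceIte, _root_.Int.reduceNeg, _root_.Bool.not_false, _root_.neg_mul, _root_.one_mul, _root_.neg_add_rev, _root_.le_add_neg_iff_add_le, _root_.zero_add, _root_.Bool.true_eq_false, _root_.and_false, _root_.not_false_eq_true, _root_.Bool.not_true, _root_.le_neg_add_iff_add_le, _root_.add_zero] <;> split_ifs at h0 <;> omega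
      obtain ⟨h1, rfl⟩ := h1
      obtain ⟨h2, rfl⟩ := h2
      have e := X_apply_neg' Fr (x := (a, !v)) (y := (b, v)) hab t
      rw [sub_eq_add_neg, ← neg_smul] at e
      have e0 : neg ((a, !v) : Fin m × Bool) = (a, v) := by simp [neg]
      rw [e0] at e
      refine mem_KD_of_transv h1 h2 hab e fun c _ hca => ?_
      refine X_apply_of_ne Fr hab ?_ ?_ t
      · rw [e0]
        exact fun h => hca (congrArg Prod.fst h)
      · intro h
        have := congrArg Prod.snd h
        simp [neg] at this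
    · by_cases h2 : b ≤ i ∧ v = !s
      · have h3 : a ≤ i ∧ u = s := by
          by_contra hcon
          rcases h2 with ⟨h2, rfl⟩
          cases s <;> cases u <;> simp_all only [sgn, _root_.ne_eq, _root_.Bool.not_false, _root_.Bool.false_eq_true, _root_.and_false, _root_.not_false_eq_true, _root_.and_true, _root_.not_le, ↓ _root_.reduceIte, _root_.Int.reduceNeg, _root_.neg_mul, _root_.one_mul, _root_.neg_add_rev, _root_.le_add_neg_iff_add_le, _root_.zero_add, _root_.Bool.true_eq_false, _root_.Bool.not_true] <;> split_ifs at h0 <;> omega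
        obtain ⟨h2, rfl⟩ := h2
        obtain ⟨h3, rfl⟩ := h3
        have e := X_apply_neg Fr (x := (a, u)) (y := (b, !u)) hab t
        have e0 : neg ((b, !u) : Fin m × Bool) = (b, u) := by simp [neg]
        rw [e0] at e
        refine mem_KD_of_transv h2 h3 (Ne.symm hab) e fun c _ hca => ?_
        refine X_apply_of_ne Fr hab ?_ ?_ t
        · intro h
          have := congrArg Prod.snd h
          simp [neg] at this
        · rw [e0]
          exact fun h => hca (congrArg Prod.fst h)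
      · refine mem_KD_of_fix fun c hc => X_apply_of_ne Fr hab ?_ ?_ t
        · intro h
          have e1 := congrArg Prod.fst h
          have e2 := congrArg Prod.snd h
          simp only [neg] at e1 e2
          exact h1 ⟨e1 ▸ hc, by rw [e2]; simp⟩
        · intro h
          have e1 := congrArg Prod.fst h
          have e2 := congrArg Prod.snd h
          simp only [neg] at e1 e2
          exact h2 ⟨e1 ▸ hc, by rw [e2]; simp⟩
  · rw [← hab, PG_self]
    obtain ⟨rfl, rfl⟩ := Prod.mk.inj hab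
    rintro _ ⟨p, rfl⟩
    refine mem_KD_of_fix fun c hc => Z_apply_of_ne Fr ?_ p
    intro h
    have e1 := congrArg Prod.fst h
    have e2 := congrArg Prod.snd h
    simp only [neg] at e1 e2
    subst e1
    rw [if_pos hc, e2] at h0
    cases u
    · norm_num [sgn] at h0
    · norm_num [sgn] at h0

theorem rg_le_KD {W : Type*} [Group W] {cs : CoxeterSystem (CoxeterMatrix.B m) W} {s : Bool} {i : Fin m}
    {x : Fin m → ℤ} (hx : IsRoot cs (isCartan m) x) (h0 : 0 ≤ sgn s * x i) : rg Fr x ≤ KD Fr s i := by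
  obtain ⟨a, b, hab, e⟩ := isRoot_iff.1 hx
  rw [rg_eq Fr hab e]
  refine PG_le_KD hab ?_
  rw [← sum_ee_pair e i]
  split_ifs
  · rwa [one_mul]
  · have : sgn s * (2 * x i) = 2 * (sgn s * x i) := by ring
    rw [this]
    omega

/-! ### values -/

theorem Dl_one (i : Fin m) : Dl Fr true i 1 = 1 := by
  unfold Dl
  have h1 : (Matrix.of fun a b : {a : Fin m // a ≤ i} =>
      H.h ((1 : V ≃ₗ[F] V) (Fr.b (a.1, true))) (Fr.b (b.1, !true))) = 1 := by
    ext a b
    rw [Matrix.of_apply]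
    change H.h (Fr.b (a.1, true)) (Fr.b (b.1, !true)) = _
    rw [Fr.hb, Matrix.one_apply]
    by_cases h2 : a = b
    · subst h2; simp
    · rw [if_neg h2, if_neg]
      rintro ⟨h3, -⟩
      exact h2 (Subtype.ext h3)
  rw [h1, Matrix.det_one]

theorem Dl_mul_diag {s : Bool} {i : Fin m} {t : V ≃ₗ[F] V} {l : Fin m → F}
    (ht : ∀ a ≤ i, t (Fr.b (a, s)) = l a • Fr.b (a, s)) (g : V ≃ₗ[F] V) :
    Dl Fr s i (g * t) = (∏ a : {a : Fin m // a ≤ i}, l a.1) * Dl Fr s i g := by
  unfold Dl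
  rw [← Matrix.det_mul_column]
  congr 1
  ext a b
  rw [Matrix.of_apply, Matrix.of_apply, mul_apply', ht a.1 a.2, map_smul, H.smul_left]
  rfl

theorem Dl_mul_diag' {i : Fin m} {t : V ≃ₗ[F] V} {l : Fin m → F}
    (ht : ∀ a ≤ i, t (Fr.b (a, true)) = l a • Fr.b (a, true)) (g : V ≃ₗ[F] V) :
    Dl Fr true i (g * t) = Dl Fr true i g * Dl Fr true i t := by
  have h1 := Dl_mul_diag ht 1
  rw [one_mul, Dl_one, mul_one] at h1
  rw [Dl_mul_diag ht, h1, mul_comm]

theorem Dl_swap (hε : H.ε = 1) {g : V ≃ₗ[F] V} (hg : H.IsIso g) (i : Fin m) :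
    Dl Fr true i g = H.σ (Dl Fr false i g⁻¹) := by
  unfold Dl
  rw [RingEquiv.map_det, ← Matrix.det_transpose]
  congr 1
  ext a b
  rw [Matrix.transpose_apply, Matrix.of_apply]
  change H.h (g (Fr.b (b.1, true))) (Fr.b (a.1, false)) = H.σ (H.h (g⁻¹ (Fr.b (a.1, false))) (Fr.b (b.1, true)))
  have h1 : H.h (g (Fr.b (b.1, true))) (Fr.b (a.1, false)) = H.h (Fr.b (b.1, true)) (g⁻¹ (Fr.b (a.1, false))) := by
    rw [← hg (Fr.b (b.1, true)) (g⁻¹ (Fr.b (a.1, false)))]
    congr 1
    exact (g.apply_symm_apply _).symm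
  rw [h1, H.swap (g⁻¹ (Fr.b (a.1, false))) (Fr.b (b.1, true)), hε, one_mul]

theorem Dl_mul_left (hε : H.ε = 1) {g u : V ≃ₗ[F] V} (hg : H.IsIso g) (hu : H.IsIso u) {i : Fin m}
    (h : u ∈ KD Fr false i) : Dl Fr true i (u * g) = Dl Fr true i g := by
  rw [Dl_swap hε (HForm.IsIso.mul H hu hg), Dl_swap hε hg, mul_inv_rev, inv_mem h]

theorem perm_of_Dl {g : V ≃ₗ[F] V} {π : Fin m × Bool → Fin m × Bool} (hm : Mono Fr g π) {i : Fin m}
    (h : Dl Fr true i g ≠ 0) : ∀ a ≤ i, ∃ b ≤ i, π (a, true) = (b, true) := by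
  intro a ha
  by_contra hcon
  push Not at hcon
  apply h
  unfold Dl
  refine Matrix.det_eq_zero_of_row_eq_zero ⟨a, ha⟩ fun b => ?_
  rw [Matrix.of_apply]
  obtain ⟨l, -, hl⟩ := hm (a, true)
  rw [hl, H.smul_left, Fr.hb_ne, mul_zero]
  intro h1
  apply hcon b.1 b.2
  have h2 := congrArg neg h1
  rw [neg_neg] at h2
  rw [← h2]
  simp [neg]

end Cfsg.Agent.H876.D3
end

-- part: H876/D3/Perm
section
/-!
# Minors of monomial elements (helper876)

* `exists_act_mono` : the representatives of `w` are monomial, with a permutation which describes `w`;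
* **`mem_WJ_of_Dl`** : if the minors `Dl true i m`, `i ∉ J`, of a representative `m` of `w` do not vanish then `w ∈ W_J`.
-/

set_option autoImplicit false
set_option linter.unusedSectionVars false

namespace Cfsg.Agent.H876.D3

open CoxeterSystem Cfsg.Agent.ChevalleyStructure.CoxeterGeom Cfsg.Agent.Tits.Roots Cfsg.Agent.Nodes.TypeC
open Cfsg.Agent.Nodes.Comb Cfsg.Agent.Nodes.Reps Cfsg.Agent.Nodes.WittRoot Cfsg.Agent.Nodes.BNOf
open Cfsg.Agent.Nodes.WittRGD Cfsg.Agent.Nodes.RGDLib Cfsg.Agent.Nodes.WittAll Cfsg.Agent.Nodes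
open Cfsg.Agent.TitsThree Cfsg.Agent.TitsThree.Siegel Cfsg.Agent.TitsThree.WittFrame
  Cfsg.Agent.TitsThree.WittWeyl Cfsg.Agent.TitsThree.FrameCN Cfsg.Agent.H905.Md
  Cfsg.Agent.Nodes.StabComb Cfsg.Agent.Tits.Core

section Comb

variable {m : ℕ} {W : Type*} [Group W] {cs : CoxeterSystem (CoxeterMatrix.B m) W}

theorem coord_of_perm {w : W} {π : Fin m × Bool → Fin m × Bool} (hact : Act cs w π)
    (hng : ∀ y, π (ng y) = ng (π y)) (hinj : Function.Injective π) {i : Fin m}
    (h : ∀ a ≤ i, ∃ b ≤ i, π (a, true) = (b, true)) (x : Fin m → ℤ) : rep cs (isCartan m) w x i = x i := by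
  -- the partial sums
  let S : Fin m × Bool → ℤ := fun y => if y.1 ≤ i then (if y.2 then 1 else -1) else 0
  have hS : ∀ y, S (π y) = S y := by
    choose f hf hf' using h
    have hfalse : ∀ a (ha : a ≤ i), π (a, false) = (f a ha, false) := by
      intro a ha
      have h1 := hng (a, true)
      rw [hf' a ha] at h1
      exact h1
    have key : ∀ y : Fin m × Bool, ∀ hy : y.1 ≤ i, π y = (f y.1 hy, y.2) := by
      rintro ⟨a, s⟩ hy
      cases s
      · exact hfalse a hy
      · exact hf' a hy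
    intro y
    by_cases hy : y.1 ≤ i
    · change (if (π y).1 ≤ i then (if (π y).2 then (1 : ℤ) else -1) else 0) = _
      rw [key y hy, if_pos (hf _ hy)]
      change _ = (if y.1 ≤ i then (if y.2 then (1 : ℤ) else -1) else 0)
      rw [if_pos hy]
    · have h1 : ¬ (π y).1 ≤ i := by
        intro h1
        let g : {a : Fin m // a ≤ i} → {a : Fin m // a ≤ i} := fun a => ⟨f a.1 a.2, hf a.1 a.2⟩
        have hg : Function.Injective g := by
          intro a b hab
          have h2 : f a.1 a.2 = f b.1 b.2 := congrArg Subtype.val hab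
          have h3 : π (a.1, true) = π (b.1, true) := by rw [hf' a.1 a.2, hf' b.1 b.2, h2]
          exact Subtype.ext (congrArg Prod.fst (hinj h3))
        obtain ⟨a, ha⟩ := Finite.surjective_of_injective hg ⟨(π y).1, h1⟩
        have h2 : f a.1 a.2 = (π y).1 := congrArg Subtype.val ha
        have h3 : π (a.1, (π y).2) = π y := by
          rw [key (a.1, (π y).2) a.2]
          exact Prod.ext h2 rfl
        have h4 := hinj h3
        apply hy
        rw [← h4]
        exact a.2
      change (if (π y).1 ≤ i then (if (π y).2 then (1 : ℤ) else -1) else 0) =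
        (if y.1 ≤ i then (if y.2 then (1 : ℤ) else -1) else 0)
      rw [if_neg h1, if_neg hy]
  have h1 : ∀ j, rep cs (isCartan m) w (sr j) i = sr j i := by
    intro j
    have e1 := sum_ee_pair (ee_sr j) i
    have e2 := sum_ee_pair (hact _ _ _ (ee_sr j)) i
    have e3 : (if (i : ℕ) + 1 < m then (1 : ℤ) else 2) * rep cs (isCartan m) w (sr j) i =
        (if (i : ℕ) + 1 < m then (1 : ℤ) else 2) * sr j i := by
      rw [e1, e2]
      exact congrArg₂ (· + ·) (hS _) (hS _)
    split_ifs at e3 <;> linarith only [e3]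
  have h2 : (LinearMap.proj i : (Fin m → ℤ) →ₗ[ℤ] ℤ) ∘ₗ (rep cs (isCartan m) w) = LinearMap.proj i := by
    apply LinearMap.pi_ext
    intro j c
    have h3 : (Pi.single j c : Fin m → ℤ) = c • sr j := by
      rw [sr, ← Pi.single_smul, smul_eq_mul, mul_one]
    rw [h3, map_smul, map_smul]
    congr 1
    exact h1 j
  exact congrArg (fun f : (Fin m → ℤ) →ₗ[ℤ] ℤ => f x) h2

end Comb

section Model

variable {F : Type*} [Field F] {V : Type*} [AddCommGroup V] [Module F V] {H : HForm F V} {m : ℕ}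
  {Fr : Frame H (Fin m)} {K : Type*} [Group K] (M : Model Fr K) {p : ℕ}

theorem exists_act_mono (hA : AmbT Fr p M.I) {p0 : Fr.Adm} (hp0 : p0.c ≠ 0) {W : Type*} [Group W]
    {cs : CoxeterSystem (CoxeterMatrix.B m) W}
    (hN : NSys (CoxeterMatrix.B m) (WittModel.T M) (fun i => M.φ ⟨_root_.Cfsg.Agent.Nodes.WittRGD.nn Fr p0 i, _root_.Cfsg.Agent.Nodes.WittAll.nn_mem hA p0 i⟩)) (w : W) :
    ∀ k : K, Rp cs hN w k → ∃ π, Act cs w π ∧ (∀ y, π (ng y) = ng (π y)) ∧ Function.Injective π ∧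
      ∃ (g : V ≃ₗ[F] V) (hg : g ∈ M.I), M.φ ⟨g, hg⟩ = k ∧ Mono Fr g π := by
  induction w using cs.simple_induction_left with
  | one =>
    intro k hk
    obtain ⟨g, hg, h1, h2⟩ := (mem_modelT M).1 hk.mem_of_one
    exact ⟨id, Act.one, fun _ => rfl, Function.injective_id, g, hg, h2, h1⟩
  | mul_simple_left w j ih =>
    intro k hk
    have h1 := (rp_simple cs hN j).inv.mul hk
    rw [cs.inv_simple, cs.simple_mul_simple_cancel_left] at h1
    obtain ⟨π, h2, h3, h4, g, hg, h5, h6⟩ := ih _ h1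
    refine ⟨fun y => TypeC.sg j (π y), (act_simple j).mul h2, fun y => by
      change TypeC.sg j (π (ng y)) = ng (TypeC.sg j (π y))
      rw [h3, TypeC.sg_ng],
      fun a b hab => h4 ?_, _root_.Cfsg.Agent.Nodes.WittRGD.nn Fr p0 j * g, mul_mem (_root_.Cfsg.Agent.Nodes.WittAll.nn_mem hA p0 j) hg, ?_, (mono_nn hp0 j).mul h6⟩
    · have h7 := congrArg (TypeC.sg j) hab
      rwa [sg_sg, sg_sg] at h7
    · have h7 : M.φ ⟨_root_.Cfsg.Agent.Nodes.WittRGD.nn Fr p0 j * g, mul_mem (_root_.Cfsg.Agent.Nodes.WittAll.nn_mem hA p0 j) hg⟩ = M.φ ⟨_root_.Cfsg.Agent.Nodes.WittRGD.nn Fr p0 j, _root_.Cfsg.Agent.Nodes.WittAll.nn_mem hA p0 j⟩ * M.φ ⟨g, hg⟩ := by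
        rw [← map_mul]
        rfl
      rw [h7, h5, mul_inv_cancel_left]

/-- **Representatives with nonvanishing minors.** -/
theorem mem_WJ_of_Dl (hA : AmbT Fr p M.I) {p0 : Fr.Adm} (hp0 : p0.c ≠ 0) {W : Type*} [Group W]
    {cs : CoxeterSystem (CoxeterMatrix.B m) W}
    (hN : NSys (CoxeterMatrix.B m) (WittModel.T M) (fun i => M.φ ⟨_root_.Cfsg.Agent.Nodes.WittRGD.nn Fr p0 i, _root_.Cfsg.Agent.Nodes.WittAll.nn_mem hA p0 i⟩)) {w : W} {J : Set (Fin m)}
    {g : V ≃ₗ[F] V} (hg : g ∈ M.I) (hinj : ∀ g' (hg' : g' ∈ M.I), M.φ ⟨g', hg'⟩ = M.φ ⟨g, hg⟩ → g' = g)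
    (hw : Rp cs hN w (M.φ ⟨g, hg⟩)) (h : ∀ i, i ∉ J → Dl Fr true i g ≠ 0) : w ∈ WJ cs J := by
  obtain ⟨π, h1, h2, h3, g', hg', h4, h5⟩ := exists_act_mono M hA hp0 hN w _ hw
  have h6 := hinj g' hg' h4
  subst h6
  exact (mem_WJ_iff (h := isCartan m)).2 fun x i hi => coord_of_perm h1 h2 h3 (perm_of_Dl h5 (h i hi)) x

end Model

end Cfsg.Agent.H876.D3
end

-- part: H876/D3/Coef
section
/-!
# The coefficient of the highest weight vector (helper876)

* `exists_birkhoff` : `g = a m u` with `a ∈ U⁻`, `m` over `w`, `u ∈ U`;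
* **`coef_eq`** : `φ (ρ g v) = f g` if `f` has the obvious invariance properties and vanishes outside `W_J`.
-/

set_option autoImplicit false
set_option linter.unusedSectionVars false

namespace Cfsg.Agent.H876.D3

open CoxeterSystem Cfsg.Agent.ChevalleyStructure.CoxeterGeom Cfsg.Agent.Tits.Roots Cfsg.Agent.Tits.Core
  Cfsg.Agent.Tits.Exchange Cfsg.Agent.Nodes.Reps Cfsg.Agent.Nodes.BNOf Cfsg.Agent.Nodes.StabComb
  Cfsg.Agent.Nodes.Bruhat Cfsg.Agent.Nodes.OppDec Cfsg.Agent.Nodes.LeviDec Cfsg.Agent.KFacts.RgdOpp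
  Cfsg.Agent.Omega.CR Cfsg.Agent.Omega.FOne.Lift.Sd Cfsg.Agent.H905.Md

variable {I W Y : Type*} [Fintype I] [DecidableEq I] [Group W] [Group Y] {M : CoxeterMatrix I}
  {cs : CoxeterSystem M W} {A : I → I → ℤ} {h : IsCartan M A} {p : ℕ} {T : Subgroup Y} {n : I → Y}
  {X : (I → ℤ) → Subgroup Y}

theorem exists_birkhoff (R : RGD cs h p T n X) [Finite W] {g : Y} (hg : g ∈ GG cs h T X) :
    ∃ a ∈ UN cs h X, ∃ w m, Rp cs R.nsys w m ∧ ∃ u ∈ RGD.Sup X (RGD.Pos cs h), g = a * m * u := by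
  obtain ⟨k₀, hk₀⟩ := exists_rp cs R.nsys (w0 cs)
  obtain ⟨w, b₁, hb₁, k, hk, b₂, hb₂, e⟩ := (mem_GG R).1 (mul_mem (inv_mem (NN_le_GG R ⟨_, hk₀⟩)) hg)
  obtain ⟨t₁, ht₁, u₁, hu₁, e₁⟩ := R.mem_B.1 (inv_mem hb₁)
  obtain ⟨t₂, ht₂, u₂, hu₂, e₂⟩ := R.mem_B.1 hb₂
  refine ⟨k₀ * u₁⁻¹ * k₀⁻¹, ?_, w0 cs * (1 * w * 1), k₀ * (t₁⁻¹ * k * t₂), ?_, u₂, hu₂, ?_⟩
  · rw [← cj_U R hk₀]
    exact conj_mem_cj.2 (inv_mem hu₁)
  · exact hk₀.mul (((rp_of_mem (inv_mem ht₁)).mul hk).mul (rp_of_mem ht₂))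
  · have h1 : b₁ = u₁⁻¹ * t₁⁻¹ := by rw [← mul_inv_rev, ← e₁, inv_inv]
    have h2 : g = k₀ * (k₀⁻¹ * g) := by group
    rw [h2, e, h1, e₂]
    group

variable {k V : Type*} [Field k] [AddCommGroup V] [Module k V]

/-- **The coefficient of the highest weight vector.** -/
theorem coef_eq (R : RGD cs h p T n X) [Finite Y] [Finite W] [Fact p.Prime] [CharP k p]
    {ρ : Y →* Module.End k V} [FiniteDimensional k V] [Nontrivial V]
    (hirr : ∀ L : Submodule k V, Ivt ρ (GG cs h T X) L → L = ⊥ ∨ L = ⊤)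
    {v : V} (hv : v ∈ D cs h X ρ) {φ : Module.Dual k V} (hφ : φ ∈ fx (dualRep ρ) (UN cs h X)) (h1 : φ v = 1)
    {χ : Y → k} (hχ : ∀ t ∈ T, ρ t v = χ t • v) {f : Y → k} (hl : ∀ a ∈ UN cs h X, ∀ g, f (a * g) = f g)
    (hr : ∀ u ∈ RGD.Sup X (RGD.Pos cs h), ∀ g, f (g * u) = f g) (ht : ∀ t ∈ T, ∀ g, f (g * t) = χ t * f g)
    (hJ : ∀ x ∈ RootsJ cs h (Jx cs h X ρ), ∀ u ∈ X x, ∀ g, f (g * u) = f g) (hf1 : f 1 = 1)
    (h0 : ∀ w, w ∉ WJ cs (Jx cs h X ρ) → ∀ m, Rp cs R.nsys w m → f m = 0) {g : Y} (hg : g ∈ GG cs h T X) :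
    φ (ρ g v) = f g := by
  have hv0 : v ≠ 0 := by
    rintro rfl
    rw [map_zero] at h1
    exact zero_ne_one h1
  obtain ⟨a, ha, w, m, hm, u, hu, rfl⟩ := exists_birkhoff R hg
  rw [hr u hu, hl a ha, rho_mul, hv u hu, rho_mul, dual_fx_pair R hφ ha]
  by_cases hw : w ∈ WJ cs (Jx cs h X ρ)
  · -- the elements with the same eigenvalue
    let K : Subgroup Y :=
      { carrier := {y | ∃ c : k, ρ y v = c • v ∧ ∀ g, f (g * y) = c * f g}
        one_mem' := ⟨1, by rw [rho_one, one_smul], fun g => by rw [mul_one, one_mul]⟩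
        mul_mem' := by
          rintro y z ⟨c, hc, hc'⟩ ⟨d, hd, hd'⟩
          refine ⟨d * c, by rw [rho_mul, hd, map_smul, hc, smul_smul], fun g => ?_⟩
          rw [← mul_assoc, hd', hc', mul_assoc]
        inv_mem' := by
          rintro y ⟨c, hc, hc'⟩
          have hc0 : c ≠ 0 := by
            rintro rfl
            rw [zero_smul] at hc
            exact rho_ne_zero ρ _ hv0 hc
          refine ⟨c⁻¹, ?_, fun g => ?_⟩
          · have h2 : ρ y⁻¹ (ρ y v) = v := rho_inv_rho ρ _ _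
            rw [hc, map_smul] at h2
            rw [← h2, smul_smul, inv_mul_cancel₀ hc0, one_smul, h2]
          · have h2 := hc' (g * y⁻¹)
            rw [inv_mul_cancel_right] at h2
            rw [h2, ← mul_assoc, inv_mul_cancel₀ hc0, one_mul] }
    have hK : LJ cs h T X (Jx cs h X ρ) ≤ K := by
      unfold LJ
      refine sup_le (fun t htT => ⟨χ t, hχ t htT, ht t htT⟩) (RGD.Sup_le fun x hx => fun u hu => ?_)
      exact ⟨1, by rw [X_fix_J R hirr hx hu hv, one_smul], fun g => by rw [hJ x hx u hu, one_mul]⟩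
    obtain ⟨c, hc, hc'⟩ := hK (rp_mem_LJ R hw hm)
    have h2 := hc' 1
    rw [one_mul, hf1, mul_one] at h2
    rw [h2, hc, map_smul, h1, smul_eq_mul, mul_one]
  · rw [h0 w hw m hm]
    by_contra hne
    exact hw (mem_WJ_of_pair R hirr hφ hm hv hne)

end Cfsg.Agent.H876.D3
end

-- part: H876/D3/Char
section
/-!
# The coefficients of the representations of `SU_N(q)` (helper876)

* `exists_exp` : characters of the rank one tori;
* `exists_theta` : `χ t = ∏ i, j (dl i t) ^ θ i` on the torus;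
* **`exists_coef`** : `φ (ρ g v) = ∏ i, j (dl i g) ^ θ i`.
-/

set_option autoImplicit false
set_option linter.unusedSectionVars false

namespace Cfsg.Agent.H876.D3

open CoxeterSystem Cfsg.Agent.ChevalleyStructure.CoxeterGeom Cfsg.Agent.Tits.Roots Cfsg.Agent.Nodes.TypeC
open Cfsg.Agent.Nodes.Comb Cfsg.Agent.Nodes.Reps Cfsg.Agent.Nodes.WittRoot Cfsg.Agent.Nodes.BNOf
open Cfsg.Agent.Nodes.WittRGD Cfsg.Agent.Nodes.RGDLib Cfsg.Agent.Nodes.WittAll Cfsg.Agent.Nodes
open Cfsg.Agent.TitsThree Cfsg.Agent.TitsThree.Siegel Cfsg.Agent.TitsThree.WittFrame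
  Cfsg.Agent.TitsThree.WittWeyl Cfsg.Agent.TitsThree.FrameCN Cfsg.Agent.H905.Md
  Cfsg.Agent.Nodes.StabComb Cfsg.Agent.Tits.Core
open Cfsg Cfsg.Geo
open LieClassical.HermBasic Cfsg.Agent.TitsThree.KSideU Cfsg.Agent.TitsThree.KSideUDesc Cfsg.Agent.Nodes.WittU
  Cfsg.Agent.TitsThree.WBridge Cfsg.Agent.TitsThree.SiegelGen Cfsg.Agent.H61.SUCross Cfsg.Agent.H61.SUNode
open Cfsg.Agent.KFacts.MulOdd.Inst (Lv)

/-- characters of a cyclic group embedded in a field -/
theorem exists_exp {A F k : Type*} [Group A] [Finite A] [Field F] [Field k] (j : F →+* k)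
    (μ : A →* F) (hμ : Function.Injective μ) (χ : A →* k) :
    ∃ θ : ℕ, 1 ≤ θ ∧ (∀ b : ℕ, 0 < b → (∀ t, μ t ^ b = 1) → θ ≤ b) ∧ ∀ t, χ t = j (μ t) ^ θ := by
  have hcyc : IsCyclic A := isCyclic_of_injective_ringHom μ hμ
  obtain ⟨g, hg⟩ := IsCyclic.exists_generator (α := A)
  set n := orderOf g with hn
  have hn0 : 0 < n := orderOf_pos g
  have h1 : orderOf (j (μ g)) = n := by
    have := orderOf_injective ((j : F →* k).comp μ) (j.injective.comp hμ) g
    exact this
  have hprim : IsPrimitiveRoot (j (μ g)) n := by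
    rw [← h1]
    exact IsPrimitiveRoot.orderOf _
  have h2 : χ g ^ n = 1 := by rw [← map_pow, pow_orderOf_eq_one, map_one]
  have : NeZero n := ⟨hn0.ne'⟩
  obtain ⟨i, hi, he⟩ := hprim.eq_pow_of_pow_eq_one h2
  have key : ∀ θ : ℕ, j (μ g) ^ θ = χ g → ∀ t, χ t = j (μ t) ^ θ := by
    intro θ hθ t
    obtain ⟨a, rfl⟩ := mem_powers_iff_mem_zpowers.2 (hg t)
    change χ (g ^ a) = j (μ (g ^ a)) ^ θ
    rw [map_pow, map_pow, map_pow, ← hθ, ← pow_mul, ← pow_mul, mul_comm]
  have hle : ∀ b : ℕ, 0 < b → (∀ t, μ t ^ b = 1) → n ≤ b := by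
    intro b hb h
    refine Nat.le_of_dvd hb (orderOf_dvd_of_pow_eq_one (hμ ?_))
    rw [map_pow, map_one, h g]
  by_cases hi0 : i = 0
  · refine ⟨n, hn0, hle, key n ?_⟩
    rw [hprim.pow_eq_one, ← he, hi0, pow_zero]
  · exact ⟨i, Nat.one_le_iff_ne_zero.2 hi0, fun b hb h => hi.le.trans (hle b hb h), key i he⟩

variable {K : Type} [Field K] [Fintype K] {N q m : ℕ} {hK : Fintype.card K = q ^ 2} (hN : 3 ≤ N)
  (W : WFrame (PU hK N) m)

/-- the leading minors of an element of `SU` -/
noncomputable def dl (i : Fin m) (g : SU N K q) : K := Dl (toFrame W) true i (toLin K q N g)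

variable {W}

theorem iso_toLin (g : SU N K q) : (HU hK N).IsIso (toLin K q N g) := isIso_IU hK ⟨g, rfl⟩

theorem dl_one (i : Fin m) : dl W i 1 = 1 := by
  unfold dl
  rw [map_one]
  exact Dl_one i

section roots

variable {Wc : Type*} [Group Wc] {cs : CoxeterSystem (CoxeterMatrix.B m) Wc}

theorem dl_mul_right {x : Fin m → ℤ} (hx : IsRoot cs (isCartan m) x) {i : Fin m} (h0 : 0 ≤ x i) {u : SU N K q}
    (hu : u ∈ WittModel.X (modelSU hK hN W) x) (g : SU N K q) : dl W i (g * u) = dl W i g := by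
  rw [X_eq] at hu
  unfold dl
  rw [map_mul]
  exact rg_le_KD (Fr := toFrame W) (s := true) hx (by simpa only [sgn, ↓ _root_.reduceIte, _root_.one_mul] using h0) hu _

end roots

theorem dl_mul_T {t : SU N K q} (ht : t ∈ WittModel.T (modelSU hK hN W)) (i : Fin m) (g : SU N K q) :
    dl W i (g * t) = dl W i g * dl W i t := by
  unfold dl
  rw [map_mul]
  exact Dl_mul_diag' (l := fun a => ((chi hN W a ⟨t, ht⟩ : Kˣ) : K)) (fun a _ => apply_e hN W a ⟨t, ht⟩) _

theorem dl_T_ne {t : SU N K q} (ht : t ∈ WittModel.T (modelSU hK hN W)) (i : Fin m) : dl W i t ≠ 0 := by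
  intro h0
  have h1 := dl_mul_T hN ht i t⁻¹
  rw [inv_mul_cancel, dl_one, h0, mul_zero] at h1
  exact one_ne_zero h1

/-- the torus of a node -/
noncomputable abbrev Tn (hN : 3 ≤ N) (W : WFrame (PU hK N) m) (i : Fin m) : Subgroup (SU N K q) :=
  WittModel.T (modelSU hK hN W) ⊓ Lv (WittModel.X (modelSU hK hN W)) i

theorem dl_Tn_ne {i a : Fin m} (ha : a ≠ i) {t : SU N K q} (ht : t ∈ Tn hN W i) : dl W a t = 1 := by
  let cs := (CoxeterMatrix.B m).toCoxeterSystem
  have h1 : toLin K q N t ∈ KD (toFrame W) true a := by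
    have h2 := (Subgroup.mem_inf.1 ht).2
    have h3 : Lv (WittModel.X (modelSU hK hN W)) i ≤ (KD (toFrame W) true a).comap (toLin K q N) := by
      refine sup_le ?_ ?_
      · intro u hu
        rw [X_eq] at hu
        exact rg_le_KD (Fr := toFrame W) (s := true) (isRoot_sr cs (isCartan m) i) (by
          rw [sr, Pi.single_eq_of_ne ha]; simp) hu
      · intro u hu
        rw [X_eq] at hu
        exact rg_le_KD (Fr := toFrame W) (s := true) (isRoot_sr cs (isCartan m) i).neg (by
          rw [Pi.neg_apply, sr, Pi.single_eq_of_ne ha]; simp) hu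
    exact h3 h2
  have h2 := h1 1
  rw [one_mul, Dl_one] at h2
  exact h2

theorem dl_Tn_self {i : Fin m} {t : SU N K q} (ht : t ∈ Tn hN W i) :
    toLin K q N t (W.e i) = dl W i t • W.e i := by
  have hT := (Subgroup.mem_inf.1 ht).1
  have hL := (Subgroup.mem_inf.1 ht).2
  rw [Lv_eq] at hL
  have h1 := apply_e hN W i ⟨t, hT⟩
  have h2 : dl W i t = ((chi hN W i ⟨t, hT⟩ : Kˣ) : K) := by
    have h3 := Dl_mul_diag (Fr := toFrame W) (s := true) (i := i) (t := toLin K q N t)
      (l := fun a => if a = i then ((chi hN W i ⟨t, hT⟩ : Kˣ) : K) else 1) (fun a ha => by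
        by_cases h4 : a = i
        · rw [if_pos h4, h4]; exact h1
        · rw [if_neg h4, one_smul]
          exact fix_of_mem (lt_of_le_of_ne ha h4) hL) 1
    rw [one_mul, Dl_one, mul_one] at h3
    unfold dl
    rw [h3, Finset.prod_eq_single ⟨i, le_rfl⟩]
    · rw [if_pos rfl]
    · rintro ⟨a, ha⟩ _ h4
      rw [if_neg]
      exact fun h5 => h4 (Subtype.ext h5)
    · intro h4; exact absurd (Finset.mem_univ _) h4
  rw [h2]
  exact h1

theorem dl_Tn_inj (hW : Kind W) {i : Fin m} {t : SU N K q} (ht : t ∈ Tn hN W i) (h1 : dl W i t = 1) : t = 1 := by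
  have hT := (Subgroup.mem_inf.1 ht).1
  have hL := (Subgroup.mem_inf.1 ht).2
  rw [Lv_eq] at hL
  rw [T_eq] at hT
  have h2 := dl_Tn_self hN ht
  rw [h1, one_smul] at h2
  have h3 := eq_one_of W hW i hL hT.2 h2
  apply toLin_injective
  rw [h3, map_one]

theorem dl_Tn_last (hV0 : W.V0 = ⊥) {i : Fin m} (hi : ¬ (i : ℕ) + 1 < m) {t : SU N K q} (ht : t ∈ Tn hN W i) :
    dl W i t ^ q = dl W i t := by
  have hL := (Subgroup.mem_inf.1 ht).2
  rw [Lv_eq] at hL
  have h2 := dl_Tn_self hN ht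
  obtain ⟨δ, hδ, hδ0⟩ := exists_delta hK
  have hL' : toLin K q N t ∈ Nv (toFrame W) i := hL
  rw [Nv_eq_ZG hi] at hL'
  obtain ⟨A, hA⟩ := Cfsg.Agent.H61.LastEven.exists_rel hV0 hδ hδ0 hL'
  have e1 := Cfsg.Agent.H61.LastEven.indep (W := W) (i := i) hδ0 ((A 0 0 : K) - dl W i t) (A 1 0 : K) (by
    have := hA.fst
    rw [map_smul, h2, ← sub_eq_zero] at this
    rw [← neg_eq_zero, ← this]; module)
  rw [← sub_eq_zero.1 e1.1]
  exact (A 0 0).2

theorem two_le_q {K : Type*} [Field K] [Fintype K] {q : ℕ} (hK : Fintype.card K = q ^ 2) : 2 ≤ q := by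
  have h1 := Fintype.one_lt_card (α := K)
  rw [hK] at h1
  by_contra h2
  have h3 : q ≤ 1 := by omega
  interval_cases q <;> omega

/-- the bounds of the exponents -/
structure Bd (W : WFrame (PU hK N) m) (J : Set (Fin m)) (θ : Fin m → ℕ) : Prop where
  zero : ∀ i ∈ J, θ i = 0
  pos : ∀ i, i ∉ J → θ i ≠ 0
  le : ∀ i, θ i ≤ q ^ 2 - 1
  last : W.V0 = ⊥ → ∀ i : Fin m, ¬ (i : ℕ) + 1 < m → θ i ≤ q - 1

/-- **The characters of the torus.** -/
theorem exists_theta (hW : Kind W) (hm : 0 < m) {p : ℕ} [Fact p.Prime] [CharP K p] {k : Type*} [Field k]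
    (j : K →+* k) {χ : SU N K q → k} (hχ1 : χ 1 = 1)
    (hχ : ∀ s ∈ WittModel.T (modelSU hK hN W), ∀ t ∈ WittModel.T (modelSU hK hN W), χ (s * t) = χ s * χ t)
    (J : Set (Fin m)) (hJ : ∀ i ∈ J, ∀ t ∈ Tn hN W i, χ t = 1) :
    ∃ θ : Fin m → ℕ, Bd W J θ ∧ ∀ t ∈ WittModel.T (modelSU hK hN W), χ t = ∏ i, j (dl W i t) ^ θ i := by
  classical
  have hq : 2 ≤ q := two_le_q hK
  have hq2 : 0 < q ^ 2 - 1 := by
    have : 2 ^ 2 ≤ q ^ 2 := Nat.pow_le_pow_left hq 2
    omega
  have hTle : ∀ i, Tn hN W i ≤ WittModel.T (modelSU hK hN W) := fun i => inf_le_left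
  -- the rank one tori
  have h1 : ∀ i : Fin m, ∃ θ : ℕ, 1 ≤ θ ∧ θ ≤ q ^ 2 - 1 ∧ (W.V0 = ⊥ → ¬ (i : ℕ) + 1 < m → θ ≤ q - 1) ∧
      ∀ t ∈ Tn hN W i, χ t = j (dl W i t) ^ θ := by
    intro i
    let μ : Tn hN W i →* K :=
      { toFun := fun t => dl W i t.1
        map_one' := dl_one i
        map_mul' := fun s t => dl_mul_T hN (hTle i t.2) i s.1 }
    let χ' : Tn hN W i →* k :=
      { toFun := fun t => χ t.1
        map_one' := hχ1
        map_mul' := fun s t => hχ _ (hTle i s.2) _ (hTle i t.2) }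
    have hμ : Function.Injective μ := by
      intro s t hst
      have h2 : μ (s * t⁻¹) = 1 := by rw [map_mul, hst, ← map_mul, mul_inv_cancel, map_one]
      have h3 := dl_Tn_inj hN hW (s * t⁻¹).2 h2
      exact mul_inv_eq_one.1 (Subtype.ext h3)
    have hne : ∀ t, μ t ≠ 0 := fun t => dl_T_ne hN (hTle i t.2) i
    obtain ⟨θ, h2, h3, h4⟩ := exists_exp j μ hμ χ'
    refine ⟨θ, h2, h3 _ hq2 fun t => ?_, fun hV0 hi => h3 _ (by omega) fun t => ?_, fun t ht => h4 ⟨t, ht⟩⟩
    · rw [← hK]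
      exact FiniteField.pow_card_sub_one_eq_one _ (hne t)
    · have h5 : μ t ^ q = μ t := dl_Tn_last hN hV0 hi t.2
      have h6 : μ t ^ (q - 1) * μ t = 1 * μ t := by
        rw [← pow_succ, Nat.sub_add_cancel (by omega), h5, one_mul]
      exact mul_right_cancel₀ (hne t) h6
  choose θ' hθ1 hθ2 hθ3 hθ4 using h1
  refine ⟨fun i => if i ∈ J then 0 else θ' i, ⟨?_, ?_, ?_, ?_⟩, ?_⟩
  · intro i hi
    simp only [if_pos hi]
  · intro i hi
    simp only [if_neg hi]
    have := hθ1 i
    omega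
  · intro i
    split_ifs
    · exact Nat.zero_le _
    · exact hθ2 i
  · intro hV0 i hi
    split_ifs
    · exact Nat.zero_le _
    · exact hθ3 i hV0 hi
  · set θ : Fin m → ℕ := fun i => if i ∈ J then 0 else θ' i with hθ
    have hmul : ∀ s, ∀ t ∈ WittModel.T (modelSU hK hN W), ∏ i, j (dl W i (s * t)) ^ θ i =
        (∏ i, j (dl W i s) ^ θ i) * ∏ i, j (dl W i t) ^ θ i := by
      intro s t ht
      rw [← Finset.prod_mul_distrib]
      refine Finset.prod_congr rfl fun i _ => ?_
      rw [dl_mul_T hN ht, map_mul, mul_pow]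
    have hone : ∏ i : Fin m, j (dl W i (1 : SU N K q)) ^ θ i = 1 :=
      Finset.prod_eq_one fun i _ => by rw [dl_one, map_one, one_pow]
    let S : Subgroup (SU N K q) :=
      { carrier := {t | t ∈ WittModel.T (modelSU hK hN W) ∧ χ t = ∏ i, j (dl W i t) ^ θ i}
        one_mem' := ⟨one_mem _, by rw [hχ1, hone]⟩
        mul_mem' := by
          rintro s t ⟨hs, es⟩ ⟨ht, et⟩
          exact ⟨mul_mem hs ht, by rw [hχ s hs t ht, hmul s t ht, es, et]⟩
        inv_mem' := by
          rintro t ⟨ht, et⟩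
          refine ⟨inv_mem ht, ?_⟩
          have h2 := hχ t ht t⁻¹ (inv_mem ht)
          have h3 := hmul t t⁻¹ (inv_mem ht)
          rw [mul_inv_cancel, hχ1] at h2
          rw [mul_inv_cancel, hone, ← et] at h3
          have h4 : χ t ≠ 0 := by
            intro h0
            rw [h0, zero_mul] at h2
            exact one_ne_zero h2
          exact mul_left_cancel₀ h4 (h2.symm.trans h3) }
    obtain ⟨p0, hp0, -⟩ := exists_adm hK W
    have hA : AmbT (toFrame W) p (modelSU hK hN W).I := AmbT.of_amb (amb_U hK W) p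
    have : Finite (CoxeterMatrix.B m).Group := finite_W (CoxeterMatrix.B m).toCoxeterSystem
    have R := rgdC_model (modelSU hK hN W) hA hp0 (CoxeterMatrix.B m).toCoxeterSystem
    have h2 := KFacts.MulOdd.Shrink.torus_le R (WittModel.G1_eq_top _ hm _)
    have h3 : KFacts.MulOdd.Shrink.TT (WittModel.T (modelSU hK hN W)) (WittModel.X (modelSU hK hN W)) ≤ S := by
      refine iSup_le fun i => ?_
      intro t ht
      have ht' : t ∈ Tn hN W i := ht
      refine ⟨hTle i ht', ?_⟩
      rw [Finset.prod_eq_single i]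
      · by_cases hi : i ∈ J
        · rw [hJ i hi t ht', hθ]
          simp only [if_pos hi, pow_zero]
        · rw [hθ4 i t ht', hθ]
          simp only [if_neg hi]
      · intro a _ ha
        rw [dl_Tn_ne hN ha ht', map_one, one_pow]
      · intro h4; exact absurd (Finset.mem_univ _) h4
    exact fun t ht => (h3 (h2 ht)).2

section rep

open Cfsg.Agent.Omega.CR Cfsg.Agent.Omega.FOne.Lift.Sd Cfsg.Agent.Nodes.Bruhat Cfsg.Agent.Nodes.OppDec

variable {k : Type*} [Field k] {V : Type*} [AddCommGroup V] [Module k V]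

/-- the coefficient function -/
noncomputable def cf (W : WFrame (PU hK N) m) (j : K →+* k) (θ : Fin m → ℕ) (g : SU N K q) : k :=
  ∏ i, j (dl W i g) ^ θ i

/-- **The coefficients of the representations of `SU_N(q)`.** -/
theorem exists_coef (p : ℕ) [Fact p.Prime] [CharP K p] [CharP k p] [IsAlgClosed k] [FiniteDimensional k V]
    [Nontrivial V] (hW : Kind W) (hm : 0 < m) (j : K →+* k) (ρ : SU N K q →* Module.End k V)
    (hirr : ∀ L : Submodule k V, Ivt ρ ⊤ L → L = ⊥ ∨ L = ⊤) :
    ∃ (J : Set (Fin m)) (θ : Fin m → ℕ), Bd W J θ ∧ (Module.finrank k V ≠ 1 → ∃ i, i ∉ J) ∧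
      ∃ (v : V) (φ : Module.Dual k V), v ≠ 0 ∧ v ∈ fx ρ (RGD.Sup (WittModel.X (modelSU hK hN W))
        (RGD.Pos (CoxeterMatrix.B m).toCoxeterSystem (isCartan m))) ∧
      (∀ t ∈ WittModel.T (modelSU hK hN W), ρ t v = cf W j θ t • v) ∧ (∀ g, φ (ρ g v) = cf W j θ g) := by
  classical
  obtain ⟨p0, hp0, -⟩ := exists_adm hK W
  have hA : AmbT (toFrame W) p (modelSU hK hN W).I := AmbT.of_amb (amb_U hK W) p
  have : Finite (CoxeterMatrix.B m).Group := finite_W (CoxeterMatrix.B m).toCoxeterSystem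
  have R := rgdC_model (modelSU hK hN W) hA hp0 (CoxeterMatrix.B m).toCoxeterSystem
  have hG : GG (CoxeterMatrix.B m).toCoxeterSystem (isCartan m) (WittModel.T (modelSU hK hN W))
      (WittModel.X (modelSU hK hN W)) = ⊤ := gg_top (WittModel.G1_eq_top _ hm _)
  have hirr' : ∀ L : Submodule k V, Ivt ρ (GG (CoxeterMatrix.B m).toCoxeterSystem (isCartan m)
      (WittModel.T (modelSU hK hN W)) (WittModel.X (modelSU hK hN W))) L → L = ⊥ ∨ L = ⊤ := by
    rw [hG]; exact hirr
  have hT := modelT_comm (M := modelSU hK hN W) hA (kd_su hW)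
  obtain ⟨c, hc, hc0, χ, hχ⟩ := exists_chi R hirr' hT
  set J := Jx (CoxeterMatrix.B m).toCoxeterSystem (isCartan m) (WittModel.X (modelSU hK hN W)) ρ with hJ
  -- the character
  have hinj : ∀ a b : k, a • c = b • c → a = b := by
    intro a b hab
    rw [← sub_eq_zero, ← sub_smul, smul_eq_zero] at hab
    exact sub_eq_zero.1 (hab.resolve_right hc0)
  have hχ1 : χ 1 = 1 := hinj _ _ (by rw [← hχ 1 (one_mem _), rho_one, one_smul])
  have hχm : ∀ s ∈ WittModel.T (modelSU hK hN W), ∀ t ∈ WittModel.T (modelSU hK hN W), χ (s * t) = χ s * χ t := by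
    intro s hs t ht
    apply hinj
    rw [← hχ _ (mul_mem hs ht), rho_mul, hχ t ht, map_smul, hχ s hs, smul_smul, mul_comm]
  have hχJ : ∀ i ∈ J, ∀ t ∈ Tn hN W i, χ t = 1 := by
    intro i hi t ht
    apply hinj
    rw [← hχ t (Subgroup.mem_inf.1 ht).1, one_smul]
    have h1 : c ∈ fx ρ (Lv (WittModel.X (modelSU hK hN W)) i) := by
      unfold Lv
      rw [fx_sup]
      exact ⟨fun u hu => X_fix R ρ hc i hu, fun u hu => hi u hu c hc⟩
    exact h1 t (Subgroup.mem_inf.1 ht).2
  obtain ⟨θ, hB, hθ⟩ := exists_theta hN hW hm j hχ1 hχm J hχJ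
  obtain ⟨φ₀, hφ₀, hne⟩ := exists_pair_D R hirr' hc hc0
  refine ⟨J, θ, hB, ?_, c, (φ₀ c)⁻¹ • φ₀, hc0, hc, fun t ht => ?_, fun g => ?_⟩
  · intro h1
    by_contra hcon
    push Not at hcon
    have h2 := D_eq_top R hirr' hcon
    have h3 := finrank_D R hirr' hT
    rw [h2, finrank_top] at h3
    exact h1 h3
  · rw [hχ t ht, hθ t ht]
    rfl
  · -- the comparison
    have hright : ∀ u ∈ RGD.Sup (WittModel.X (modelSU hK hN W))
        (RGD.Pos (CoxeterMatrix.B m).toCoxeterSystem (isCartan m)), ∀ i, ∀ g, dl W i (g * u) = dl W i g := by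
      intro u hu i
      let S : Subgroup (SU N K q) := (KD (toFrame W) true i).comap (toLin K q N)
      have h1 : RGD.Sup (WittModel.X (modelSU hK hN W))
          (RGD.Pos (CoxeterMatrix.B m).toCoxeterSystem (isCartan m)) ≤ S := by
        refine RGD.Sup_le fun x hx => ?_
        intro u hu
        rw [X_eq] at hu
        exact rg_le_KD (Fr := toFrame W) (s := true) hx.1 (by simpa only [sgn, ↓ _root_.reduceIte, _root_.one_mul, _root_.Pi.zero_apply] using hx.2 i) hu
      intro g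
      unfold dl
      rw [map_mul]
      exact h1 hu _
    have hleft : ∀ u ∈ UN (CoxeterMatrix.B m).toCoxeterSystem (isCartan m) (WittModel.X (modelSU hK hN W)),
        ∀ i, ∀ g, dl W i (u * g) = dl W i g := by
      intro u hu i
      let S : Subgroup (SU N K q) := (KD (toFrame W) false i).comap (toLin K q N)
      have h1 : UN (CoxeterMatrix.B m).toCoxeterSystem (isCartan m) (WittModel.X (modelSU hK hN W)) ≤ S := by
        refine RGD.Sup_le fun x hx => ?_
        intro u hu
        rw [X_eq] at hu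
        exact rg_le_KD (Fr := toFrame W) (s := false) hx.1 (by simpa only [sgn, _root_.Bool.false_eq_true, ↓ _root_.reduceIte, _root_.Int.reduceNeg, _root_.neg_mul, _root_.one_mul, _root_.Int.neg_nonneg, _root_.Pi.zero_apply] using hx.2 i) hu
      intro g
      unfold dl
      rw [map_mul]
      exact Dl_mul_left rfl (iso_toLin g) (iso_toLin u) (h1 hu)
    refine coef_eq R hirr' hc (φ := (φ₀ c)⁻¹ • φ₀) (Submodule.smul_mem _ _ hφ₀) ?_ (χ := χ) hχ (f := cf W j θ)
      ?_ ?_ ?_ ?_ ?_ ?_ ?_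
    · rw [LinearMap.smul_apply, smul_eq_mul, inv_mul_cancel₀ hne]
    · intro a ha g
      exact Finset.prod_congr rfl fun i _ => by rw [hleft a ha]
    · intro a ha g
      exact Finset.prod_congr rfl fun i _ => by rw [hright a ha]
    · intro t ht g
      rw [hθ t ht, mul_comm]
      unfold cf
      rw [← Finset.prod_mul_distrib]
      refine Finset.prod_congr rfl fun i _ => ?_
      rw [dl_mul_T hN ht, map_mul, mul_pow]
    · intro x hx u hu g
      refine Finset.prod_congr rfl fun i _ => ?_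
      by_cases hi : i ∈ J
      · rw [hB.zero i hi, pow_zero, pow_zero]
      · rw [dl_mul_right hN hx.1 (hx.2 i hi).ge hu]
    · exact Finset.prod_eq_one fun i _ => by rw [dl_one, map_one, one_pow]
    · intro w hw y hy
      by_contra h0
      apply hw
      have h1 : (modelSU hK hN W).φ ⟨toLin K q N y, y, rfl⟩ = y := by
        apply toLin_injective
        exact toLin_ofRange _
      refine mem_WJ_of_Dl (modelSU hK hN W) hA hp0 R.nsys (g := toLin K q N y) ⟨y, rfl⟩ ?_ (by rw [h1]; exact hy) ?_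
      · intro g' hg' e
        exact congrArg Subtype.val ((ofRange K q N).injective e)
      · intro i hi h2
        apply h0
        refine Finset.prod_eq_zero (Finset.mem_univ i) ?_
        change j (Dl (toFrame W) true i (toLin K q N y)) ^ θ i = 0
        rw [h2, map_zero, zero_pow (hB.pos i hi)]
    · rw [hG]; trivial

end rep

end Cfsg.Agent.H876.D3
end

-- part: H876/D3/Witt
section
/-!
# Partial frames (helper876)

* `PFr hK r u` : the `u a`, `a < r`, are isotropic, mutually orthogonal and independent;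
* `exists_su` : there are `g ∈ SU` and `c ≠ 0` with `g e_a = u a` for `a < r`, `a ≠ 0`, `g e_0 = c u 0`.
-/

set_option autoImplicit false
set_option linter.unusedSectionVars false

namespace Cfsg.Agent.H876.D3

open Cfsg Cfsg.Geo Matrix
open LieClassical.HermBasic LieClassical.HermSiegel Cfsg.Agent.TitsThree.KSideU Cfsg.Agent.TitsThree.KSideUDesc
  Cfsg.Agent.TitsThree.WBridge Cfsg.Agent.TitsThree.SiegelGen Cfsg.Agent.TitsThree.Siegel
open Cfsg.Agent.ClassicalGeometry.UnitTransv (rankOne rankOne_mulVec det_rankOne)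

variable {K : Type} [Field K] [Fintype K] {N q m : ℕ} (hK : Fintype.card K = q ^ 2)

theorem exists_hilbert (hK : Fintype.card K = q ^ 2) {D : K} (hD : D ^ (q + 1) = 1) :
    ∃ c : K, c ≠ 0 ∧ c ^ (q - 1) = D := by
  have hq : 2 ≤ q := two_le_q hK
  have hD0 : D ≠ 0 := by
    rintro rfl
    rw [zero_pow (by omega)] at hD
    exact zero_ne_one hD
  obtain ⟨g, hg⟩ := IsCyclic.exists_generator (α := Kˣ)
  obtain ⟨k, hk⟩ := mem_powers_iff_mem_zpowers.2 (hg (Units.mk0 D hD0))
  have hk' : g ^ k = Units.mk0 D hD0 := hk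
  have hord : orderOf g = (q + 1) * (q - 1) := by
    rw [orderOf_eq_card_of_forall_mem_zpowers hg, card_units_eq hK]
  have h1 : g ^ (k * (q + 1)) = 1 := by
    rw [pow_mul, hk']
    ext
    push_cast
    exact hD
  have h2 := orderOf_dvd_of_pow_eq_one h1
  rw [hord, mul_comm k] at h2
  obtain ⟨l, rfl⟩ := Nat.dvd_of_mul_dvd_mul_left (Nat.succ_pos q) h2
  refine ⟨((g ^ l : Kˣ) : K), Units.ne_zero _, ?_⟩
  have h3 : (g ^ l) ^ (q - 1) = Units.mk0 D hD0 := by rw [← pow_mul, mul_comm l, hk']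
  have h4 := congrArg Units.val h3
  push_cast at h4
  exact h4

theorem li_of_det {ι : Type*} [Fintype ι] [DecidableEq ι] {x w : ι → Fin N → K}
    (h : (Matrix.of fun a b => hermForm N K q (x a) (w b)).det ≠ 0) : LinearIndependent K x := by
  rw [Fintype.linearIndependent_iff]
  intro c hc
  have h1 : c ᵥ* (Matrix.of fun a b => hermForm N K q (x a) (w b)) = 0 := by
    ext b
    simp only [Matrix.vecMul, dotProduct, Matrix.of_apply, Pi.zero_apply]
    have h2 : hermForm N K q (∑ a, c a • x a) (w b) = 0 := by rw [hc]; exact herm_zero_left _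
    rw [← h2]
    have key : ∀ S : Finset ι, hermForm N K q (∑ a ∈ S, c a • x a) (w b) =
        ∑ a ∈ S, c a * hermForm N K q (x a) (w b) := by
      intro S
      classical
      induction S using Finset.induction_on with
      | empty => rw [Finset.sum_empty, Finset.sum_empty]; exact herm_zero_left _
      | insert a S ha ih => rw [Finset.sum_insert ha, Finset.sum_insert ha, herm_add_left, herm_smul_left, ih]
    exact (key _).symm
  have h2 := Matrix.eq_zero_of_vecMul_eq_zero h h1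
  intro a
  exact congrFun h2 a

/-- a partial frame -/
structure PFr (q r : ℕ) (u : Fin m → Fin N → K) : Prop where
  iso : ∀ a b : Fin m, (a : ℕ) < r → (b : ℕ) < r → hermForm N K q (u a) (u b) = 0
  li : LinearIndependent K (fun a : {a : Fin m // (a : ℕ) < r} => u a.1)

variable {hK}

theorem herm_span {ι : Type*} {x : ι → Fin N → K} (h : ∀ a b, hermForm N K q (x a) (x b) = 0) {v w : Fin N → K}
    (hK : Fintype.card K = q ^ 2)
    (hv : v ∈ Submodule.span K (Set.range x)) (hw : w ∈ Submodule.span K (Set.range x)) :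
    hermForm N K q v w = 0 := by
  induction hv using Submodule.span_induction with
  | mem v hv =>
    obtain ⟨a, rfl⟩ := hv
    induction hw using Submodule.span_induction with
    | mem w hw => obtain ⟨b, rfl⟩ := hw; exact h a b
    | zero => exact (HU hK N).zero_right _
    | add w w' _ _ h1 h2 => rw [herm_add_right hK, h1, h2, add_zero]
    | smul c w _ h1 => rw [herm_smul_right, h1, mul_zero]
  | zero => exact (HU hK N).zero_left _
  | add v v' _ _ h1 h2 => rw [herm_add_left, h1, h2, add_zero]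
  | smul c v _ h1 => rw [herm_smul_left, h1, mul_zero]

/-- **Witt's theorem.** -/
theorem exists_gu_of_li {ι : Type*} [Fintype ι] {x u : ι → Fin N → K} (hK : Fintype.card K = q ^ 2)
    (hx : LinearIndependent K x) (hu : LinearIndependent K u)
    (hxx : ∀ a b, hermForm N K q (x a) (x b) = 0) (huu : ∀ a b, hermForm N K q (u a) (u b) = 0) :
    ∃ g ∈ GU N K q, ∀ a, (g : Matrix (Fin N) (Fin N) K) *ᵥ x a = u a := by
  classical
  let b := Module.Basis.span hx
  let f : Submodule.span K (Set.range x) →ₗ[K] (Fin N → K) := b.constr K u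
  have hb : ∀ a, (b a : Fin N → K) = x a := fun a =>
    congrArg Subtype.val (Module.Basis.span_apply hx a)
  have hf : ∀ a, f (b a) = u a := fun a => b.constr_basis K u a
  have hfx : ∀ v, f v = ∑ a, b.repr v a • u a := by
    intro v
    conv_lhs => rw [← b.sum_repr v, map_sum]
    exact Finset.sum_congr rfl fun a _ => by rw [map_smul, hf]
  have hinj : Function.Injective f := by
    rw [injective_iff_map_eq_zero]
    intro v hv
    rw [hfx] at hv
    have h1 := Fintype.linearIndependent_iff.1 hu _ hv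
    rw [← b.sum_repr v]
    exact Finset.sum_eq_zero fun a _ => by rw [h1 a, zero_smul]
  have hmem : ∀ v, f v ∈ Submodule.span K (Set.range u) := by
    intro v
    rw [hfx]
    exact Submodule.sum_mem _ fun a _ => Submodule.smul_mem _ _ (Submodule.subset_span ⟨a, rfl⟩)
  obtain ⟨g, hg, h1⟩ := exists_gu_extension hK (Submodule.span K (Set.range x)) f hinj fun v v' => by
    rw [herm_span huu hK (hmem v) (hmem v'), herm_span hxx hK v.2 v'.2]
  refine ⟨g, hg, fun a => ?_⟩
  have h2 := h1 (b a)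
  rwa [hb, hf] at h2

/-- correction of the determinant -/
theorem exists_su_scaled (hK : Fintype.card K = q ^ 2) {g : GL (Fin N) K} (hg : g ∈ GU N K q) {e f : Fin N → K}
    (he : hermForm N K q e e = 0) (hf : hermForm N K q f f = 0) (hef : hermForm N K q e f = 1) :
    ∃ (g₁ : SU N K q) (c : K), c ≠ 0 ∧ act g₁ e = c • ((g : Matrix (Fin N) (Fin N) K) *ᵥ e) ∧
      ∀ v, hermForm N K q v e = 0 → hermForm N K q v f = 0 → act g₁ v = (g : Matrix (Fin N) (Fin N) K) *ᵥ v := by
  have hq : 2 ≤ q := two_le_q hK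
  have hD := Cfsg.Agent.ClassicalGeometry.GUBasic.det_pow hK (A := (g : Matrix (Fin N) (Fin N) K)) hg
  obtain ⟨c, hc0, hc⟩ := exists_hilbert hK hD
  have hfe : hermForm N K q f e = 1 := by
    rw [herm_swap hK e f, hef, one_pow]
  have hcq : c ^ q ≠ 0 := pow_ne_zero _ hc0
  set S : Matrix (Fin N) (Fin N) K := rankOne q ((c - 1) • e) f * rankOne q (((c ^ q)⁻¹ - 1) • f) e with hS
  have hSx : ∀ x, S *ᵥ x = x + (hermForm N K q x e * ((c ^ q)⁻¹ - 1)) • f + (hermForm N K q x f * (c - 1)) • e := by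
    intro x
    rw [hS, ← Matrix.mulVec_mulVec, rankOne_mulVec, rankOne_mulVec, herm_add_left, herm_smul_left, herm_smul_left,
      hf, mul_zero, mul_zero, add_zero, smul_smul, smul_smul]
  have hSiso : ∀ x y, hermForm N K q (S *ᵥ x) (S *ᵥ y) = hermForm N K q x y := by
    intro x y
    rw [hSx, hSx]
    simp only [herm_add_left, herm_add_right hK, herm_smul_left, herm_smul_right, he, hf, hef, hfe]
    have e1 : hermForm N K q f y = hermForm N K q y f ^ q := herm_swap hK y f
    have e2 : hermForm N K q e y = hermForm N K q y e ^ q := herm_swap hK y e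
    rw [e1, e2, mul_pow, mul_pow, sub_pow_q hK, sub_pow_q hK, one_pow, inv_pow, pow_q_pow_q hK]
    field_simp
    ring
  have hSdet : S.det = ((g : Matrix (Fin N) (Fin N) K).det)⁻¹ := by
    rw [hS, Matrix.det_mul, det_rankOne, det_rankOne, herm_smul_left, herm_smul_left, hef, hfe, ← hc]
    have h1 : c ^ q = c ^ (q - 1) * c := by rw [← pow_succ, Nat.sub_add_cancel (by omega)]
    rw [h1]
    have h2 : c ^ (q - 1) ≠ 0 := pow_ne_zero _ hc0
    field_simp
    ring
  have hdet0 : (g : Matrix (Fin N) (Fin N) K).det ≠ 0 := by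
    intro h0
    rw [h0, zero_pow (by omega)] at hD
    exact zero_ne_one hD
  have e3 : ∀ u, ((g : Matrix (Fin N) (Fin N) K) * S) *ᵥ u = (g : Matrix (Fin N) (Fin N) K) *ᵥ (S *ᵥ u) :=
    fun u => (Matrix.mulVec_mulVec u _ S).symm
  refine ⟨mkSU ((g : Matrix (Fin N) (Fin N) K) * S) (by rw [Matrix.det_mul, hSdet, mul_inv_cancel₀ hdet0])
    (fun u v => by rw [e3, e3, (mem_GU_iff g).1 hg, hSiso]), c, hc0, ?_, fun v hve hvf => ?_⟩
  · rw [act_def, mat_mkSU, e3, hSx, he, hef, zero_mul, zero_smul, add_zero, one_mul,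
      ← Matrix.mulVec_smul]
    congr 1
    module
  · rw [act_def, mat_mkSU, e3, hSx, hve, hvf, zero_mul, zero_smul, add_zero, zero_mul, zero_smul,
      add_zero]

end Cfsg.Agent.H876.D3
end

-- part: H876/D3/Kern
section
/-!
# The kernel of a representation of `SU_N(q)` (helper876)

* `Gr q i u u' = det (h(u a, u' b))_{a, b ≤ i}`;
* **`exists_kernel`** : vectors `vv u` and functionals `ff u'` for the partial frames with
  `ff u' (vv u) = ∏ i, j (Gr q i u u') ^ θ i`.
-/

set_option autoImplicit false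
set_option linter.unusedSectionVars false

namespace Cfsg.Agent.H876.D3

open Cfsg Cfsg.Geo Matrix
open LieClassical.HermBasic LieClassical.HermSiegel Cfsg.Agent.TitsThree.KSideU Cfsg.Agent.TitsThree.KSideUDesc
  Cfsg.Agent.TitsThree.WBridge Cfsg.Agent.TitsThree.SiegelGen Cfsg.Agent.TitsThree.Siegel Cfsg.Agent.H61.SUCross
  Cfsg.Agent.TitsThree.WittFrame Cfsg.Agent.Omega.CR Cfsg.Agent.Omega.FOne.Lift.Sd Cfsg.Agent.H905.Md
  Cfsg.Agent.Nodes.BNOf Cfsg.Agent.Nodes.TypeC Cfsg.Agent.Nodes.WittAll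

variable {K : Type} [Field K] [Fintype K] {N q m : ℕ} {hK : Fintype.card K = q ^ 2}

/-- the leading minors of two families -/
noncomputable def Gr (q : ℕ) (i : Fin m) (u u' : Fin m → Fin N → K) : K :=
  (Matrix.of fun a b : {a : Fin m // a ≤ i} => hermForm N K q (u a.1) (u' b.1)).det

section

variable (W : WFrame (PU hK N) m)

theorem hb_iso (s : Bool) (a b : Fin m) : hermForm N K q ((toFrame W).b (a, s)) ((toFrame W).b (b, s)) = 0 := by
  have := (toFrame W).hb (a, s) (b, s)
  rw [if_neg (by simp)] at this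
  exact this

theorem hb_pair (s : Bool) (a b : Fin m) :
    hermForm N K q ((toFrame W).b (a, s)) ((toFrame W).b (b, !s)) = if a = b then 1 else 0 := by
  have := (toFrame W).hb (a, s) (b, !s)
  refine (this : _).trans ?_
  by_cases h : a = b
  · subst h
    rw [if_pos ⟨rfl, by simp⟩, if_pos rfl]
    cases s <;> rfl
  · rw [if_neg (fun h1 => h h1.1), if_neg h]

theorem pfr_act (r : ℕ) (s : Bool) (g : SU N K q) : PFr q r (fun a : Fin m => act g ((toFrame W).b (a, s))) := by
  refine ⟨fun a b _ _ => by rw [herm_act, hb_iso], ?_⟩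
  refine li_of_det (q := q) (w := fun a : {a : Fin m // (a : ℕ) < r} => act g ((toFrame W).b (a.1, !s))) ?_
  have h1 : (Matrix.of fun a b : {a : Fin m // (a : ℕ) < r} => hermForm N K q (act g ((toFrame W).b (a.1, s)))
      (act g ((toFrame W).b (b.1, !s)))) = 1 := by
    ext a b
    rw [Matrix.of_apply, herm_act, hb_pair, Matrix.one_apply]
    simp only [Subtype.ext_iff]
  rw [h1, Matrix.det_one]
  exact one_ne_zero

theorem exists_su {r : ℕ} (hr : r ≤ m) (hr0 : 0 < r) {u : Fin m → Fin N → K} (hu : PFr q r u) (s : Bool) :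
    ∃ (g : SU N K q) (c : K), c ≠ 0 ∧
      ∀ a : Fin m, (a : ℕ) < r → act g ((toFrame W).b (a, s)) = (if (a : ℕ) = 0 then c else 1) • u a := by
  have h0 := pfr_act W r s 1
  simp only [act_one] at h0
  obtain ⟨g, hg, h1⟩ := exists_gu_of_li hK h0.li hu.li (fun a b => h0.iso _ _ a.2 b.2)
    (fun a b => hu.iso _ _ a.2 b.2)
  have hm : 0 < m := by omega
  obtain ⟨g₁, c, hc0, h2, h3⟩ := exists_su_scaled hK hg (e := (toFrame W).b (⟨0, hm⟩, s))
    (f := (toFrame W).b (⟨0, hm⟩, !s)) (hb_iso W _ _ _) (by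
      exact hb_iso W (!s) _ _) (by rw [hb_pair, if_pos rfl])
  refine ⟨g₁, c, hc0, fun a ha => ?_⟩
  by_cases ha0 : (a : ℕ) = 0
  · have h4 : a = ⟨0, hm⟩ := Fin.ext ha0
    rw [if_pos ha0, h4, h2, h1 ⟨⟨0, hm⟩, hr0⟩]
  · rw [if_neg ha0, one_smul, h3 _ (hb_iso W _ _ _) (by rw [hb_pair, if_neg (fun h => ha0 (by rw [h]))]),
      h1 ⟨a, ha⟩]

theorem dl_eq (i : Fin m) (g g' : SU N K q) :
    dl W i (g'⁻¹ * g) = Gr q i (fun a => act g (W.e a)) (fun b => act g' (W.f b)) := by
  unfold dl Dl Gr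
  congr 1
  ext a b
  rw [Matrix.of_apply, Matrix.of_apply]
  change hermForm N K q (act (g'⁻¹ * g) (W.e a.1)) (W.f b.1) = _
  rw [act_mul, herm_act_left, inv_inv]

theorem Gr_scale {i : Fin m} {u u' v v' : Fin m → Fin N → K} {c c' : K}
    (h : ∀ a ≤ i, v a = (if (a : ℕ) = 0 then c else 1) • u a)
    (h' : ∀ a ≤ i, v' a = (if (a : ℕ) = 0 then c' else 1) • u' a) :
    Gr q i v v' = c * c' ^ q * Gr q i u u' := by
  have hprod : ∀ d : K, ∏ a : {a : Fin m // a ≤ i}, (if (a.1 : ℕ) = 0 then d else 1) = d := by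
    intro d
    have hm : 0 < m := i.pos
    rw [Finset.prod_eq_single ⟨⟨0, hm⟩, Fin.mk_le_of_le_val (Nat.zero_le _)⟩]
    · rw [if_pos rfl]
    · rintro ⟨a, ha⟩ _ h1
      rw [if_neg]
      intro h2
      exact h1 (Subtype.ext (Fin.ext h2))
    · intro h1; exact absurd (Finset.mem_univ _) h1
  have e1 := Matrix.det_mul_column (fun a : {a : Fin m // a ≤ i} => if (a.1 : ℕ) = 0 then c else 1)
    (Matrix.of fun a b : {a : Fin m // a ≤ i} => (if (b.1 : ℕ) = 0 then c' ^ q else 1) *
      hermForm N K q (u a.1) (u' b.1))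
  have e2 := Matrix.det_mul_row (fun a : {a : Fin m // a ≤ i} => if (a.1 : ℕ) = 0 then c' ^ q else 1)
    (Matrix.of fun a b : {a : Fin m // a ≤ i} => hermForm N K q (u a.1) (u' b.1))
  simp only [Matrix.of_apply] at e1 e2
  rw [hprod] at e1 e2
  rw [e2] at e1
  unfold Gr
  rw [mul_assoc, ← e1]
  congr 1
  ext a b
  rw [Matrix.of_apply, Matrix.of_apply, h a.1 a.2, h' b.1 b.2, herm_smul_left, herm_smul_right]
  split_ifs <;> simp

variable {W}

/-- the coefficient function in terms of the frames -/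
theorem cf_eq {k : Type*} [Field k] (j : K →+* k) {θ : Fin m → ℕ} {r : ℕ} (hθ : ∀ i : Fin m, r ≤ i → θ i = 0)
    {g g' : SU N K q} {c c' : K} {u u' : Fin m → Fin N → K}
    (h : ∀ a : Fin m, (a : ℕ) < r → act g (W.e a) = (if (a : ℕ) = 0 then c else 1) • u a)
    (h' : ∀ a : Fin m, (a : ℕ) < r → act g' (W.f a) = (if (a : ℕ) = 0 then c' else 1) • u' a) :
    cf W j θ (g'⁻¹ * g) = j (c * c' ^ q) ^ (∑ i, θ i) * ∏ i, j (Gr q i u u') ^ θ i := by
  unfold cf
  rw [← Finset.prod_pow_eq_pow_sum, ← Finset.prod_mul_distrib]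
  refine Finset.prod_congr rfl fun i _ => ?_
  by_cases hi : (i : ℕ) < r
  · rw [dl_eq, Gr_scale (c := c) (c' := c') (u := u) (u' := u')
      (fun a ha => h a (lt_of_le_of_lt ha hi)) (fun a ha => h' a (lt_of_le_of_lt ha hi)), map_mul, mul_pow]
  · rw [hθ i (by omega), pow_zero, pow_zero, pow_zero, mul_one]

end

section rep

variable {W : WFrame (PU hK N) m} (hN : 3 ≤ N) {k : Type*} [Field k] {V : Type*} [AddCommGroup V] [Module k V]

/-- the statement of the kernel theorem for the frames of length `r` -/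
structure IsKer (q r : ℕ) (j : K →+* k) (θ : Fin m → ℕ) (vv : (Fin m → Fin N → K) → V)
    (ff : (Fin m → Fin N → K) → Module.Dual k V) : Prop where
  ker : ∀ u u', PFr q r u → PFr q r u' → ff u' (vv u) = ∏ i, j (Gr q i u u') ^ θ i
  span : Submodule.span k (vv '' {u | PFr q r u}) = ⊤
  sep : ∀ w, (∀ u, PFr q r u → ff u w = 0) → w = 0

theorem isKer_of_coef [Nontrivial V] {j : K →+* k} {ρ : SU N K q →* Module.End k V}
    (hirr : ∀ L : Submodule k V, Ivt ρ ⊤ L → L = ⊥ ∨ L = ⊤) {θ : Fin m → ℕ} {v : V} (hv0 : v ≠ 0)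
    {φ : Module.Dual k V} (hφ : ∀ g, φ (ρ g v) = cf W j θ g) {r : ℕ} (hr : r ≤ m) (hr0 : 0 < r)
    (hθ : ∀ i : Fin m, r ≤ i → θ i = 0) : ∃ (vv : (Fin m → Fin N → K) → V) (ff : (Fin m → Fin N → K) → Module.Dual k V), IsKer q r j θ vv ff := by
  classical
  -- the vectors `ρ g v` span, the functionals `φ ρ(g)` separate
  have hspan : ∀ L : Submodule k V, (∀ g, ρ g v ∈ L) → L = ⊤ := by
    intro L hL
    have h1 := hirr (Submodule.span k (Set.range fun g => ρ g v)) (by
      intro x _ w hw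
      induction hw using Submodule.span_induction with
      | mem w hw =>
        obtain ⟨g, rfl⟩ := hw
        refine Submodule.subset_span ⟨x * g, ?_⟩
        exact rho_mul ρ x g v
      | zero => rw [map_zero]; exact zero_mem _
      | add a b _ _ ha hb => rw [map_add]; exact add_mem ha hb
      | smul a b _ hb => rw [map_smul]; exact Submodule.smul_mem _ _ hb)
    rcases h1 with h1 | h1
    · exfalso
      apply hv0
      have h2 : ρ 1 v ∈ Submodule.span k (Set.range fun g => ρ g v) := Submodule.subset_span ⟨1, rfl⟩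
      rwa [h1, Submodule.mem_bot, rho_one] at h2
    · rw [eq_top_iff, ← h1, Submodule.span_le]
      rintro _ ⟨g, rfl⟩
      exact hL g
  have hsep : ∀ w, (∀ g, φ (ρ g w) = 0) → w = 0 := by
    intro w hw
    let L : Submodule k V :=
      { carrier := {w | ∀ g, φ (ρ g w) = 0}
        zero_mem' := fun g => by rw [map_zero, map_zero]
        add_mem' := fun {a b} ha hb g => by rw [map_add, map_add, ha g, hb g, add_zero]
        smul_mem' := fun c a ha g => by rw [map_smul, map_smul, ha g, smul_zero] }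
    have h1 := hirr L (by
      intro x _ w hw g
      rw [← rho_mul]
      exact hw _)
    rcases h1 with h1 | h1
    · have h2 : w ∈ L := hw
      rwa [h1, Submodule.mem_bot] at h2
    · exfalso
      have h2 : v ∈ L := by rw [h1]; trivial
      have h3 : φ (ρ 1 v) = 0 := h2 1
      rw [hφ] at h3
      have h4 : cf W j θ 1 = 1 := Finset.prod_eq_one fun i _ => by rw [dl_one, map_one, one_pow]
      rw [h4] at h3
      exact one_ne_zero h3
  have hex : ∀ (s : Bool) (u : Fin m → Fin N → K), ∃ (g : SU N K q) (c : K), c ≠ 0 ∧ (PFr q r u →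
      ∀ a : Fin m, (a : ℕ) < r → act g ((toFrame W).b (a, s)) = (if (a : ℕ) = 0 then c else 1) • u a) := by
    intro s u
    by_cases hu : PFr q r u
    · obtain ⟨g, c, hc, h1⟩ := exists_su W hr hr0 hu s
      exact ⟨g, c, hc, fun _ => h1⟩
    · exact ⟨1, 1, one_ne_zero, fun h => absurd h hu⟩
  choose ge ce hce hge using hex true
  choose gf cf' hcf hgf using hex false
  set s := ∑ i, θ i with hs
  let vv : (Fin m → Fin N → K) → V := fun u => (j (ce u) ^ s)⁻¹ • ρ (ge u) v
  let ff : (Fin m → Fin N → K) → Module.Dual k V := fun u =>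
    (j (cf' u ^ q) ^ s)⁻¹ • (φ.comp (ρ (gf u)⁻¹ : V →ₗ[k] V))
  have hje : ∀ u, j (ce u) ^ s ≠ 0 := fun u => pow_ne_zero _ ((map_ne_zero j).2 (hce u))
  have hjf : ∀ u, j (cf' u ^ q) ^ s ≠ 0 := fun u => pow_ne_zero _ ((map_ne_zero j).2 (pow_ne_zero _ (hcf u)))
  have hmain : ∀ u u', PFr q r u → PFr q r u' → ff u' (vv u) = ∏ i, j (Gr q i u u') ^ θ i := by
    intro u u' hu hu'
    have h1 : φ (ρ (gf u')⁻¹ (ρ (ge u) v)) = j (ce u * cf' u' ^ q) ^ s * ∏ i, j (Gr q i u u') ^ θ i := by
      rw [← rho_mul, hφ]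
      exact cf_eq j hθ (hge u hu) (hgf u' hu')
    change (j (cf' u' ^ q) ^ s)⁻¹ * φ (ρ (gf u')⁻¹ ((j (ce u) ^ s)⁻¹ • ρ (ge u) v)) = _
    rw [map_smul, map_smul, h1, smul_eq_mul, map_mul, mul_pow]
    have e1 := hje u
    have e2 := hjf u'
    field_simp
  refine ⟨vv, ff, hmain, ?_, ?_⟩
  · refine hspan _ fun y => ?_
    have hy := pfr_act W r true y
    have h1 : vv (fun a : Fin m => act y ((toFrame W).b (a, true))) = ρ y v := by
      rw [← sub_eq_zero]
      refine hsep _ fun g => ?_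
      rw [map_sub, map_sub, sub_eq_zero]
      change φ (ρ g ((j (ce _) ^ s)⁻¹ • ρ (ge _) v)) = _
      rw [map_smul, map_smul, ← rho_mul, ← rho_mul, hφ, hφ, smul_eq_mul]
      have e1 := cf_eq j hθ (g' := g⁻¹) (c' := 1) (u' := fun b => act g⁻¹ (W.f b)) (hge _ hy) (fun a _ => by
        split_ifs <;> rw [one_smul])
      have e2 := cf_eq j hθ (g := y) (g' := g⁻¹) (c := 1) (c' := 1) (u := fun b => act y (W.e b))
        (u' := fun b => act g⁻¹ (W.f b)) (fun a _ => by split_ifs <;> rw [one_smul])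
        (fun a _ => by split_ifs <;> rw [one_smul])
      rw [inv_inv] at e1 e2
      rw [e1, e2, one_pow, mul_one, mul_one, map_one, one_pow, one_mul, inv_mul_cancel_left₀ (hje _)]
      rfl
    rw [← h1]
    exact Submodule.subset_span ⟨_, hy, rfl⟩
  · intro w hw
    refine hsep w fun g => ?_
    have hy := pfr_act W r false g⁻¹
    have h1 : ff (fun a : Fin m => act g⁻¹ ((toFrame W).b (a, false))) = φ.comp (ρ g : V →ₗ[k] V) := by
      have h2 : LinearMap.ker (ff (fun a : Fin m => act g⁻¹ ((toFrame W).b (a, false))) -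
          φ.comp (ρ g : V →ₗ[k] V)) = ⊤ := by
        refine hspan _ fun y => ?_
        rw [LinearMap.mem_ker, LinearMap.sub_apply, sub_eq_zero]
        change (j (cf' _ ^ q) ^ s)⁻¹ * φ (ρ (gf _)⁻¹ (ρ y v)) = φ (ρ g (ρ y v))
        rw [← rho_mul, ← rho_mul, hφ, hφ]
        have e1 := cf_eq j hθ (g := y) (c := 1) (u := fun b => act y (W.e b)) (fun a _ => by
          split_ifs <;> rw [one_smul]) (hgf _ hy)
        have e2 := cf_eq j hθ (g := y) (g' := g⁻¹) (c := 1) (c' := 1) (u := fun b => act y (W.e b))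
          (u' := fun b => act g⁻¹ (W.f b)) (fun a _ => by split_ifs <;> rw [one_smul])
          (fun a _ => by split_ifs <;> rw [one_smul])
        rw [inv_inv] at e2
        rw [e1, e2, one_pow, mul_one, map_one, one_pow, one_mul, one_mul, inv_mul_cancel_left₀ (hjf _)]
        rfl
      rw [LinearMap.ker_eq_top, sub_eq_zero] at h2
      exact h2
    have h3 := hw _ hy
    rw [h1] at h3
    exact h3

end rep

end Cfsg.Agent.H876.D3
end

-- part: H876/D3/Rank
section
/-!
# Lower bounds for the rank of a kernel (helper876)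

`bl κ P Q = ∑ P x * κ x y * Q y`; `Rk κ n` : the rank of `κ` is at least `n`, by dual families.

* `Rk.le_finrank`; `Rk.kron`; `Rk.graded`; `Rk.add_of`;
* `exists_dual_pow` : extraction of monomials.
-/

set_option autoImplicit false
set_option linter.unusedSectionVars false

namespace Cfsg.Agent.H876.D3

section Rk

variable {k : Type*} [Field k] {X Y X' Y' : Type*} [Fintype X] [Fintype Y] [Fintype X'] [Fintype Y']

/-- the bilinear extension of `κ` -/
def bl (κ : X → Y → k) (P : X → k) (Q : Y → k) : k := ∑ x, ∑ y, P x * κ x y * Q y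

theorem bl_kernel_sum {α : Type*} (S : Finset α) (κ : α → X → Y → k) (P : X → k) (Q : Y → k) :
    bl (fun x y => ∑ a ∈ S, κ a x y) P Q = ∑ a ∈ S, bl (κ a) P Q := by
  unfold bl
  simp only [Finset.mul_sum, Finset.sum_mul]
  refine (Finset.sum_congr rfl fun x _ => Finset.sum_comm).trans ?_
  rw [Finset.sum_comm]

theorem bl_sum_left {α : Type*} (S : Finset α) (κ : X → Y → k) (P : α → X → k) (c : α → k) (Q : Y → k) :
    bl κ (fun x => ∑ a ∈ S, c a * P a x) Q = ∑ a ∈ S, c a * bl κ (P a) Q := by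
  unfold bl
  simp only [Finset.mul_sum, Finset.sum_mul]
  refine (Finset.sum_congr rfl fun x _ => Finset.sum_comm).trans ?_
  rw [Finset.sum_comm]
  refine Finset.sum_congr rfl fun a _ => Finset.sum_congr rfl fun x _ => Finset.sum_congr rfl fun y _ => by ring

theorem bl_swap (κ : X → Y → k) (P : X → k) (Q : Y → k) : bl (fun y x => κ x y) Q P = bl κ P Q := by
  unfold bl
  rw [Finset.sum_comm]
  exact Finset.sum_congr rfl fun a _ => Finset.sum_congr rfl fun x _ => by ring

theorem bl_sum_right {α : Type*} (S : Finset α) (κ : X → Y → k) (P : X → k) (Q : α → Y → k) (c : α → k) :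
    bl κ P (fun y => ∑ a ∈ S, c a * Q a y) = ∑ a ∈ S, c a * bl κ P (Q a) := by
  rw [← bl_swap, bl_sum_left]
  exact Finset.sum_congr rfl fun a _ => by rw [bl_swap]

theorem bl_prod (κ : X → Y → k) (κ' : X' → Y' → k) (P : X → k) (P' : X' → k) (Q : Y → k) (Q' : Y' → k) :
    bl (fun (z : X × X') (w : Y × Y') => κ z.1 w.1 * κ' z.2 w.2) (fun z => P z.1 * P' z.2) (fun w => Q w.1 * Q' w.2) =
      bl κ P Q * bl κ' P' Q' := by
  unfold bl
  simp only [Fintype.sum_prod_type, Finset.sum_mul_sum]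
  refine Finset.sum_congr rfl fun x _ => Finset.sum_congr rfl fun x' _ => Finset.sum_congr rfl fun y _ =>
    Finset.sum_congr rfl fun y' _ => by ring

theorem bl_single [DecidableEq X] [DecidableEq Y] (κ : X → Y → k) (x : X) (y : Y) (a b : k) :
    bl κ (Pi.single x a) (Pi.single y b) = a * κ x y * b := by
  unfold bl
  rw [Finset.sum_eq_single x, Finset.sum_eq_single y]
  · rw [Pi.single_eq_same, Pi.single_eq_same]
  · intro z _ hz
    rw [Pi.single_eq_of_ne hz, mul_zero]
  · intro h; exact absurd (Finset.mem_univ _) h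
  · intro z _ hz
    rw [Pi.single_eq_of_ne hz]
    simp only [_root_.MulZeroClass.zero_mul, _root_.Finset.sum_const_zero]
  · intro h; exact absurd (Finset.mem_univ _) h

/-- the rank of `κ` is at least `n` -/
def Rk (κ : X → Y → k) (n : ℕ) : Prop :=
  ∃ (P : Fin n → X → k) (Q : Fin n → Y → k), ∀ i j, bl κ (P i) (Q j) = if i = j then 1 else 0

theorem Rk.mk {κ : X → Y → k} {α : Type*} [Fintype α] [DecidableEq α] (P : α → X → k) (Q : α → Y → k)
    (h : ∀ i j, bl κ (P i) (Q j) = if i = j then 1 else 0) : Rk κ (Fintype.card α) := by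
  let e := Fintype.equivFin α
  refine ⟨fun i => P (e.symm i), fun i => Q (e.symm i), fun i j => ?_⟩
  rw [h]
  simp only [EmbeddingLike.apply_eq_iff_eq]

theorem Rk.of_isUnit {κ : X → Y → k} {α : Type*} [Fintype α] [DecidableEq α] (P : α → X → k) (Q : α → Y → k)
    (h : IsUnit (Matrix.of fun i j => bl κ (P i) (Q j)).det) : Rk κ (Fintype.card α) := by
  set M : Matrix α α k := Matrix.of fun i j => bl κ (P i) (Q j) with hM
  refine Rk.mk P (fun j y => ∑ a, M⁻¹ a j * Q a y) fun i j => ?_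
  rw [bl_sum_right]
  have h1 := congrFun (congrFun (Matrix.mul_nonsing_inv M h) i) j
  rw [Matrix.mul_apply, Matrix.one_apply] at h1
  rw [← h1]
  exact Finset.sum_congr rfl fun a _ => by rw [hM, Matrix.of_apply, mul_comm]

theorem Rk.mono {κ : X → Y → k} {m n : ℕ} (h : m ≤ n) (hn : Rk κ n) : Rk κ m := by
  obtain ⟨P, Q, e⟩ := hn
  refine ⟨fun i => P (Fin.castLE h i), fun i => Q (Fin.castLE h i), fun i j => ?_⟩
  rw [e]
  simp [Fin.ext_iff]

theorem Rk.zero (κ : X → Y → k) : Rk κ 0 := ⟨fun i => i.elim0, fun i => i.elim0, fun i => i.elim0⟩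

theorem Rk.le_finrank {κ : X → Y → k} {V : Type*} [AddCommGroup V] [Module k V] [FiniteDimensional k V]
    {vv : X → V} {ff : Y → Module.Dual k V} (h : ∀ x y, ff y (vv x) = κ x y) {n : ℕ} (hn : Rk κ n) :
    n ≤ Module.finrank k V := by
  obtain ⟨P, Q, e⟩ := hn
  let w : Fin n → V := fun i => ∑ x, P i x • vv x
  let ψ : Fin n → Module.Dual k V := fun j => ∑ y, Q j y • ff y
  have h1 : ∀ i j, ψ j (w i) = if i = j then 1 else 0 := by
    intro i j
    rw [← e i j]
    simp only [w, ψ, bl, LinearMap.sum_apply, LinearMap.smul_apply, map_sum, map_smul, smul_eq_mul, h, Finset.mul_sum]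
    exact Finset.sum_congr rfl fun x _ => Finset.sum_congr rfl fun y _ => by ring
  have h2 : LinearIndependent k w := by
    rw [Fintype.linearIndependent_iff]
    intro g hg j
    have h3 := congrArg (ψ j) hg
    rw [map_sum, map_zero] at h3
    simp only [map_smul, h1, smul_eq_mul] at h3
    simpa only [_root_.mul_ite, _root_.mul_one, _root_.MulZeroClass.mul_zero, _root_.Finset.sum_ite_eq', _root_.Finset.mem_univ, ↓ _root_.reduceIte] using h3
  have h3 := h2.fintype_card_le_finrank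
  rwa [Fintype.card_fin] at h3

theorem Rk.of_sub {κ : X → Y → k} (f : X' → X) (g : Y' → Y) {n : ℕ} (h : Rk (fun x y => κ (f x) (g y)) n) :
    Rk κ n := by
  classical
  obtain ⟨P, Q, e⟩ := h
  refine ⟨fun i x => ∑ x', P i x' * (Pi.single (f x') 1 : X → k) x,
    fun j y => ∑ y', Q j y' * (Pi.single (g y') 1 : Y → k) y, fun i j => ?_⟩
  rw [← e, bl_sum_left]
  have h1 : ∀ x', bl κ (Pi.single (f x') 1 : X → k) (fun y => ∑ y', Q j y' * (Pi.single (g y') 1 : Y → k) y) =
      ∑ y', Q j y' * κ (f x') (g y') := fun x' => by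
    rw [bl_sum_right]
    exact Finset.sum_congr rfl fun y' _ => by rw [bl_single, one_mul, mul_one]
  simp only [h1]
  simp only [bl, Finset.mul_sum]
  exact Finset.sum_congr rfl fun x _ => Finset.sum_congr rfl fun y _ => by ring

theorem Rk.scale {κ κ' : X → Y → k} {a : X → k} {b : Y → k} (ha : ∀ x, a x ≠ 0) (hb : ∀ y, b y ≠ 0)
    (h : ∀ x y, κ' x y = a x * b y * κ x y) {n : ℕ} (hn : Rk κ n) : Rk κ' n := by
  obtain ⟨P, Q, e⟩ := hn
  refine ⟨fun i x => P i x * (a x)⁻¹, fun j y => (b y)⁻¹ * Q j y, fun i j => ?_⟩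
  rw [← e]
  unfold bl
  refine Finset.sum_congr rfl fun x _ => Finset.sum_congr rfl fun y _ => ?_
  rw [h]
  have h1 := ha x
  have h2 := hb y
  field_simp

theorem Rk.congr {κ κ' : X → Y → k} (h : ∀ x y, κ' x y = κ x y) {n : ℕ} (hn : Rk κ n) : Rk κ' n := by
  have h1 : κ' = κ := by ext x y; exact h x y
  rwa [h1]

theorem Rk.swap {κ : X → Y → k} {n : ℕ} (hn : Rk κ n) : Rk (fun y x => κ x y) n := by
  obtain ⟨P, Q, e⟩ := hn
  refine ⟨Q, P, fun i j => ?_⟩
  rw [bl_swap, e]
  simp only [eq_comm]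

theorem Rk.kron {κ : X → Y → k} {κ' : X' → Y' → k} {m n : ℕ} (h : Rk κ m) (h' : Rk κ' n) :
    Rk (fun (z : X × X') (w : Y × Y') => κ z.1 w.1 * κ' z.2 w.2) (m * n) := by
  obtain ⟨P, Q, e⟩ := h
  obtain ⟨P', Q', e'⟩ := h'
  have h1 := Rk.mk (κ := fun (z : X × X') (w : Y × Y') => κ z.1 w.1 * κ' z.2 w.2) (α := Fin m × Fin n)
    (fun a z => P a.1 z.1 * P' a.2 z.2) (fun a z => Q a.1 z.1 * Q' a.2 z.2) (by
      rintro ⟨i, i'⟩ ⟨j, j'⟩
      rw [bl_prod, e, e']
      by_cases h1 : i = j <;> by_cases h2 : i' = j' <;> simp [h1, h2])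
  rwa [Fintype.card_prod, Fintype.card_fin, Fintype.card_fin] at h1

theorem Rk.add_of {κ : X → Y → k} {α β : Type*} [Fintype α] [DecidableEq α] [Fintype β] [DecidableEq β]
    {P : α → X → k} {Q : α → Y → k} {P' : β → X → k} {Q' : β → Y → k}
    (h : ∀ i j, bl κ (P i) (Q j) = if i = j then 1 else 0) (h' : ∀ i j, bl κ (P' i) (Q' j) = if i = j then 1 else 0)
    (h0 : ∀ i j, bl κ (P i) (Q' j) = 0) : Rk κ (Fintype.card α + Fintype.card β) := by
  have h1 := Rk.of_isUnit (κ := κ) (Sum.elim P P') (Sum.elim Q Q') (by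
    have h2 : (Matrix.of fun i j => bl κ (Sum.elim P P' i) (Sum.elim Q Q' j)) =
        Matrix.fromBlocks 1 0 (Matrix.of fun i j => bl κ (P' i) (Q j)) 1 := by
      ext i j
      rcases i with i | i <;> rcases j with j | j <;>
        simp [h, h', h0, Matrix.one_apply]
    rw [h2, Matrix.det_fromBlocks_zero₁₂, Matrix.det_one, Matrix.det_one, one_mul]
    exact isUnit_one)
  rwa [Fintype.card_sum] at h1

theorem Rk.one_of {κ : X → Y → k} (h : ∃ x y, κ x y ≠ 0) : Rk κ 1 := by
  classical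
  obtain ⟨x, y, hxy⟩ := h
  refine ⟨fun _ => Pi.single x 1, fun _ => Pi.single y (κ x y)⁻¹, fun i j => ?_⟩
  rw [bl_single, one_mul, mul_inv_cancel₀ hxy, if_pos (Subsingleton.elim i j)]

end Rk

section Pow

variable {k : Type*} [Field k]

/-- extraction of monomials -/
theorem exists_dual_pow {T : Type*} [Fintype T] (τ : T → k) (hτ : Function.Injective τ) :
    ∃ A : ℕ → T → k, ∀ i < Fintype.card T, ∀ j < Fintype.card T, ∑ t, A i t * τ t ^ j = if i = j then 1 else 0 := by
  classical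
  let e := Fintype.equivFin T
  let v : Fin (Fintype.card T) → k := fun a => τ (e.symm a)
  have hv : Function.Injective v := hτ.comp e.symm.injective
  have hdet : IsUnit (Matrix.vandermonde v).det := by
    rw [isUnit_iff_ne_zero]
    exact Matrix.det_vandermonde_ne_zero_iff.2 hv
  have h1 := Matrix.nonsing_inv_mul _ hdet
  refine ⟨fun i t => if hi : i < Fintype.card T then (Matrix.vandermonde v)⁻¹ ⟨i, hi⟩ (e t) else 0, ?_⟩
  intro i hi j hj
  have h2 := congrFun (congrFun h1 ⟨i, hi⟩) ⟨j, hj⟩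
  rw [Matrix.mul_apply, Matrix.one_apply] at h2
  rw [← Equiv.sum_comp e.symm]
  simp only [dif_pos hi, Equiv.apply_symm_apply]
  simp only [Matrix.vandermonde_apply, v, Fin.mk.injEq] at h2
  exact h2

variable {X Y : Type*} [Fintype X] [Fintype Y] {T : Type*} [Fintype T] {τ τ' : T → k}

/-- graded kernels -/
theorem Rk.graded (hτ : Function.Injective τ) (hτ' : Function.Injective τ') {S : Finset ℕ}
    (hS : ∀ c ∈ S, c < Fintype.card T) {κ : T × X → T × Y → k} {κc : ℕ → X → Y → k}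
    (h : ∀ l x l' y, κ (l, x) (l', y) = ∑ c ∈ S, τ l ^ c * τ' l' ^ c * κc c x y) {n : ℕ → ℕ}
    (hn : ∀ c ∈ S, Rk (κc c) (n c)) : Rk κ (∑ c ∈ S, n c) := by
  classical
  obtain ⟨A, hA⟩ := exists_dual_pow τ hτ
  obtain ⟨B, hB⟩ := exists_dual_pow τ' hτ'
  choose P Q hPQ using fun c : S => hn c.1 c.2
  have hκ : κ = fun z w => ∑ c ∈ S, (fun (l l' : T) => τ l ^ c * τ' l' ^ c) z.1 w.1 * κc c z.2 w.2 := by
    ext ⟨l, x⟩ ⟨l', y⟩
    exact h l x l' y
  have hbl : ∀ c c' d, c ∈ S → c' ∈ S → d ∈ S → bl (fun (l l' : T) => τ l ^ d * τ' l' ^ d) (A c) (B c') =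
      if c = d ∧ c' = d then 1 else 0 := by
    intro c c' d hc hc' hd
    have e1 : bl (fun (l l' : T) => τ l ^ d * τ' l' ^ d) (A c) (B c') =
        (∑ l, A c l * τ l ^ d) * ∑ l', B c' l' * τ' l' ^ d := by
      unfold bl
      rw [Finset.sum_mul_sum]
      exact Finset.sum_congr rfl fun x _ => Finset.sum_congr rfl fun y _ => by ring
    rw [e1, hA c (hS c hc) d (hS d hd), hB c' (hS c' hc') d (hS d hd)]
    by_cases h1 : c = d <;> by_cases h2 : c' = d <;> simp [h1, h2]
  have key := Rk.mk (κ := κ) (α := (c : S) × Fin (n c.1))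
    (fun a z => A a.1 z.1 * P a.1 a.2 z.2) (fun a z => B a.1 z.1 * Q a.1 a.2 z.2) (by
      rintro ⟨c, i⟩ ⟨c', j⟩
      have hterm : ∀ d ∈ S, bl (fun (z : T × X) (w : T × Y) => (fun (l l' : T) => τ l ^ d * τ' l' ^ d) z.1 w.1 *
          κc d z.2 w.2) (fun z => A c.1 z.1 * P c i z.2) (fun z => B c'.1 z.1 * Q c' j z.2) =
          (if c.1 = d ∧ c'.1 = d then 1 else 0) * bl (κc d) (P c i) (Q c' j) := fun d hd =>
        (bl_prod (fun (l l' : T) => τ l ^ d * τ' l' ^ d) (κc d) (A c.1) (P c i) (B c'.1) (Q c' j)).trans (by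
          rw [hbl c.1 c'.1 d c.2 c'.2 hd])
      rw [hκ, bl_kernel_sum, Finset.sum_congr rfl hterm]
      by_cases h1 : c = c'
      · subst h1
        rw [Finset.sum_eq_single c.1]
        · simp only [and_self, if_true, one_mul]
          rw [hPQ c i j]
          simp
        · intro d _ hd
          rw [if_neg (fun h2 => hd h2.1.symm), zero_mul]
        · intro h2; exact absurd c.2 h2
      · rw [if_neg (by intro h2; exact h1 (congrArg Sigma.fst h2))]
        refine Finset.sum_eq_zero fun d _ => ?_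
        rw [if_neg (fun h2 => h1 (Subtype.ext (h2.1.trans h2.2.symm))), zero_mul])
  rw [Fintype.card_sigma] at key
  simp only [Fintype.card_fin] at key
  rwa [Finset.sum_coe_sort S n] at key

end Pow

section Sylvester

variable {k : Type*} [Field k] {V : Type*} [AddCommGroup V] [Module k V] [FiniteDimensional k V] {X Y α : Type*}
  [Fintype α]

/-- the relations of a family of functions -/
def Rel (F : X → α → k) : Submodule k (α → k) where
  carrier := {c | ∀ x, ∑ a, F x a * c a = 0}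
  zero_mem' := fun x => by simp only [_root_.Pi.zero_apply, _root_.MulZeroClass.mul_zero, _root_.Finset.sum_const_zero]
  add_mem' := fun {c d} hc hd x => by
    simp only [Pi.add_apply, mul_add, Finset.sum_add_distrib]
    rw [hc x, hd x, add_zero]
  smul_mem' := fun b c hc x => by
    have h1 : ∑ a, F x a * (b • c) a = b * ∑ a, F x a * c a := by
      rw [Finset.mul_sum]
      exact Finset.sum_congr rfl fun a _ => by rw [Pi.smul_apply, smul_eq_mul]; ring
    rw [h1, hc x, mul_zero]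

theorem finrank_rel_le (F : X → α → k) (S : Finset α)
    (h : ∀ c : α → k, (∀ x, ∑ a, F x a * c a = 0) → (∀ a ∈ S, c a = 0) → c = 0) :
    Module.finrank k (Rel F) ≤ S.card := by
  let Φ : Rel F →ₗ[k] (S → k) :=
    { toFun := fun c a => c.1 a.1
      map_add' := fun _ _ => rfl
      map_smul' := fun _ _ => rfl }
  have hΦ : Function.Injective Φ := by
    rw [injective_iff_map_eq_zero]
    intro c hc
    exact Subtype.ext (h c.1 c.2 fun a ha => congrFun hc ⟨a, ha⟩)
  have h1 := LinearMap.finrank_le_finrank_of_injective hΦ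
  rwa [Module.finrank_fintype_fun_eq_card, Fintype.card_coe] at h1

/-- the pairing of the coordinate space with the values -/
def pr (G : Y → α → k) : (α → k) →ₗ[k] (Y → k) where
  toFun c := fun y => ∑ a, G y a * c a
  map_add' c d := by
    funext y
    simp only [Pi.add_apply, mul_add, Finset.sum_add_distrib]
  map_smul' b c := by
    funext y
    simp only [Pi.smul_apply, smul_eq_mul, RingHom.id_apply, Finset.mul_sum]
    exact Finset.sum_congr rfl fun a _ => by ring

theorem mem_ker_pr {G : Y → α → k} {c : α → k} : c ∈ LinearMap.ker (pr G) ↔ c ∈ Rel G := by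
  rw [LinearMap.mem_ker]
  exact ⟨fun h y => congrFun h y, fun h => funext fun y => h y⟩

/-- the functions of a vector -/
def fnc (ff : Y → Module.Dual k V) : V →ₗ[k] (Y → k) where
  toFun v := fun y => ff y v
  map_add' c d := funext fun y => map_add (ff y) c d
  map_smul' b c := funext fun y => map_smul (ff y) b c

variable {vv : X → V} {ff : Y → Module.Dual k V} {F : X → α → k} {G : Y → α → k}
  (h : ∀ x y, ff y (vv x) = ∑ a, F x a * G y a)
include h

theorem map_span_le : (Submodule.span k (Set.range F)).map (pr G) ≤ LinearMap.range (fnc ff) := by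
  rw [Submodule.map_span, Submodule.span_le]
  rintro _ ⟨_, ⟨x, rfl⟩, rfl⟩
  refine ⟨vv x, ?_⟩
  funext y
  change ff y (vv x) = ∑ a, G y a * F x a
  rw [h]
  exact Finset.sum_congr rfl fun a _ => mul_comm _ _

/-- **Sylvester's inequality** -/
theorem sylvester {S S' : Finset α}
    (hF : ∀ c : α → k, (∀ x, ∑ a, F x a * c a = 0) → (∀ a ∈ S, c a = 0) → c = 0)
    (hG : ∀ c : α → k, (∀ y, ∑ a, G y a * c a = 0) → (∀ a ∈ S', c a = 0) → c = 0) :
    Fintype.card α ≤ Module.finrank k V + S.card + S'.card := by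
  have e1 := finrank_rel_le F S hF
  have e2 := finrank_rel_le G S' hG
  set A := Submodule.span k (Set.range F) with hA
  -- the dimension of `A`
  let D : (α → k) →ₗ[k] Module.Dual k A :=
    { toFun := fun c =>
        { toFun := fun a => ∑ i, a.1 i * c i
          map_add' := fun a b => by
            simp only [Submodule.coe_add, Pi.add_apply, add_mul, Finset.sum_add_distrib]
          map_smul' := fun b a => by
            simp only [Submodule.coe_smul, Pi.smul_apply, smul_eq_mul, RingHom.id_apply, Finset.mul_sum, mul_assoc] }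
      map_add' := fun c d => by
        ext a
        simp only [LinearMap.coe_mk, AddHom.coe_mk, LinearMap.add_apply, Pi.add_apply, mul_add, Finset.sum_add_distrib]
      map_smul' := fun b c => by
        ext a
        simp only [LinearMap.coe_mk, AddHom.coe_mk, LinearMap.smul_apply, Pi.smul_apply, smul_eq_mul,
          RingHom.id_apply, Finset.mul_sum]
        exact Finset.sum_congr rfl fun i _ => by ring }
  have h1 := LinearMap.finrank_range_add_finrank_ker D
  rw [Module.finrank_fintype_fun_eq_card] at h1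
  have h2 : LinearMap.ker D ≤ Rel F := by
    intro c hc x
    have h3 : F x ∈ A := Submodule.subset_span ⟨x, rfl⟩
    exact congrArg (fun ψ : Module.Dual k A => ψ ⟨F x, h3⟩) (LinearMap.mem_ker.1 hc)
  have h3 := Submodule.finrank_mono h2
  have h4 := Submodule.finrank_le (LinearMap.range D)
  rw [Subspace.dual_finrank_eq] at h4
  -- the image of `A`
  have h5 := LinearMap.finrank_range_add_finrank_ker ((pr G).domRestrict A)
  have h6 : LinearMap.range ((pr G).domRestrict A) = A.map (pr G) := by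
    ext y
    constructor
    · rintro ⟨a, rfl⟩
      exact ⟨a.1, a.2, rfl⟩
    · rintro ⟨a, ha, rfl⟩
      exact ⟨⟨a, ha⟩, rfl⟩
  rw [h6] at h5
  have h7 : Module.finrank k (A.map (pr G)) ≤ Module.finrank k (LinearMap.range (fnc ff)) :=
    Submodule.finrank_mono (map_span_le h)
  have h8 := LinearMap.finrank_range_le (fnc ff)
  have h9 : Module.finrank k (LinearMap.ker ((pr G).domRestrict A)) ≤ Module.finrank k (Rel G) := by
    let Ψ : LinearMap.ker ((pr G).domRestrict A) →ₗ[k] Rel G :=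
      { toFun := fun a => ⟨a.1.1, mem_ker_pr.1 (LinearMap.mem_ker.2 (LinearMap.mem_ker.1 a.2))⟩
        map_add' := fun _ _ => rfl
        map_smul' := fun _ _ => rfl }
    refine LinearMap.finrank_le_finrank_of_injective (f := Ψ) fun a b hab => ?_
    have h10 : (Ψ a).1 = (Ψ b).1 := by rw [hab]
    exact Subtype.ext (Subtype.ext h10)
  omega

/-- upper bound -/
theorem finrank_le_card (hv : Submodule.span k (Set.range vv) = ⊤) (hf : ∀ v, (∀ y, ff y v = 0) → v = 0) :
    Module.finrank k V ≤ Fintype.card α := by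
  have h1 : Function.Injective (fnc ff) := by
    rw [injective_iff_map_eq_zero]
    intro v hv
    exact hf v fun y => congrFun hv y
  have h2 : LinearMap.range (fnc ff) ≤ LinearMap.range (pr G) := by
    rw [LinearMap.range_eq_map, ← hv, Submodule.map_span, Submodule.span_le]
    rintro _ ⟨_, ⟨x, rfl⟩, rfl⟩
    refine ⟨F x, ?_⟩
    funext y
    change ∑ a, G y a * F x a = ff y (vv x)
    rw [h]
    exact Finset.sum_congr rfl fun a _ => mul_comm _ _
  have h3 := Submodule.finrank_mono h2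
  rw [LinearMap.finrank_range_of_inj h1] at h3
  refine h3.trans ((LinearMap.finrank_range_le (pr G)).trans ?_)
  rw [Module.finrank_fintype_fun_eq_card]

end Sylvester

end Cfsg.Agent.H876.D3
end

-- part: H876/D3/Digits
section
/-!
# Binomial coefficients prime to `p` (helper876)

`Ib p θ = {i ≤ θ | p ∤ C(θ, i)}`; `Ib_cases`: a power of `p`, `2 p ^ a`, `3 p ^ a`, `p ^ a + p ^ b`, or `5 ≤ |Ib p θ|`.
-/

set_option autoImplicit false

namespace Cfsg.Agent.H876.D3

/-- the exponents of `(1 + x) ^ θ` modulo `p` -/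
def Ib (p θ : ℕ) : Finset ℕ := (Finset.range (θ + 1)).filter fun i => ¬ p ∣ θ.choose i

theorem mem_Ib {p θ i : ℕ} : i ∈ Ib p θ ↔ i ≤ θ ∧ ¬ p ∣ θ.choose i := by
  unfold Ib
  rw [Finset.mem_filter, Finset.mem_range, Nat.lt_succ_iff]

variable {p : ℕ} [hp : Fact p.Prime]

theorem zero_mem_Ib (θ : ℕ) : 0 ∈ Ib p θ :=
  mem_Ib.2 ⟨Nat.zero_le _, by rw [Nat.choose_zero_right]; exact hp.out.one_lt.ne' ∘ Nat.dvd_one.1⟩

theorem self_mem_Ib (θ : ℕ) : θ ∈ Ib p θ :=
  mem_Ib.2 ⟨le_rfl, by rw [Nat.choose_self]; exact hp.out.one_lt.ne' ∘ Nat.dvd_one.1⟩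

theorem two_le_card_Ib {θ : ℕ} (h : θ ≠ 0) : 2 ≤ (Ib p θ).card := by
  have h1 : ({0, θ} : Finset ℕ) ⊆ Ib p θ := by
    intro i hi
    rw [Finset.mem_insert, Finset.mem_singleton] at hi
    rcases hi with rfl | rfl
    · exact zero_mem_Ib _
    · exact self_mem_Ib _
  have h2 := Finset.card_le_card h1
  rwa [Finset.card_pair (Ne.symm h)] at h2

theorem card_Ib_mul {t d : ℕ} (hd : d < p) : (d + 1) * (Ib p t).card ≤ (Ib p (p * t + d)).card := by
  have hpp := hp.out.pos
  have h1 : (Finset.range (d + 1) ×ˢ Ib p t).image (fun z => p * z.2 + z.1) ⊆ Ib p (p * t + d) := by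
    intro i hi
    rw [Finset.mem_image] at hi
    obtain ⟨⟨j, i1⟩, hj, rfl⟩ := hi
    rw [Finset.mem_product, Finset.mem_range, mem_Ib] at hj
    obtain ⟨hj, hi1, hi2⟩ := hj
    simp only at hj hi1 hi2 ⊢
    have hj' : j ≤ d := by omega
    rw [mem_Ib]
    refine ⟨add_le_add (Nat.mul_le_mul_left p hi1) hj', ?_⟩
    have h2 := Choose.choose_modEq_choose_mod_mul_choose_div_nat (n := p * t + d) (k := p * i1 + j) (p := p)
    rw [Nat.mul_add_mod, Nat.mul_add_mod, Nat.mod_eq_of_lt hd, Nat.mod_eq_of_lt (by omega : j < p),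
      Nat.mul_add_div hpp, Nat.mul_add_div hpp, Nat.div_eq_of_lt hd, Nat.div_eq_of_lt (by omega : j < p),
      add_zero, add_zero] at h2
    intro h3
    have h4 : p ∣ d.choose j * t.choose i1 := (Nat.modEq_zero_iff_dvd.1 (h2.symm.trans (Nat.modEq_zero_iff_dvd.2 h3)))
    rcases hp.out.dvd_mul.1 h4 with h5 | h5
    · have h6 : d.choose j ∣ d.factorial := ⟨j.factorial * (d - j).factorial, by
        rw [← mul_assoc]; exact (Nat.choose_mul_factorial_mul_factorial hj').symm⟩
      have h7 := (hp.out.dvd_factorial).1 (h5.trans h6)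
      omega
    · exact hi2 h5
  have h2 := Finset.card_le_card h1
  rw [Finset.card_image_of_injOn, Finset.card_product, Finset.card_range] at h2
  · exact h2
  · rintro ⟨j, i⟩ hj ⟨j', i'⟩ hj' e
    rw [Finset.mem_coe, Finset.mem_product, Finset.mem_range] at hj hj'
    simp only at hj hj' e
    have e1 : (p * i + j) % p = (p * i' + j') % p := by rw [e]
    rw [Nat.mul_add_mod, Nat.mul_add_mod, Nat.mod_eq_of_lt (by omega), Nat.mod_eq_of_lt (by omega)] at e1
    subst e1
    have e2 : p * i = p * i' := by omega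
    rw [Nat.eq_of_mul_eq_mul_left hpp e2]

/-- **The exponents with few binomial coefficients.** -/
theorem Ib_cases : ∀ {θ : ℕ}, θ ≠ 0 → (∃ a, θ = p ^ a) ∨ (3 ≤ (Ib p θ).card ∧ p ≠ 2 ∧ ∃ a, θ = 2 * p ^ a) ∨
    (4 ≤ (Ib p θ).card ∧ ((5 ≤ p ∧ ∃ a, θ = 3 * p ^ a) ∨ ∃ a b, a < b ∧ θ = p ^ a + p ^ b)) ∨ 5 ≤ (Ib p θ).card := by
  intro θ
  induction θ using Nat.strong_induction_on with
  | _ θ ih =>
    intro hθ
    have h2 := hp.out.two_le
    have hθe : p * (θ / p) + θ % p = θ := Nat.div_add_mod θ p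
    have hd : θ % p < p := Nat.mod_lt _ hp.out.pos
    have hcard := card_Ib_mul (p := p) (t := θ / p) hd
    rw [hθe] at hcard
    by_cases ht : θ / p = 0
    · rw [ht, mul_zero, zero_add] at hθe
      have h0 : (Ib p 0).card = 1 := by
        have : Ib p 0 = {0} := by
          ext i
          rw [mem_Ib, Finset.mem_singleton]
          constructor
          · intro h; omega
          · rintro rfl
            exact ⟨le_rfl, (mem_Ib.1 (zero_mem_Ib (p := p) 0)).2⟩
        rw [this, Finset.card_singleton]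
      rw [ht, h0, mul_one, hθe] at hcard
      have hlt : θ < p := by rw [← hθe]; exact hd
      by_cases h1 : θ = 1
      · left; exact ⟨0, by rw [h1, pow_zero]⟩
      by_cases h3 : θ = 2
      · right; left
        exact ⟨by omega, by omega, 0, by rw [h3, pow_zero, mul_one]⟩
      by_cases h4 : θ = 3
      · right; right; left
        refine ⟨by omega, Or.inl ⟨?_, 0, by rw [h4, pow_zero, mul_one]⟩⟩
        by_contra hlt5
        have h5 : p = 4 := by omega
        have h6 := hp.out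
        rw [h5] at h6
        exact absurd h6 (by norm_num)
      · right; right; right; omega
    · have hlt : θ / p < θ := Nat.div_lt_self (Nat.pos_of_ne_zero hθ) hp.out.one_lt
      have hih := ih (θ / p) hlt ht
      by_cases hd0 : θ % p = 0
      · rw [hd0, add_zero] at hθe
        rw [hd0, zero_add, one_mul] at hcard
        rcases hih with ⟨a, ha⟩ | ⟨h3, h4, a, ha⟩ | ⟨h3, h4⟩ | h3
        · left; exact ⟨a + 1, by rw [← hθe, ha, pow_succ']⟩
        · right; left
          exact ⟨h3.trans hcard, h4, a + 1, by rw [← hθe, ha, pow_succ']; ring⟩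
        · right; right; left
          refine ⟨h3.trans hcard, ?_⟩
          rcases h4 with ⟨h5, a, ha⟩ | ⟨a, b, hab, he⟩
          · exact Or.inl ⟨h5, a + 1, by rw [← hθe, ha, pow_succ']; ring⟩
          · exact Or.inr ⟨a + 1, b + 1, by omega, by rw [← hθe, he, pow_succ', pow_succ']; ring⟩
        · right; right; right; exact h3.trans hcard
      · have h22 := two_le_card_Ib (p := p) ht
        rcases hih with ⟨a, ha⟩ | ⟨h3, -⟩ | ⟨h3, -⟩ | h3
        · by_cases hd1 : θ % p = 1
          · right; right; left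
            rw [hd1] at hcard
            refine ⟨by omega, Or.inr ⟨0, a + 1, by omega, ?_⟩⟩
            rw [← hθe, hd1, ha, pow_zero, pow_succ']
            ring
          · right; right; right
            have : 3 * 2 ≤ (θ % p + 1) * (Ib p (θ / p)).card := Nat.mul_le_mul (by omega) h22
            omega
        all_goals
          right; right; right
          have : 2 * 3 ≤ (θ % p + 1) * (Ib p (θ / p)).card := Nat.mul_le_mul (by omega) (by omega)
          omega

end Cfsg.Agent.H876.D3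
end

-- part: H876/D3/PowRank
section
/-!
# The rank of `(1 + c r r') ^ e` over a finite field (helper876)

* `add_pow_Ib` : the binomial formula in characteristic `p`;
* `red Q e ∈ [1, Q - 1]`, `red Q e ≡ e`; `Rk_pow` : the rank is at least `|Ib p (red Q e)|`; `Rk_pow_two`, `Rk_pow_zero`.
-/

set_option autoImplicit false
set_option linter.unusedSectionVars false

namespace Cfsg.Agent.H876.D3

section

variable {p : ℕ} [hp : Fact p.Prime]

theorem add_pow_Ib {R : Type*} [CommRing R] [CharP R p] (x y : R) (n : ℕ) :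
    (x + y) ^ n = ∑ i ∈ Ib p n, (n.choose i : R) * (x ^ (n - i) * y ^ i) := by
  rw [add_comm x y, add_pow]
  unfold Ib
  rw [Finset.sum_filter]
  refine Finset.sum_congr rfl fun i _ => ?_
  by_cases h : p ∣ n.choose i
  · rw [if_neg (not_not.2 h), (CharP.cast_eq_zero_iff R p _).2 h, mul_zero]
  · rw [if_pos h]
    ring

theorem choose_ne {R : Type*} [CommRing R] [CharP R p] {n i : ℕ} (h : i ∈ Ib p n) : (n.choose i : R) ≠ 0 := fun h0 =>
  (mem_Ib.1 h).2 ((CharP.cast_eq_zero_iff R p _).1 h0)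

end

/-- the exponent in `[1, Q - 1]` -/
def red (Q e : ℕ) : ℕ := (e - 1) % (Q - 1) + 1

theorem red_ne_zero (Q e : ℕ) : red Q e ≠ 0 := Nat.succ_ne_zero _

theorem red_le {Q e : ℕ} (hQ : 2 ≤ Q) : red Q e ≤ Q - 1 := by
  unfold red
  have := Nat.mod_lt (e - 1) (show 0 < Q - 1 by omega)
  omega

theorem red_lt {Q e : ℕ} (hQ : 2 ≤ Q) : red Q e < Q := by
  have := red_le (e := e) hQ
  omega

theorem red_eq {Q e : ℕ} (he : e ≠ 0) (h : e ≤ Q - 1) : red Q e = e := by
  unfold red
  rw [Nat.mod_eq_of_lt (by omega)]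
  omega

theorem red_modEq {Q e : ℕ} (he : e ≠ 0) : red Q e ≡ e [MOD (Q - 1)] := by
  unfold red
  have h1 : (e - 1) % (Q - 1) ≡ e - 1 [MOD (Q - 1)] := Nat.mod_modEq _ _
  have h2 := h1.add_right 1
  rwa [Nat.sub_add_cancel (Nat.one_le_iff_ne_zero.2 he)] at h2

theorem red_succ {Q e : ℕ} (he : e ≠ 0) (h : red Q e < Q - 1) : red Q (e + 1) = red Q e + 1 := by
  unfold red at *
  rw [Nat.add_sub_cancel]
  obtain ⟨e, rfl⟩ := Nat.exists_eq_succ_of_ne_zero he
  rw [Nat.succ_sub_one] at *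
  rw [Nat.succ_eq_add_one, Nat.add_mod]
  rcases Nat.lt_or_ge 1 (Q - 1) with h1 | h1
  · rw [Nat.mod_eq_of_lt h1, Nat.mod_eq_of_lt (a := e % (Q - 1) + 1) (by omega)]
  · have : e % (Q - 1) = 0 := by
      rcases Nat.eq_zero_or_pos (Q - 1) with h2 | h2
      · omega
      · omega
    omega

section

variable {E : Type*} [Field E] [Fintype E] {k : Type*} [Field k]

theorem two_le_card : 2 ≤ Fintype.card E := Fintype.one_lt_card

theorem pow_red {e : ℕ} (he : e ≠ 0) (x : E) : x ^ red (Fintype.card E) e = x ^ e := by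
  by_cases hx : x = 0
  · rw [hx, zero_pow he, zero_pow (red_ne_zero _ _)]
  · exact (pow_eq_pow_of_modEq (red_modEq he) (FiniteField.pow_card_sub_one_eq_one x hx))

variable {p : ℕ} [hp : Fact p.Prime] [CharP k p]

theorem Rk_pow_aux (j : E →+* k) {c : E} (hc : c ≠ 0) {e : ℕ} (he : e < Fintype.card E) :
    Rk (fun r r' : E => j (1 + c * (r * r')) ^ e) (Ib p e).card := by
  have h1 : Rk (fun (z w : E × Unit) => j (1 + c * (z.1 * w.1)) ^ e) (∑ i ∈ Ib p e, 1) := by
    refine Rk.graded (τ := j) (τ' := j) (κc := fun i _ _ => (e.choose i : k) * j c ^ i) j.injective j.injective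
      (fun i hi => (mem_Ib.1 hi).1.trans_lt he) ?_ (fun i hi => Rk.one_of ⟨(), (), ?_⟩)
    · intro l _ l' _
      rw [map_add, map_one, map_mul, map_mul, add_pow_Ib (p := p)]
      refine Finset.sum_congr rfl fun i _ => ?_
      rw [one_pow, mul_pow, mul_pow]
      ring
    · exact mul_ne_zero (choose_ne hi) (pow_ne_zero _ ((map_ne_zero j).2 hc))
  rw [Finset.sum_const, smul_eq_mul, mul_one] at h1
  exact Rk.of_sub Prod.fst Prod.fst h1

/-- **The rank of `(1 + c r r') ^ e`.** -/
theorem Rk_pow (j : E →+* k) {c : E} (hc : c ≠ 0) {e : ℕ} (he : e ≠ 0) :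
    Rk (fun r r' : E => j (1 + c * (r * r')) ^ e) (Ib p (red (Fintype.card E) e)).card := by
  refine (Rk_pow_aux j hc (red_lt two_le_card)).congr fun r r' => ?_
  rw [← map_pow, ← map_pow, pow_red he]

omit hp [CharP k p] in
theorem Rk_pow_zero (j : E →+* k) (c : E) (e : ℕ) : Rk (fun r r' : E => j (1 + c * (r * r')) ^ e) 1 :=
  Rk.one_of ⟨0, 0, by simp⟩

end

end Cfsg.Agent.H876.D3
end

-- part: H876/D3/Patch
section
/-!
# Frames with prescribed vectors at some positions (helper876)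

* `det_patch`; `upd e ι x` : the family `e` with `x t` at the position `ι t`;
* `Loc W r ι x` : the conditions on `x`; `pfr_upd`; `Gr_upd`;
* `IsKer.le_finrank`.
-/

set_option autoImplicit false
set_option linter.unusedSectionVars false

namespace Cfsg.Agent.H876.D3

open Cfsg Cfsg.Geo Matrix
open LieClassical.HermBasic LieClassical.HermSiegel Cfsg.Agent.TitsThree.KSideU Cfsg.Agent.TitsThree.KSideUDesc
  Cfsg.Agent.TitsThree.WBridge Cfsg.Agent.TitsThree.SiegelGen Cfsg.Agent.TitsThree.Siegel Cfsg.Agent.H61.SUCross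
  Cfsg.Agent.TitsThree.WittFrame

section Det

variable {R n : Type*} [CommRing R] [Fintype n] [DecidableEq n]

/-- a matrix with identity rows outside the range of `ι` -/
theorem det_patch {s : ℕ} {ι : Fin s → n} (hι : Function.Injective ι) (M : Matrix n n R)
    (h : ∀ a, a ∉ Set.range ι → ∀ b, M a b = if a = b then 1 else 0) : M.det = (M.submatrix ι ι).det := by
  classical
  have h1 := Matrix.twoBlockTriangular_det M (fun a => a ∈ Set.range ι) (by
    intro i hi j hj
    rw [h i hi, if_neg]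
    rintro rfl
    exact hi hj)
  have h2 : (Matrix.toSquareBlockProp M fun a => ¬ a ∈ Set.range ι) = 1 := by
    ext a b
    rw [Matrix.toSquareBlockProp_def, Matrix.of_apply, h a.1 a.2, Matrix.one_apply]
    simp only [Subtype.ext_iff]
  rw [h1, h2, Matrix.det_one, mul_one]
  let e : Fin s ≃ {a // a ∈ Set.range ι} := Equiv.ofInjective ι hι
  generalize hA : (M.toSquareBlockProp fun a => a ∈ Set.range ι) = A
  have h3 : M.submatrix ι ι = A.submatrix e e := by
    rw [← hA]
    rfl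
  rw [h3, Matrix.det_submatrix_equiv_self]
  congr!

end Det

section Upd

variable {m : ℕ} {V : Type*} {s : ℕ}

/-- the family `e` with `x t` at the position `ι t` -/
noncomputable def upd (e : Fin m → V) (ι : Fin s → Fin m) (x : Fin s → V) : Fin m → V := by
  classical
  exact fun a => if h : ∃ t, ι t = a then x h.choose else e a

theorem upd_apply (e : Fin m → V) {ι : Fin s → Fin m} (hι : Function.Injective ι) (x : Fin s → V) (t : Fin s) :
    upd e ι x (ι t) = x t := by
  unfold upd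
  have h : ∃ t', ι t' = ι t := ⟨t, rfl⟩
  rw [dif_pos h, hι h.choose_spec]

theorem upd_ne (e : Fin m → V) {ι : Fin s → Fin m} (x : Fin s → V) {a : Fin m} (h : a ∉ Set.range ι) :
    upd e ι x a = e a := by
  unfold upd
  rw [dif_neg]
  rintro ⟨t, ht⟩
  exact h ⟨t, ht⟩

end Upd

variable {K : Type} [Field K] [Fintype K] {N q m : ℕ} {hK : Fintype.card K = q ^ 2} (W : WFrame (PU hK N) m)
  {s : ℕ}

/-- orthogonality to the other vectors of the frame -/
def Perp (r : ℕ) (ι : Fin s → Fin m) (x : Fin N → K) : Prop :=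
  ∀ a : Fin m, (a : ℕ) < r → a ∉ Set.range ι → ∀ c, hermForm N K q ((toFrame W).b (a, c)) x = 0

/-- the conditions on the vectors at the positions `ι` -/
structure Loc (r : ℕ) (ι : Fin s → Fin m) (x : Fin s → Fin N → K) : Prop where
  perp : ∀ t, Perp W r ι (x t)
  iso : ∀ t t', hermForm N K q (x t) (x t') = 0
  wit : ∃ w : Fin s → Fin N → K, (∀ t, Perp W r ι (w t)) ∧
    (Matrix.of fun t t' => hermForm N K q (x t) (w t')).det ≠ 0

variable {W}

theorem Perp.symm {r : ℕ} {ι : Fin s → Fin m} {x : Fin N → K} (h : Perp W r ι x) {a : Fin m} (ha : (a : ℕ) < r)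
    (ha' : a ∉ Set.range ι) (c : Bool) : hermForm N K q x ((toFrame W).b (a, c)) = 0 := by
  rw [herm_swap hK ((toFrame W).b (a, c)) x, h a ha ha' c, zero_pow_q hK]

theorem pair_upd {r : ℕ} {ι : Fin s → Fin m} (hι : Function.Injective ι) {x : Fin s → Fin N → K}
    (hx : ∀ t, Perp W r ι (x t)) {c : Bool} {a b : Fin m} (ha : (a : ℕ) < r) (ha' : a ∉ Set.range ι) :
    hermForm N K q ((toFrame W).b (a, c)) (upd (fun a => (toFrame W).b (a, !c)) ι x b) =
      if a = b then 1 else 0 := by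
  by_cases hb : b ∈ Set.range ι
  · obtain ⟨t, rfl⟩ := hb
    rw [upd_apply _ hι, hx t a ha ha', if_neg]
    rintro rfl
    exact ha' ⟨t, rfl⟩
  · rw [upd_ne _ _ hb, hb_pair]

theorem pfr_upd {r : ℕ} {ι : Fin s → Fin m} (hι : Function.Injective ι) (hr : ∀ t, (ι t : ℕ) < r)
    {x : Fin s → Fin N → K} (hx : Loc W r ι x) (c : Bool) :
    PFr q r (upd (fun a => (toFrame W).b (a, c)) ι x) := by
  classical
  refine ⟨fun a b ha hb => ?_, ?_⟩
  · by_cases ha' : a ∈ Set.range ι
    · obtain ⟨t, rfl⟩ := ha'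
      rw [upd_apply _ hι]
      by_cases hb' : b ∈ Set.range ι
      · obtain ⟨t', rfl⟩ := hb'
        rw [upd_apply _ hι, hx.iso]
      · rw [upd_ne _ _ hb']
        exact (hx.perp t).symm hb hb' c
    · rw [upd_ne _ _ ha']
      by_cases hb' : b ∈ Set.range ι
      · obtain ⟨t', rfl⟩ := hb'
        rw [upd_apply _ hι]
        exact hx.perp t' a ha ha' c
      · rw [upd_ne _ _ hb', hb_iso]
  · obtain ⟨w, hw, hdet⟩ := hx.wit
    refine li_of_det (q := q) (w := fun a : {a : Fin m // (a : ℕ) < r} => upd (fun a => (toFrame W).b (a, !c)) ι w a.1) ?_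
    have hι' : Function.Injective (fun t => (⟨ι t, hr t⟩ : {a : Fin m // (a : ℕ) < r})) := fun t t' h =>
      hι (congrArg Subtype.val h)
    rw [det_patch hι']
    · convert hdet using 2
      ext t t'
      rw [Matrix.submatrix_apply, Matrix.of_apply, Matrix.of_apply, upd_apply _ hι, upd_apply _ hι]
    · intro a ha b
      have ha' : a.1 ∉ Set.range ι := by
        rintro ⟨t, ht⟩
        exact ha ⟨t, Subtype.ext ht⟩
      rw [Matrix.of_apply, upd_ne _ _ ha', pair_upd hι hw a.2 ha']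
      simp only [Subtype.ext_iff]

/-- the minors of the patched frames -/
theorem Gr_upd {r : ℕ} {ι : Fin s → Fin m} (hι : Function.Injective ι) {x y : Fin s → Fin N → K}
    (hy : ∀ t, Perp W r ι (y t)) {s' : ℕ} {κ : Fin s' → Fin s} (hκ : Function.Injective κ) {i : Fin m}
    (hi : (i : ℕ) < r) (hle : ∀ t, ι (κ t) ≤ i) (hgt : ∀ t, t ∉ Set.range κ → ¬ ι t ≤ i) :
    Gr q i (upd W.e ι x) (upd W.f ι y) =
      (Matrix.of fun t t' => hermForm N K q (x (κ t)) (y (κ t'))).det := by
  unfold Gr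
  have hι' : Function.Injective (fun t => (⟨ι (κ t), hle t⟩ : {a : Fin m // a ≤ i})) := fun t t' h =>
    hκ (hι (congrArg Subtype.val h))
  rw [det_patch hι']
  · congr 1
    ext t t'
    rw [Matrix.submatrix_apply, Matrix.of_apply, Matrix.of_apply, upd_apply _ hι, upd_apply _ hι]
  · intro a ha b
    have ha' : a.1 ∉ Set.range ι := by
      rintro ⟨t, ht⟩
      by_cases h1 : t ∈ Set.range κ
      · obtain ⟨t', rfl⟩ := h1
        exact ha ⟨t', Subtype.ext ht⟩
      · exact hgt t h1 (ht ▸ a.2)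
    rw [Matrix.of_apply, upd_ne _ _ ha']
    have h1 : ((a.1 : Fin m) : ℕ) < r := lt_of_le_of_lt a.2 hi
    have h2 := pair_upd (W := W) hι hy (c := true) (b := b.1) h1 ha'
    have h3 : (if (a.1 : Fin m) = b.1 then (1 : K) else 0) = if a = b then 1 else 0 := by
      simp only [Subtype.ext_iff]
    rw [← h3]
    exact h2

section Ker

variable {k : Type*} [Field k] {V : Type*} [AddCommGroup V] [Module k V] [FiniteDimensional k V]
  {r : ℕ} {j : K →+* k} {θ : Fin m → ℕ} {vv : (Fin m → Fin N → K) → V}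
  {ff : (Fin m → Fin N → K) → Module.Dual k V}

/-- lower bounds from kernels -/
theorem IsKer.le_finrank (h : IsKer q r j θ vv ff) {X Y : Type*} [Fintype X] [Fintype Y]
    {f : X → Fin m → Fin N → K} {g : Y → Fin m → Fin N → K} (hf : ∀ x, PFr q r (f x)) (hg : ∀ y, PFr q r (g y))
    {κ : X → Y → k} (hκ : ∀ x y, κ x y = ∏ i, j (Gr q i (f x) (g y)) ^ θ i) {n : ℕ} (hn : Rk κ n) :
    n ≤ Module.finrank k V :=
  Rk.le_finrank (vv := fun x => vv (f x)) (ff := fun y => ff (g y)) (fun x y => by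
    rw [h.ker _ _ (hf x) (hg y), hκ]) hn

/-- **Sylvester's inequality for kernels** -/
theorem IsKer.sylvester (h : IsKer q r j θ vv ff) {X Y α : Type*} [Fintype α]
    {f : X → Fin m → Fin N → K} {g : Y → Fin m → Fin N → K} (hf : ∀ x, PFr q r (f x)) (hg : ∀ y, PFr q r (g y))
    {F : X → α → k} {G : Y → α → k} (hκ : ∀ x y, ∏ i, j (Gr q i (f x) (g y)) ^ θ i = ∑ a, F x a * G y a)
    {S S' : Finset α} (hF : ∀ c : α → k, (∀ x, ∑ a, F x a * c a = 0) → (∀ a ∈ S, c a = 0) → c = 0)
    (hG : ∀ c : α → k, (∀ y, ∑ a, G y a * c a = 0) → (∀ a ∈ S', c a = 0) → c = 0) :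
    Fintype.card α ≤ Module.finrank k V + S.card + S'.card :=
  H876.D3.sylvester (vv := fun x => vv (f x)) (ff := fun y => ff (g y)) (fun x y => by
    rw [h.ker _ _ (hf x) (hg y), hκ]) hF hG

/-- upper bounds for kernels -/
theorem IsKer.finrank_le (h : IsKer q r j θ vv ff) {α : Type*} [Fintype α]
    (F G : (Fin m → Fin N → K) → α → k)
    (hκ : ∀ u u', PFr q r u → PFr q r u' → ∏ i, j (Gr q i u u') ^ θ i = ∑ a, F u a * G u' a) :
    Module.finrank k V ≤ Fintype.card α := by
  refine finrank_le_card (X := {u // PFr (m := m) q r u}) (Y := {u // PFr (m := m) q r u}) (vv := fun u => vv u.1)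
    (ff := fun u => ff u.1) (F := fun u => F u.1) (G := fun u => G u.1) (fun x y => ?_) ?_ ?_
  · rw [h.ker _ _ x.2 y.2, hκ _ _ x.2 y.2]
  · rw [← h.span]
    congr 1
    ext w
    constructor
    · rintro ⟨u, rfl⟩
      exact ⟨u.1, u.2, rfl⟩
    · rintro ⟨u, hu, rfl⟩
      exact ⟨⟨u, hu⟩, rfl⟩
  · intro v hv
    exact h.sep v fun u hu => hv ⟨u, hu⟩

end Ker

end Cfsg.Agent.H876.D3
end

-- part: H876/D3/Rank2
section
/-!
# Graded kernels with two branches (helper876)

* `bl_branch`; `Rk.double`.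
-/

set_option autoImplicit false
set_option linter.unusedSectionVars false

namespace Cfsg.Agent.H876.D3

section

variable {k : Type*} [Field k] {X Y B : Type*} [Fintype X] [Fintype Y] [Fintype B] [DecidableEq B]

theorem bl_branch (κ : B × X → B × Y → k) (b b' : B) (P : X → k) (Q : Y → k) :
    bl κ (fun z => if z.1 = b then P z.2 else 0) (fun w => if w.1 = b' then Q w.2 else 0) =
      bl (fun x y => κ (b, x) (b', y)) P Q := by
  unfold bl
  rw [Fintype.sum_prod_type, Finset.sum_eq_single b]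
  · refine Finset.sum_congr rfl fun x _ => ?_
    rw [Fintype.sum_prod_type, Finset.sum_eq_single b']
    · refine Finset.sum_congr rfl fun y _ => ?_
      simp only [if_true]
    · intro c _ hc
      refine Finset.sum_eq_zero fun y _ => ?_
      simp only [if_neg hc, mul_zero]
    · intro h; exact absurd (Finset.mem_univ _) h
  · intro c _ hc
    refine Finset.sum_eq_zero fun x _ => Finset.sum_eq_zero fun y _ => ?_
    simp only [if_neg hc, zero_mul]
  · intro h; exact absurd (Finset.mem_univ _) h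

variable {T : Type*} [Fintype T] {τ τ' : T → k}

/-- the pairing of the components of degrees `c`, `c'` -/
theorem bl_graded {A B : ℕ → T → k} (hA : ∀ i < Fintype.card T, ∀ j < Fintype.card T, ∑ t, A i t * τ t ^ j = if i = j then 1 else 0)
    (hB : ∀ i < Fintype.card T, ∀ j < Fintype.card T, ∑ t, B i t * τ' t ^ j = if i = j then 1 else 0)
    {S : Finset ℕ} (hS : ∀ c ∈ S, c < Fintype.card T) {κ : T × X → T × Y → k} {κc : ℕ → X → Y → k}
    (h : ∀ l x l' y, κ (l, x) (l', y) = ∑ c ∈ S, τ l ^ c * τ' l' ^ c * κc c x y) {c c' : ℕ} (hc : c < Fintype.card T)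
    (hc' : c' < Fintype.card T) (P : X → k) (Q : Y → k) :
    bl κ (fun z => A c z.1 * P z.2) (fun w => B c' w.1 * Q w.2) =
      if c = c' ∧ c ∈ S then bl (κc c) P Q else 0 := by
  classical
  have hκ : κ = fun z w => ∑ c ∈ S, (fun (l l' : T) => τ l ^ c * τ' l' ^ c) z.1 w.1 * κc c z.2 w.2 := by
    ext ⟨l, x⟩ ⟨l', y⟩
    exact h l x l' y
  have hbl : ∀ d ∈ S, bl (fun (l l' : T) => τ l ^ d * τ' l' ^ d) (A c) (B c') =
      if c = d ∧ c' = d then 1 else 0 := by
    intro d hd
    have e1 : bl (fun (l l' : T) => τ l ^ d * τ' l' ^ d) (A c) (B c') =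
        (∑ l, A c l * τ l ^ d) * ∑ l', B c' l' * τ' l' ^ d := by
      unfold bl
      rw [Finset.sum_mul_sum]
      exact Finset.sum_congr rfl fun x _ => Finset.sum_congr rfl fun y _ => by ring
    rw [e1, hA c hc d (hS d hd), hB c' hc' d (hS d hd)]
    by_cases h1 : c = d <;> by_cases h2 : c' = d <;> simp [h1, h2]
  have hterm : ∀ d ∈ S, bl (fun (z : T × X) (w : T × Y) => (fun (l l' : T) => τ l ^ d * τ' l' ^ d) z.1 w.1 *
      κc d z.2 w.2) (fun z => A c z.1 * P z.2) (fun z => B c' z.1 * Q z.2) =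
      (if c = d ∧ c' = d then 1 else 0) * bl (κc d) P Q := fun d hd =>
    (bl_prod (fun (l l' : T) => τ l ^ d * τ' l' ^ d) (κc d) (A c) P (B c') Q).trans (by rw [hbl d hd])
  rw [hκ, bl_kernel_sum, Finset.sum_congr rfl hterm]
  by_cases h1 : c = c' ∧ c ∈ S
  · obtain ⟨rfl, h2⟩ := h1
    rw [if_pos ⟨rfl, h2⟩, Finset.sum_eq_single c]
    · simp only [and_self, if_true, one_mul]
    · intro d _ hd
      rw [if_neg (fun h3 => hd h3.1.symm), zero_mul]
    · intro h3; exact absurd h2 h3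
  · rw [if_neg h1]
    refine Finset.sum_eq_zero fun d hd => ?_
    rw [if_neg, zero_mul]
    rintro ⟨rfl, rfl⟩
    exact h1 ⟨rfl, hd⟩

/-- **Graded kernels with two branches sharing the degree `0`.** -/
theorem Rk.double (hτ : Function.Injective τ) (hτ' : Function.Injective τ') {S : Finset ℕ}
    (hS : ∀ c ∈ S, c < Fintype.card T) (hT : 0 < Fintype.card T) {κ : Bool × (T × X) → Bool × (T × Y) → k}
    {κc : ℕ → X → Y → k}
    (h : ∀ b l x l' y, κ (b, l, x) (b, l', y) = ∑ c ∈ S, τ l ^ c * τ' l' ^ c * κc c x y)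
    (h' : ∀ b b', b ≠ b' → ∀ l x l' y, κ (b, l, x) (b', l', y) = κc 0 x y) {n : ℕ → ℕ}
    (hn : ∀ c ∈ S, Rk (κc c) (n c)) : Rk κ (∑ c ∈ S, n c + ∑ c ∈ S.erase 0, n c) := by
  classical
  obtain ⟨A, hA⟩ := exists_dual_pow τ hτ
  obtain ⟨B, hB⟩ := exists_dual_pow τ' hτ'
  choose P Q hPQ using fun c : S => hn c.1 c.2
  have hsame : ∀ (b : Bool) (c c' : ℕ) (hc : c ∈ S) (hc' : c' ∈ S) (i : Fin (n c)) (j : Fin (n c')),
      bl κ (fun z => if z.1 = b then A c z.2.1 * P ⟨c, hc⟩ i z.2.2 else 0)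
        (fun w => if w.1 = b then B c' w.2.1 * Q ⟨c', hc'⟩ j w.2.2 else 0) =
      if c = c' then bl (κc c) (P ⟨c, hc⟩ i) (Q ⟨c', hc'⟩ j) else 0 := by
    intro b c c' hc hc' i j
    rw [bl_branch κ b b (fun z => A c z.1 * P ⟨c, hc⟩ i z.2) (fun w => B c' w.1 * Q ⟨c', hc'⟩ j w.2),
      bl_graded hA hB hS (κ := fun x y => κ (b, x) (b, y)) (κc := κc) (fun l x l' y => h b l x l' y) (hS c hc)
        (hS c' hc')]
    simp only [hc, and_true]
  have hdiff : ∀ (b b' : Bool) (hb : b ≠ b') (c c' : ℕ) (hc : c ∈ S) (hc' : c' ∈ S) (i : Fin (n c)) (j : Fin (n c')),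
      ¬ (c = 0 ∧ c' = 0) →
      bl κ (fun z => if z.1 = b then A c z.2.1 * P ⟨c, hc⟩ i z.2.2 else 0)
        (fun w => if w.1 = b' then B c' w.2.1 * Q ⟨c', hc'⟩ j w.2.2 else 0) = 0 := by
    intro b b' hb c c' hc hc' i j h0
    rw [bl_branch κ b b' (fun z => A c z.1 * P ⟨c, hc⟩ i z.2) (fun w => B c' w.1 * Q ⟨c', hc'⟩ j w.2),
      bl_graded hA hB (S := {0}) (fun c hc => by rw [Finset.mem_singleton.1 hc]; exact hT)
        (κ := fun x y => κ (b, x) (b', y)) (κc := κc) (fun l x l' y => by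
          rw [Finset.sum_singleton, pow_zero, pow_zero, one_mul, one_mul]
          exact h' b b' hb l x l' y) (hS c hc) (hS c' hc'), if_neg]
    rintro ⟨rfl, h1⟩
    exact h0 ⟨Finset.mem_singleton.1 h1, Finset.mem_singleton.1 h1⟩
  let α := (c : S) × Fin (n c.1)
  let β := (c : {c : S // c.1 ≠ 0}) × Fin (n c.1.1)
  have key := Rk.mk (κ := κ) (α := α ⊕ β)
    (Sum.elim (fun a z => if z.1 = false then A a.1 z.2.1 * P a.1 a.2 z.2.2 else 0)
      (fun a z => if z.1 = true then A a.1.1 z.2.1 * P a.1.1 a.2 z.2.2 else 0))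
    (Sum.elim (fun a z => if z.1 = false then B a.1 z.2.1 * Q a.1 a.2 z.2.2 else 0)
      (fun a z => if z.1 = true then B a.1.1 z.2.1 * Q a.1.1 a.2 z.2.2 else 0)) (by
      rintro (⟨c, i⟩ | ⟨⟨c, hc0⟩, i⟩) (⟨c', j⟩ | ⟨⟨c', hc0'⟩, j⟩)
      · change bl κ (fun z => if z.1 = false then A c z.2.1 * P c i z.2.2 else 0)
          (fun z => if z.1 = false then B c' z.2.1 * Q c' j z.2.2 else 0) = _
        rw [hsame false c.1 c'.1 c.2 c'.2 i j]
        by_cases h1 : c = c'
        · subst h1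
          rw [if_pos rfl, hPQ c i j]
          refine if_congr ⟨fun h => by rw [h], fun h => ?_⟩ rfl rfl
          exact eq_of_heq (Sigma.mk.inj (Sum.inl_injective h)).2
        · rw [if_neg (fun h2 => h1 (Subtype.ext h2)), if_neg]
          intro h2
          exact h1 (congrArg Sigma.fst (Sum.inl_injective h2))
      · change bl κ (fun z => if z.1 = false then A c z.2.1 * P c i z.2.2 else 0)
          (fun z => if z.1 = true then B c' z.2.1 * Q c' j z.2.2 else 0) = _
        rw [hdiff false true (by simp) c.1 c'.1 c.2 c'.2 i j (fun h1 => hc0' h1.2), if_neg (by simp)]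
      · change bl κ (fun z => if z.1 = true then A c z.2.1 * P c i z.2.2 else 0)
          (fun z => if z.1 = false then B c' z.2.1 * Q c' j z.2.2 else 0) = _
        rw [hdiff true false (by simp) c.1 c'.1 c.2 c'.2 i j (fun h1 => hc0 h1.1), if_neg (by simp)]
      · change bl κ (fun z => if z.1 = true then A c z.2.1 * P c i z.2.2 else 0)
          (fun z => if z.1 = true then B c' z.2.1 * Q c' j z.2.2 else 0) = _
        rw [hsame true c.1 c'.1 c.2 c'.2 i j]
        by_cases h1 : c = c'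
        · subst h1
          rw [if_pos rfl, hPQ c i j]
          refine if_congr ⟨fun h => by rw [h], fun h => ?_⟩ rfl rfl
          exact eq_of_heq (Sigma.mk.inj (Sum.inr_injective h)).2
        · rw [if_neg (fun h2 => h1 (Subtype.ext h2)), if_neg]
          intro h2
          have h3 := Sum.inr_injective h2
          exact h1 (congrArg (fun a : β => a.1.1) h3))
  have hα : Fintype.card α = ∑ c ∈ S, n c := by
    rw [Fintype.card_sigma]
    simp only [Fintype.card_fin]
    exact Finset.sum_coe_sort S n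
  have hβ : Fintype.card β = ∑ c ∈ S.erase 0, n c := by
    rw [Fintype.card_sigma]
    simp only [Fintype.card_fin]
    rw [← Finset.sum_coe_sort (S.erase 0) n]
    refine Fintype.sum_equiv ⟨fun c => ⟨c.1.1, Finset.mem_erase.2 ⟨c.2, c.1.2⟩⟩,
      fun c => ⟨⟨c.1, Finset.mem_of_mem_erase c.2⟩, Finset.ne_of_mem_erase c.2⟩, fun _ => rfl, fun _ => rfl⟩ _ _ ?_
    intro c
    rfl
  rwa [Fintype.card_sum, hα, hβ] at key

end

end Cfsg.Agent.H876.D3
end

-- part: H876/D3/Base
section
/-!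
# Frobenius twists of kernels, pairings in a frame (helper876)

* `IsKer.twist`; `jb hK j` : `x ↦ j (x ^ q)`; `h_ee`, `h_ff`, `h_ef`, `h_fe`; `card_E`.
-/

set_option autoImplicit false
set_option linter.unusedSectionVars false

namespace Cfsg.Agent.H876.D3

open Cfsg Cfsg.Geo Matrix
open LieClassical.HermBasic LieClassical.HermSiegel Cfsg.Agent.TitsThree.KSideU Cfsg.Agent.TitsThree.KSideUDesc
  Cfsg.Agent.TitsThree.WBridge Cfsg.Agent.TitsThree.SiegelGen Cfsg.Agent.TitsThree.Siegel Cfsg.Agent.H61.SUCross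
  Cfsg.Agent.TitsThree.WittFrame
open Cfsg.Agent.Phan (fixedField mem_fixedField card_fixedField)

variable {K : Type} [Field K] [Fintype K] {N q m : ℕ} {hK : Fintype.card K = q ^ 2}

section Ker

variable {k : Type*} [Field k] {V : Type*} [AddCommGroup V] [Module k V]
  {r : ℕ} {j : K →+* k} {θ : Fin m → ℕ} {vv : (Fin m → Fin N → K) → V}
  {ff : (Fin m → Fin N → K) → Module.Dual k V}

/-- Frobenius twists -/
theorem IsKer.twist {p : ℕ} [Fact p.Prime] [CharP K p] (h : IsKer q r j θ vv ff) (a : ℕ) {θ' : Fin m → ℕ}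
    (hθ : ∀ i, θ i = p ^ a * θ' i) : IsKer q r (j.comp (iterateFrobenius K p a)) θ' vv ff where
  ker u u' hu hu' := by
    rw [h.ker u u' hu hu']
    refine Finset.prod_congr rfl fun i _ => ?_
    rw [hθ, pow_mul, RingHom.comp_apply, iterateFrobenius_def, map_pow]
  span := h.span
  sep := h.sep

end Ker

/-- the conjugate embedding -/
noncomputable def jb (hK : Fintype.card K = q ^ 2) {k : Type*} [Field k] (j : K →+* k) : K →+* k :=
  j.comp (conj hK : K →+* K)

theorem jb_apply (hK : Fintype.card K = q ^ 2) {k : Type*} [Field k] (j : K →+* k) (x : K) : jb hK j x = j (x ^ q) :=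
  rfl

section Frame

variable (W : WFrame (PU hK N) m)

theorem h_ee (a b : Fin m) : hermForm N K q (W.e a) (W.e b) = 0 := W.ee a b
theorem h_ff (a b : Fin m) : hermForm N K q (W.f a) (W.f b) = 0 := W.ff a b
theorem h_ef (a b : Fin m) : hermForm N K q (W.e a) (W.f b) = if a = b then 1 else 0 := W.ef a b
theorem h_fe (a b : Fin m) : hermForm N K q (W.f a) (W.e b) = if a = b then 1 else 0 := W.fe a b
end Frame

theorem card_E (hK : Fintype.card K = q ^ 2) [Fintype (fixedField hK)] : Fintype.card (fixedField hK) = q := by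
  rw [← Nat.card_eq_fintype_card, card_fixedField]

theorem E_q (hK : Fintype.card K = q ^ 2) (s : fixedField hK) : (s : K) ^ q = s := (mem_fixedField hK _).1 s.2

end Cfsg.Agent.H876.D3
end

private theorem dce_0aeb66d74dcf : _root_.True := by
  try have : _root_.True := by simp only [_root_.Cfsg.Agent.H876.D3.bl.eq_1]
  try have : _root_.True := by simp only [_root_.Cfsg.Agent.H876.D3.sgn.eq_1]
  exact _root_.True.intro
end

-- part: H876/D3/PairBound
section
prune_inst 0x242044403400020000000590330000642c00009000000000a8200d420001a0408040004006000510180a10080801000811100080420000000a0004000002000000800000200002084c0088000080000000000000000000000000000000000004000000000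
set_option linter.all false
open scoped Cfsg.Agent.FastGrp

-- part: H876/D3/Fan
section
/-!
# The kernel `j(h(x, y)) ^ θ` on isotropic vectors: fans (helper876)

* `pfr_one`, `ker_one`; `RR p Q e`; **`fan_bound`** : `∑ i ∈ Ib p θ, RR (θ - i) + ∑ i ∈ Ib p θ \ 0, RR (θ - i) ≤ dim V`.
-/

set_option autoImplicit false
set_option linter.unusedSectionVars false

namespace Cfsg.Agent.H876.D3

open Cfsg Cfsg.Geo Matrix
open LieClassical.HermBasic LieClassical.HermSiegel Cfsg.Agent.TitsThree.KSideU Cfsg.Agent.TitsThree.KSideUDesc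
  Cfsg.Agent.TitsThree.WBridge Cfsg.Agent.TitsThree.SiegelGen Cfsg.Agent.TitsThree.Siegel Cfsg.Agent.H61.SUCross
  Cfsg.Agent.TitsThree.WittFrame
open Cfsg.Agent.Phan (fixedField mem_fixedField card_fixedField)

variable {K : Type} [Field K] [Fintype K] {N q m : ℕ} {hK : Fintype.card K = q ^ 2}

theorem pfr_one (hm : 0 < m) {x : Fin N → K} (hx : hermForm N K q x x = 0) (h0 : x ≠ 0) :
    PFr (m := m) q 1 (fun _ => x) where
  iso _ _ _ _ := hx
  li := by
    have hs : Subsingleton {a : Fin m // (a : ℕ) < 1} := ⟨fun a b => by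
      have := a.2
      have := b.2
      exact Subtype.ext (Fin.ext (by omega))⟩
    exact LinearIndependent.of_subsingleton ⟨⟨0, hm⟩, Nat.zero_lt_one⟩ h0

theorem Gr_zero (hm : 0 < m) (u u' : Fin m → Fin N → K) :
    Gr q ⟨0, hm⟩ u u' = hermForm N K q (u ⟨0, hm⟩) (u' ⟨0, hm⟩) := by
  unfold Gr
  have hs : Subsingleton {a : Fin m // a ≤ ⟨0, hm⟩} := ⟨fun a b => by
    have h1 := Fin.le_def.1 a.2
    have h2 := Fin.le_def.1 b.2
    exact Subtype.ext (Fin.ext (by simp only at h1 h2; omega))⟩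
  rw [Matrix.det_eq_elem_of_subsingleton _ ⟨⟨0, hm⟩, le_rfl⟩, Matrix.of_apply]

/-- the rank of `(1 + c r r') ^ e` -/
def RR (p Q e : ℕ) : ℕ := if e = 0 then 1 else (Ib p (red Q e)).card

theorem RR_zero (p Q : ℕ) : RR p Q 0 = 1 := if_pos rfl

theorem RR_of_ne {p Q e : ℕ} (he : e ≠ 0) : RR p Q e = (Ib p (red Q e)).card := if_neg he

section

variable {p : ℕ} [hp : Fact p.Prime]

theorem two_le_RR {Q e : ℕ} (he : e ≠ 0) : 2 ≤ RR p Q e := by
  rw [RR_of_ne he]
  exact two_le_card_Ib (red_ne_zero _ _)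

theorem Rk_RR {E : Type*} [Field E] [Fintype E] {k : Type*} [Field k] [CharP k p] (j : E →+* k) {c : E} (hc : c ≠ 0)
    (e : ℕ) : Rk (fun r r' : E => j (1 + c * (r * r')) ^ e) (RR p (Fintype.card E) e) := by
  by_cases he : e = 0
  · rw [he, RR_zero]
    exact Rk_pow_zero j c 0
  · rw [RR_of_ne he]
    exact Rk_pow j hc he

end

section Ker

variable {k : Type*} [Field k] {V : Type*} [AddCommGroup V] [Module k V] [FiniteDimensional k V]
  {j : K →+* k} {θ : Fin m → ℕ} {vv : (Fin m → Fin N → K) → V}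
  {ff : (Fin m → Fin N → K) → Module.Dual k V}

theorem prod_one (hm : 0 < m) (hθ : ∀ i : Fin m, 1 ≤ (i : ℕ) → θ i = 0) (u u' : Fin m → Fin N → K) :
    ∏ i, j (Gr q i u u') ^ θ i = j (hermForm N K q (u ⟨0, hm⟩) (u' ⟨0, hm⟩)) ^ θ ⟨0, hm⟩ := by
  rw [Finset.prod_eq_single ⟨0, hm⟩, Gr_zero]
  · intro i _ hi
    rw [hθ i, pow_zero]
    have : (i : ℕ) ≠ 0 := fun h => hi (Fin.ext h)
    omega
  · intro h; exact absurd (Finset.mem_univ _) h

/-- the elements `1 + c r r'` -/
theorem fan_scalar {ε : K} (hε : ε ^ q = -ε) : ∃ c : fixedField hK, (c : K) = -ε ^ 2 := by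
  refine ⟨⟨-ε ^ 2, ?_⟩, rfl⟩
  rw [mem_fixedField, neg_pow_q hK, ← pow_mul, mul_comm, pow_mul, hε]
  ring

variable (W : WFrame (PU hK N) m)

/-- the vectors of the fans -/
noncomputable def fan (i i' : Fin m) (c : Bool) (ε : K) (b : Bool) (s : K) (r : K) : Fin N → K :=
  (toFrame W).b (i, c) + (ε * r) • (toFrame W).b (i, !c) + s • (toFrame W).b (i', b)

theorem hb_all (a b : Fin m) (c d : Bool) : hermForm N K q ((toFrame W).b (a, c)) ((toFrame W).b (b, d)) =
    if a = b ∧ d = !c then 1 else 0 := by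
  by_cases h : d = !c
  · subst h
    rw [hb_pair]
    simp
  · have h1 : d = c := by revert h; cases c <;> cases d <;> simp
    subst h1
    rw [hb_iso, if_neg (fun h2 => h h2.2)]

theorem herm_fan {i i' : Fin m} (hi : i ≠ i') {ε : K} (hε : ε ^ q = -ε) (c b b' : Bool) (s s' r r' : K)
    (hr' : r' ^ q = r') :
    hermForm N K q (fan W i i' c ε b s r) (fan W i i' (!c) ε (!b') s' r') =
      1 - ε ^ 2 * (r * r') + if b = b' then s * s' ^ q else 0 := by
  unfold fan
  simp only [herm_add_left, herm_add_right hK, herm_smul_left, herm_smul_right, hb_all]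
  have h1 : (ε * r') ^ q = -ε * r' := by rw [mul_pow, hε, hr']
  rw [h1]
  cases c <;> cases b <;> cases b' <;> simp only [hi, Ne.symm hi, _root_.and_self, ↓ _root_.reduceIte, _root_.Bool.not_false, _root_.Bool.not_true, _root_.Bool.true_eq_false, _root_.and_false, _root_.MulZeroClass.mul_zero, _root_.add_zero, _root_.and_true, _root_.neg_mul, _root_.Bool.false_eq_true, _root_.mul_one, _root_.zero_add] <;> ring

theorem herm_fan_self {i i' : Fin m} (hi : i ≠ i') {ε : K} (hε : ε ^ q = -ε) (c b : Bool) (s r : K)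
    (hr : r ^ q = r) : hermForm N K q (fan W i i' c ε b s r) (fan W i i' c ε b s r) = 0 := by
  unfold fan
  simp only [herm_add_left, herm_add_right hK, herm_smul_left, herm_smul_right, hb_all]
  have h1 : (ε * r) ^ q = -ε * r := by rw [mul_pow, hε, hr]
  rw [h1]
  cases c <;> cases b <;> simp [hi, Ne.symm hi]

theorem fan_ne {i i' : Fin m} (hi : i ≠ i') (ε : K) (c b : Bool) (s r : K) : fan W i i' c ε b s r ≠ 0 := by
  intro h
  have h1 : hermForm N K q (fan W i i' c ε b s r) ((toFrame W).b (i, !c)) = 0 := by rw [h]; exact herm_zero_left _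
  unfold fan at h1
  simp only [herm_add_left, herm_smul_left, hb_all] at h1
  revert h1
  cases c <;> cases b <;> simp [Ne.symm hi]

variable {W}

/-- **The bound from the fans.** -/
theorem fan_bound (p : ℕ) [hp : Fact p.Prime] [CharP K p] [CharP k p] (hm : 2 ≤ m) (W : WFrame (PU hK N) m)
    (h : IsKer q 1 j θ vv ff)
    (hθ : ∀ i : Fin m, 1 ≤ (i : ℕ) → θ i = 0) (hθ' : θ ⟨0, by omega⟩ < q ^ 2) :
    ∑ i ∈ Ib p (θ ⟨0, by omega⟩), RR p q (θ ⟨0, by omega⟩ - i) +
      ∑ i ∈ (Ib p (θ ⟨0, by omega⟩)).erase 0, RR p q (θ ⟨0, by omega⟩ - i) ≤ Module.finrank k V := by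
  classical
  have hm0 : 0 < m := by omega
  set t := θ ⟨0, hm0⟩ with ht
  let i0 : Fin m := ⟨0, hm0⟩
  let i1 : Fin m := ⟨1, by omega⟩
  have hi : i0 ≠ i1 := fun h => absurd (congrArg Fin.val h) (by simp [i0, i1])
  obtain ⟨ε, hε, hε0⟩ := exists_delta hK
  obtain ⟨c, hc⟩ := fan_scalar (hK := hK) hε
  have hc0 : c ≠ 0 := by
    intro h0
    have h1 : (c : K) = 0 := by rw [h0]; rfl
    rw [hc, neg_eq_zero] at h1
    exact hε0 (pow_eq_zero_iff (two_ne_zero)|>.1 h1)
  have : Fintype (fixedField hK) := Fintype.ofFinite _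
  let jE : fixedField hK →+* k := j.comp (fixedField hK).subtype
  have key := Rk.double (k := k) (T := K) (X := fixedField hK) (Y := fixedField hK) (τ := j) (τ' := jb hK j)
    (S := Ib p t) (n := fun i => RR p q (t - i))
    (κ := fun x y => j (hermForm N K q (fan W i0 i1 true ε x.1 x.2.1 x.2.2)
      (fan W i0 i1 false ε (!y.1) y.2.1 y.2.2)) ^ t)
    (κc := fun i r r' => (t.choose i : k) * jE (1 + c * (r * r')) ^ (t - i)) j.injective (jb hK j).injective
    (fun i hi => by rw [hK]; exact (mem_Ib.1 hi).1.trans_lt hθ') Fintype.card_pos ?_ ?_ ?_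
  · refine h.le_finrank (X := Bool × (K × fixedField hK)) (Y := Bool × (K × fixedField hK))
      (f := fun x _ => fan W i0 i1 true ε x.1 x.2.1 x.2.2)
      (g := fun y _ => fan W i0 i1 false ε (!y.1) y.2.1 y.2.2)
      (fun x => pfr_one hm0 (herm_fan_self W hi hε _ _ _ _ (E_q hK _)) (fan_ne W hi _ _ _ _ _))
      (fun x => pfr_one hm0 (herm_fan_self W hi hε _ _ _ _ (E_q hK _)) (fan_ne W hi _ _ _ _ _))
      (fun x y => ?_) key
    rw [prod_one hm0 hθ]
  · intro b l x l' y
    have e1 := herm_fan W hi hε true b b l l' (x : K) (y : K) (E_q hK _)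
    rw [if_pos rfl, Bool.not_true] at e1
    have e2 : (1 - ε ^ 2 * ((x : K) * (y : K)) + l * l' ^ q) = ((1 + c * (x * y) : fixedField hK) : K) + l * l' ^ q := by
      push_cast
      rw [hc]
      ring
    simp only
    rw [e1, e2, map_add, add_pow_Ib (p := p)]
    refine Finset.sum_congr rfl fun i _ => ?_
    rw [jb_apply, map_mul, mul_pow]
    have e3 : j ((1 + c * (x * y) : fixedField hK) : K) = jE (1 + c * (x * y)) := rfl
    rw [e3]
    ring
  · intro b b' hb l x l' y
    have e1 := herm_fan W hi hε true b b' l l' (x : K) (y : K) (E_q hK _)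
    rw [if_neg hb, Bool.not_true, add_zero] at e1
    have e2 : (1 - ε ^ 2 * ((x : K) * (y : K))) = ((1 + c * (x * y) : fixedField hK) : K) := by
      push_cast
      rw [hc]
      ring
    simp only
    rw [e1, e2, Nat.choose_zero_right, Nat.cast_one, one_mul, Nat.sub_zero]
    rfl
  · intro i hi'
    have h1 := Rk_RR (p := p) jE hc0 (t - i)
    rw [card_E] at h1
    exact h1.scale (a := fun _ => (t.choose i : k)) (b := fun _ => 1) (fun _ => choose_ne hi') (fun _ => one_ne_zero)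
      (fun x y => by rw [mul_one])

end Ker

end Cfsg.Agent.H876.D3
end

-- part: H876/D3/FanNum
section
/-!
# The kernel `j(h(x, y)) ^ θ` on isotropic vectors: numerical consequences (helper876)

* `fan_num` : `RR θ + 4 |I| - 6 ≤ dim V`; `fan_three` (`≥ 8`), `fan_five` (`≥ 13`), `fan_four` (`≥ 13` if `3 ≤ RR θ`);
* `node0_cases`.
-/

set_option autoImplicit false
set_option linter.unusedSectionVars false

namespace Cfsg.Agent.H876.D3

open Cfsg Cfsg.Geo Matrix
open LieClassical.HermBasic LieClassical.HermSiegel Cfsg.Agent.TitsThree.KSideU Cfsg.Agent.TitsThree.KSideUDesc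
  Cfsg.Agent.TitsThree.WBridge Cfsg.Agent.TitsThree.SiegelGen Cfsg.Agent.TitsThree.Siegel Cfsg.Agent.H61.SUCross
  Cfsg.Agent.TitsThree.WittFrame
open Cfsg.Agent.Phan (fixedField mem_fixedField card_fixedField)

theorem red_unique {Q e x : ℕ} (hQ : 2 ≤ Q) (he : e ≠ 0) (hx : x ≠ 0) (hx' : x ≤ Q - 1) (h : x ≡ e [MOD (Q - 1)]) :
    red Q e = x := by
  have h1 : red Q e ≡ x [MOD (Q - 1)] := (red_modEq he).trans h.symm
  have h2 := red_le (e := e) hQ
  have h3 := red_ne_zero Q e
  rcases Nat.lt_trichotomy (red Q e) x with h4 | h4 | h4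
  · have h5 := (Nat.modEq_iff_dvd' h4.le).1 h1
    obtain ⟨l, hl⟩ := h5
    rcases Nat.eq_zero_or_pos l with rfl | hl0
    · omega
    · have : Q - 1 ≤ (Q - 1) * l := Nat.le_mul_of_pos_right _ hl0
      omega
  · exact h4
  · have h5 := (Nat.modEq_iff_dvd' h4.le).1 h1.symm
    obtain ⟨l, hl⟩ := h5
    rcases Nat.eq_zero_or_pos l with rfl | hl0
    · omega
    · have : Q - 1 ≤ (Q - 1) * l := Nat.le_mul_of_pos_right _ hl0
      omega

section

variable {p : ℕ} [hp : Fact p.Prime]

theorem card_Ib_zero : (Ib p 0).card = 1 := by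
  have : Ib p 0 = {0} := by
    ext i
    rw [mem_Ib, Finset.mem_singleton]
    constructor
    · intro h; omega
    · rintro rfl
      exact ⟨le_rfl, (mem_Ib.1 (zero_mem_Ib (p := p) 0)).2⟩
  rw [this, Finset.card_singleton]

theorem card_Ib_three (h5 : 5 ≤ p) : 4 ≤ (Ib p 3).card := by
  have h1 := card_Ib_mul (p := p) (t := 0) (d := 3) (by omega)
  rw [card_Ib_zero, mul_zero, zero_add] at h1
  exact h1

theorem card_Ib_succ {d : ℕ} (hd : 0 < d) : 4 ≤ (Ib p (1 + p ^ d)).card := by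
  have h1 := card_Ib_mul (p := p) (t := p ^ (d - 1)) (d := 1) hp.out.one_lt
  rw [← pow_succ', Nat.sub_add_cancel hd, add_comm (p ^ d) 1] at h1
  have h2 := two_le_card_Ib (p := p) (θ := p ^ (d - 1)) (pow_ne_zero _ hp.out.ne_zero)
  omega

/-- `RR` of `1 + p ^ d`, `0 < d < 2 f`, `d ≠ f` -/
theorem four_le_RR {f d : ℕ} (hd : 0 < d) (hdf : d ≠ f) (hd2 : d < 2 * f) : 4 ≤ RR p (p ^ f) (1 + p ^ d) := by
  have hp2 := hp.out.two_le
  have key : ∀ d', 0 < d' → d' < f → p ^ d' + 1 ≤ p ^ f - 1 := by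
    intro d' h1 h2
    have h3 : p ^ (d' + 1) ≤ p ^ f := Nat.pow_le_pow_right hp.out.pos h2
    have h4 : p ^ 1 ≤ p ^ d' := Nat.pow_le_pow_right hp.out.pos h1
    rw [pow_one] at h4
    rw [pow_succ] at h3
    have h5 : p ^ d' * 2 ≤ p ^ d' * p := Nat.mul_le_mul_left _ hp2
    omega
  have hQ : 2 ≤ p ^ f := by
    have h3 : p ^ 1 ≤ p ^ f := Nat.pow_le_pow_right hp.out.pos (by omega)
    rw [pow_one] at h3
    omega
  rw [RR_of_ne (by omega)]
  rcases Nat.lt_or_ge d f with h1 | h1
  · rw [red_eq (by omega) (by have := key d hd h1; omega)]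
    exact card_Ib_succ hd
  · have h2 : 0 < d - f := by omega
    have h3 := key (d - f) h2 (by omega)
    have h4 : red (p ^ f) (1 + p ^ d) = 1 + p ^ (d - f) := by
      refine red_unique hQ (by omega) (by omega) (by omega) (Nat.ModEq.add_left _ ?_)
      have h5 : p ^ d = p ^ f * p ^ (d - f) := by rw [← pow_add]; congr 1; omega
      have h6 : 1 ≡ p ^ f [MOD (p ^ f - 1)] := (Nat.modEq_iff_dvd' (by omega)).2 dvd_rfl
      rw [h5]
      conv_lhs => rw [← one_mul (p ^ (d - f))]
      exact h6.mul_right _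
    rw [h4]
    exact card_Ib_succ h2

end

variable {K : Type} [Field K] [Fintype K] {N q m : ℕ} {hK : Fintype.card K = q ^ 2}

section Ker

variable {k : Type*} [Field k] {V : Type*} [AddCommGroup V] [Module k V] [FiniteDimensional k V]
  {j : K →+* k} {θ : Fin m → ℕ} {vv : (Fin m → Fin N → K) → V}
  {ff : (Fin m → Fin N → K) → Module.Dual k V}

variable (p : ℕ) [hp : Fact p.Prime] [CharP K p] [CharP k p] (hm : 2 ≤ m) (W : WFrame (PU hK N) m)
    (h : IsKer q 1 j θ vv ff) (hθ : ∀ i : Fin m, 1 ≤ (i : ℕ) → θ i = 0) (h0 : θ ⟨0, by omega⟩ ≠ 0)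
    (hθ' : θ ⟨0, by omega⟩ < q ^ 2)
include hp hm W h hθ h0 hθ'

theorem fan_num : RR p q (θ ⟨0, by omega⟩) + 4 * (Ib p (θ ⟨0, by omega⟩)).card ≤ Module.finrank k V + 6 := by
  classical
  have h1 := fan_bound p hm W h hθ hθ'
  set t := θ ⟨0, by omega⟩ with ht
  have e1 := Finset.add_sum_erase (Ib p t) (fun i => RR p q (t - i)) (zero_mem_Ib (p := p) t)
  have e2 : t ∈ (Ib p t).erase 0 := Finset.mem_erase.2 ⟨h0, self_mem_Ib t⟩
  have e3 := Finset.add_sum_erase _ (fun i => RR p q (t - i)) e2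
  simp only [Nat.sub_zero, Nat.sub_self, RR_zero] at e1 e3
  have e4 : 2 * (((Ib p t).erase 0).erase t).card ≤ ∑ i ∈ ((Ib p t).erase 0).erase t, RR p q (t - i) := by
    rw [mul_comm, ← smul_eq_mul]
    refine Finset.card_nsmul_le_sum _ _ _ fun i hi => two_le_RR ?_
    have h2 := Finset.mem_erase.1 hi
    have h3 := (mem_Ib.1 (Finset.mem_of_mem_erase h2.2)).1
    omega
  rw [Finset.card_erase_of_mem e2, Finset.card_erase_of_mem (zero_mem_Ib t)] at e4
  have e5 := two_le_card_Ib (p := p) h0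
  omega

theorem fan_three (h3 : 3 ≤ (Ib p (θ ⟨0, by omega⟩)).card) : 8 ≤ Module.finrank k V := by
  have h1 := fan_num p hm W h hθ h0 hθ'
  have h2 := two_le_RR (p := p) (Q := q) h0
  omega

theorem fan_five (h5 : 5 ≤ (Ib p (θ ⟨0, by omega⟩)).card) : 13 ≤ Module.finrank k V := by
  have h1 := fan_num p hm W h hθ h0 hθ'
  have h2 := two_le_RR (p := p) (Q := q) h0
  omega

theorem fan_four (h4 : 4 ≤ (Ib p (θ ⟨0, by omega⟩)).card) (h3 : 3 ≤ RR p q (θ ⟨0, by omega⟩)) :
    13 ≤ Module.finrank k V := by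
  have h1 := fan_num p hm W h hθ h0 hθ'
  omega

/-- **The exponents at the first node.** -/
theorem node0_cases {f : ℕ} (hf : q = p ^ f) :
    (∃ a, θ ⟨0, by omega⟩ = p ^ a) ∨ 13 ≤ Module.finrank k V ∨ (p ≠ 2 ∧ ∃ a, θ ⟨0, by omega⟩ = 2 * p ^ a) ∨
      ∃ a, θ ⟨0, by omega⟩ = p ^ a + p ^ (a + f) := by
  have hp2 := hp.out.two_le
  have hq2 := two_le_q hK
  rcases Ib_cases (p := p) h0 with h1 | ⟨h1, h2⟩ | ⟨h1, ⟨h5, a, ha⟩ | ⟨a, b, hab, he⟩⟩ | h1
  · exact Or.inl h1
  · exact Or.inr (Or.inr (Or.inl h2))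
  · right; left
    have h' := h.twist a (θ' := fun i => if (i : ℕ) = 0 then 3 else 0) (fun i => by
      by_cases hi : (i : ℕ) = 0
      · have : i = ⟨0, by omega⟩ := Fin.ext hi
        rw [this, ha, if_pos rfl, mul_comm]
      · rw [hθ i (by omega), if_neg hi, mul_zero])
    have hq5 : 5 ≤ q := by
      rcases Nat.eq_zero_or_pos f with rfl | hf0
      · rw [pow_zero] at hf; omega
      · rw [hf]
        exact h5.trans (Nat.le_self_pow hf0.ne' p)
    refine fan_four p hm W h' (fun i hi => if_neg (by omega)) (by simp) ?_ ?_ ?_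
    · simp only [if_true]
      nlinarith only [hq5]
    · simp only [if_true]
      exact card_Ib_three h5
    · simp only [if_true]
      rw [RR_of_ne (by norm_num), red_eq (by norm_num) (by omega)]
      exact (card_Ib_three h5).trans' (by norm_num)
  · by_cases hbf : b = a + f
    · exact Or.inr (Or.inr (Or.inr ⟨a, by rw [he, hbf]⟩))
    right; left
    have h' := h.twist a (θ' := fun i => if (i : ℕ) = 0 then 1 + p ^ (b - a) else 0) (fun i => by
      by_cases hi : (i : ℕ) = 0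
      · have : i = ⟨0, by omega⟩ := Fin.ext hi
        rw [this, he, if_pos rfl, mul_add, mul_one, ← pow_add]
        congr 2
        omega
      · rw [hθ i (by omega), if_neg hi, mul_zero])
    have hlt : b < 2 * f := by
      rw [he, hf, ← pow_mul] at hθ'
      have h3 : p ^ b < p ^ (f * 2) := by omega
      have h4 := (Nat.pow_lt_pow_iff_right hp.out.one_lt).1 h3
      omega
    have h1' : 1 + p ^ (b - a) ≤ p ^ a + p ^ b := by
      have h2 : p ^ (b - a) ≤ p ^ b := Nat.pow_le_pow_right hp.out.pos (Nat.sub_le _ _)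
      have h3 : 0 < p ^ a := pow_pos hp.out.pos _
      omega
    refine fan_four p hm W h' (fun i hi => if_neg (by omega)) (by simp) ?_ ?_ ?_
    · simp only [if_true]
      exact lt_of_le_of_lt h1' (he ▸ hθ')
    · simp only [if_true]
      exact card_Ib_succ (by omega)
    · simp only [if_true]
      rw [hf]
      exact (four_le_RR (f := f) (by omega) (by omega) (by omega)).trans' (by norm_num)
  · exact Or.inr (Or.inl (fan_five p hm W h hθ h0 hθ' h1))

end Ker

end Cfsg.Agent.H876.D3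
end

-- part: H876/D3/Pair
section
/-!
# The kernel `j(G_2) ^ θ` on pairs (helper876)

* `pow_indep` : independence of monomials;
* `pr2 x y` : the family with `x` at `0`, `y` elsewhere; `pfr_two`, `Gr_one`, `prod_two`;
* `vec W c v` : the vector with the coordinates `v`; `pl v w` : Plücker coordinates; `G2_pl`;
* `node1_sq` : `RR θ ^ 2 ≤ dim V`.
-/

set_option autoImplicit false
set_option linter.unusedSectionVars false

namespace Cfsg.Agent.H876.D3

open Cfsg Cfsg.Geo Matrix
open LieClassical.HermBasic LieClassical.HermSiegel Cfsg.Agent.TitsThree.KSideU Cfsg.Agent.TitsThree.KSideUDesc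
  Cfsg.Agent.TitsThree.WBridge Cfsg.Agent.TitsThree.SiegelGen Cfsg.Agent.TitsThree.Siegel Cfsg.Agent.H61.SUCross
  Cfsg.Agent.TitsThree.WittFrame
open Cfsg.Agent.Phan (fixedField mem_fixedField card_fixedField)

/-- independence of monomials -/
theorem pow_indep {k T : Type*} [Field k] [Fintype T] {τ : T → k} (hτ : Function.Injective τ) {n : ℕ} (e : Fin n → ℕ)
    (he : Function.Injective e) (hlt : ∀ i, e i < Fintype.card T) (c : Fin n → k)
    (h : ∀ t, ∑ i, c i * τ t ^ e i = 0) : c = 0 := by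
  obtain ⟨A, hA⟩ := exists_dual_pow τ hτ
  ext i
  have h1 : ∑ t, A (e i) t * ∑ l, c l * τ t ^ e l = 0 := Finset.sum_eq_zero fun t _ => by rw [h t, mul_zero]
  have h2 : ∑ t, A (e i) t * ∑ l, c l * τ t ^ e l = ∑ l, c l * ∑ t, A (e i) t * τ t ^ e l := by
    simp only [Finset.mul_sum]
    rw [Finset.sum_comm]
    exact Finset.sum_congr rfl fun l _ => Finset.sum_congr rfl fun t _ => by ring
  rw [h2, Finset.sum_eq_single i] at h1
  · rwa [hA _ (hlt i) _ (hlt i), if_pos rfl, mul_one] at h1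
  · intro l _ hl
    rw [hA _ (hlt i) _ (hlt l), if_neg (fun h3 => hl (he h3).symm), mul_zero]
  · intro h3; exact absurd (Finset.mem_univ _) h3

variable {K : Type} [Field K] [Fintype K] {N q m : ℕ} {hK : Fintype.card K = q ^ 2}

/-- the family of a pair -/
def pr2 (x y : Fin N → K) : Fin m → Fin N → K := fun a => if (a : ℕ) = 0 then x else y

theorem pfr_two (hm : 2 ≤ m) {x y : Fin N → K} (hxx : hermForm N K q x x = 0) (hxy : hermForm N K q x y = 0)
    (hyx : hermForm N K q y x = 0) (hyy : hermForm N K q y y = 0) (hli : ∀ a b : K, a • x + b • y = 0 → a = 0 ∧ b = 0) :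
    PFr (m := m) q 2 (pr2 x y) where
  iso a b _ _ := by
    unfold pr2
    split_ifs <;> assumption
  li := by
    let e : Fin 2 ≃ {a : Fin m // (a : ℕ) < 2} :=
      { toFun := fun a => ⟨⟨a, by omega⟩, a.2⟩
        invFun := fun a => ⟨a.1, a.2⟩
        left_inv := fun a => rfl
        right_inv := fun a => rfl }
    rw [← linearIndependent_equiv e]
    have h1 : (fun a : {a : Fin m // (a : ℕ) < 2} => pr2 (m := m) x y a.1) ∘ e = ![x, y] := by
      ext a i
      fin_cases a
      · rfl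
      · rfl
    rw [h1, LinearIndependent.pair_iff]
    exact hli

theorem Gr_one (hm : 2 ≤ m) (u u' : Fin m → Fin N → K) :
    Gr q ⟨1, by omega⟩ u u' = hermForm N K q (u ⟨0, by omega⟩) (u' ⟨0, by omega⟩) *
      hermForm N K q (u ⟨1, by omega⟩) (u' ⟨1, by omega⟩) -
      hermForm N K q (u ⟨0, by omega⟩) (u' ⟨1, by omega⟩) *
      hermForm N K q (u ⟨1, by omega⟩) (u' ⟨0, by omega⟩) := by
  unfold Gr
  let e : Fin 2 ≃ {a : Fin m // a ≤ ⟨1, by omega⟩} :=
    { toFun := fun a => ⟨⟨a, by omega⟩, Fin.le_def.2 (by have := a.2; simp only; omega)⟩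
      invFun := fun a => ⟨a.1, by have := Fin.le_def.1 a.2; simp only at this; omega⟩
      left_inv := fun a => rfl
      right_inv := fun a => rfl }
  rw [← Matrix.det_submatrix_equiv_self e, Matrix.det_fin_two]
  simp only [Matrix.submatrix_apply, Matrix.of_apply]
  rfl

section coords

variable (W : WFrame (PU hK N) m) (hm : 2 ≤ m)

/-- the vector with the coordinates `v` -/
noncomputable def vec (c : Bool) (v : Fin 4 → K) : Fin N → K :=
  v 0 • (toFrame W).b (⟨0, by omega⟩, c) + v 1 • (toFrame W).b (⟨0, by omega⟩, !c) +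
    (v 2 • (toFrame W).b (⟨1, by omega⟩, c) + v 3 • (toFrame W).b (⟨1, by omega⟩, !c))

theorem herm_vec_dual (c : Bool) (v w : Fin 4 → K) :
    hermForm N K q (vec W hm c v) (vec W hm (!c) w) = v 0 * w 0 ^ q + v 1 * w 1 ^ q + v 2 * w 2 ^ q + v 3 * w 3 ^ q := by
  unfold vec
  simp only [herm_add_left, herm_add_right hK, herm_smul_left, herm_smul_right, hb_all]
  cases c <;> simp only [_root_.Fin.isValue, _root_.and_self, ↓ _root_.reduceIte, _root_.mul_one, _root_.Bool.not_false, _root_.Bool.not_true, _root_.Bool.true_eq_false, _root_.and_false, _root_.MulZeroClass.mul_zero, _root_.add_zero, _root_.Fin.mk.injEq, _root_.one_ne_zero, _root_.and_true, _root_.Bool.false_eq_true, _root_.zero_add, _root_.zero_ne_one] <;> ring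

theorem herm_vec (c : Bool) (v w : Fin 4 → K) :
    hermForm N K q (vec W hm c v) (vec W hm c w) = v 0 * w 1 ^ q + v 1 * w 0 ^ q + v 2 * w 3 ^ q + v 3 * w 2 ^ q := by
  unfold vec
  simp only [herm_add_left, herm_add_right hK, herm_smul_left, herm_smul_right, hb_all]
  cases c <;> simp only [_root_.Fin.isValue, _root_.Bool.not_false, _root_.Bool.false_eq_true, _root_.and_false, ↓ _root_.reduceIte, _root_.MulZeroClass.mul_zero, _root_.Bool.not_true, _root_.and_self, _root_.mul_one, _root_.zero_add, _root_.Fin.mk.injEq, _root_.one_ne_zero, _root_.and_true, _root_.add_zero, _root_.Bool.true_eq_false, _root_.zero_ne_one] <;> ring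

theorem vec_smul_add (c : Bool) (a b : K) (v w : Fin 4 → K) :
    a • vec W hm c v + b • vec W hm c w = vec W hm c (fun i => a * v i + b * w i) := by
  unfold vec
  module

theorem vec_zero {c : Bool} {v : Fin 4 → K} (h : vec W hm c v = 0) : v = 0 := by
  have h1 : ∀ w, hermForm N K q (vec W hm c v) (vec W hm (!c) w) = 0 := fun w => by rw [h]; exact herm_zero_left _
  simp only [herm_vec_dual] at h1
  have h10 := h1 ![1, 0, 0, 0]
  have h11 := h1 ![0, 1, 0, 0]
  have h12 := h1 ![0, 0, 1, 0]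
  have h13 := h1 ![0, 0, 0, 1]
  simp [zero_pow_q hK] at h10 h11 h12 h13
  ext i
  fin_cases i <;> assumption

/-- Plücker coordinates -/
def pl (v w : Fin 4 → K) : Fin 6 → K :=
  ![v 0 * w 2 - v 2 * w 0, v 0 * w 3 - v 3 * w 0, v 1 * w 2 - v 2 * w 1, v 1 * w 3 - v 3 * w 1,
    v 0 * w 1 - v 1 * w 0, v 2 * w 3 - v 3 * w 2]

/-- an isotropic line in coordinates -/
structure Ln (q : ℕ) (v w : Fin 4 → K) : Prop where
  vv : v 0 * v 1 ^ q + v 1 * v 0 ^ q + v 2 * v 3 ^ q + v 3 * v 2 ^ q = 0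
  vw : v 0 * w 1 ^ q + v 1 * w 0 ^ q + v 2 * w 3 ^ q + v 3 * w 2 ^ q = 0
  wv : w 0 * v 1 ^ q + w 1 * v 0 ^ q + w 2 * v 3 ^ q + w 3 * v 2 ^ q = 0
  ww : w 0 * w 1 ^ q + w 1 * w 0 ^ q + w 2 * w 3 ^ q + w 3 * w 2 ^ q = 0
  pl_ne : ∃ b, pl v w b ≠ 0

omit [Fintype K] in
theorem Ln.li {v w : Fin 4 → K} (h : Ln q v w) {a b : K} (h0 : ∀ i, a * v i + b * w i = 0) : a = 0 ∧ b = 0 := by
  obtain ⟨i, hi⟩ := h.pl_ne
  have key : ∀ r s : Fin 4, v r * w s - v s * w r ≠ 0 → a = 0 ∧ b = 0 := by
    intro r s hrs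
    have h1 := h0 r
    have h2 := h0 s
    constructor
    · have h3 : a * (v r * w s - v s * w r) = 0 := by linear_combination w s * h1 - w r * h2
      exact (mul_eq_zero.1 h3).resolve_right hrs
    · have h3 : b * (v r * w s - v s * w r) = 0 := by linear_combination v r * h2 - v s * h1
      exact (mul_eq_zero.1 h3).resolve_right hrs
  fin_cases i
  · exact key 0 2 hi
  · exact key 0 3 hi
  · exact key 1 2 hi
  · exact key 1 3 hi
  · exact key 0 1 hi
  · exact key 2 3 hi

theorem Ln.pfr (c : Bool) {v w : Fin 4 → K} (h : Ln q v w) :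
    PFr (m := m) q 2 (pr2 (vec W hm c v) (vec W hm c w)) := by
  refine pfr_two hm (by rw [herm_vec, h.vv]) (by rw [herm_vec, h.vw]) (by rw [herm_vec, h.wv])
    (by rw [herm_vec, h.ww]) fun a b hab => ?_
  rw [vec_smul_add] at hab
  exact h.li fun i => congrFun (vec_zero W hm hab) i

theorem G2_pl (c : Bool) (v w v' w' : Fin 4 → K) :
    Gr q ⟨1, by omega⟩ (pr2 (m := m) (vec W hm c v) (vec W hm c w)) (pr2 (vec W hm (!c) v') (vec W hm (!c) w')) =
      ∑ b, pl v w b * pl v' w' b ^ q := by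
  have e1 : ∀ x y : Fin N → K, pr2 (m := m) x y ⟨0, by omega⟩ = x := fun x y => rfl
  have e2 : ∀ x y : Fin N → K, pr2 (m := m) x y ⟨1, by omega⟩ = y := fun x y => rfl
  have hs : ∀ a b : K, (a - b) ^ q = a ^ q - b ^ q := fun a b => by
    rw [sub_eq_add_neg, add_pow_q hK, neg_pow_q hK, ← sub_eq_add_neg]
  rw [Gr_one hm, e1, e1, e2, e2, herm_vec_dual, herm_vec_dual, herm_vec_dual, herm_vec_dual]
  simp only [Fin.sum_univ_six, pl, Matrix.cons_val]
  simp only [hs, mul_pow]
  ring

theorem G2_pl' (v w v' w' : Fin 4 → K) :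
    Gr q ⟨1, by omega⟩ (pr2 (m := m) (vec W hm true v) (vec W hm true w))
      (pr2 (vec W hm false v') (vec W hm false w')) = ∑ b, pl v w b * pl v' w' b ^ q := G2_pl W hm true v w v' w'

end coords

section Ker

variable {k : Type*} [Field k] {V : Type*} [AddCommGroup V] [Module k V] [FiniteDimensional k V]
  {j : K →+* k} {θ : Fin m → ℕ} {vv : (Fin m → Fin N → K) → V}
  {ff : (Fin m → Fin N → K) → Module.Dual k V}

theorem prod_two (hm : 2 ≤ m) (hθ : ∀ i : Fin m, (i : ℕ) ≠ 1 → θ i = 0) (u u' : Fin m → Fin N → K) :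
    ∏ i, j (Gr q i u u') ^ θ i = j (Gr q ⟨1, by omega⟩ u u') ^ θ ⟨1, by omega⟩ := by
  rw [Finset.prod_eq_single ⟨1, by omega⟩]
  · intro i _ hi
    rw [hθ i (fun h => hi (Fin.ext h)), pow_zero]
  · intro h; exact absurd (Finset.mem_univ _) h

/-- the lines of the fans -/
theorem ln_S (hK : Fintype.card K = q ^ 2) {ε : K} (hε : ε ^ q = -ε) (s t : K) (hs : s ^ q = s) (ht : t ^ q = t) :
    Ln q ![1, ε * s, 0, 0] ![0, 0, 1, ε * t] where
  vv := by simp [mul_pow, hε, hs, zero_pow_q hK]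
  vw := by simp [zero_pow_q hK]
  wv := by simp [zero_pow_q hK]
  ww := by simp [mul_pow, hε, ht, zero_pow_q hK]
  pl_ne := ⟨0, by simp [pl]⟩

end Ker

end Cfsg.Agent.H876.D3
end

-- part: H876/D3/PairBound
section
/-!
# The kernel `j(G_2) ^ θ` on pairs: the bound (helper876)

* `Rk.add_sum`; `pow_red'`; `ln_ell`;
* **`pair_bound`** : `|I| ^ 2 + |I| (|I| - 1) ≤ dim V`, `I = Ib p (red q θ)`.
-/

set_option autoImplicit false
set_option linter.unusedSectionVars false

namespace Cfsg.Agent.H876.D3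

open Cfsg Cfsg.Geo Matrix
open LieClassical.HermBasic LieClassical.HermSiegel Cfsg.Agent.TitsThree.KSideU Cfsg.Agent.TitsThree.KSideUDesc
  Cfsg.Agent.TitsThree.WBridge Cfsg.Agent.TitsThree.SiegelGen Cfsg.Agent.TitsThree.Siegel Cfsg.Agent.H61.SUCross
  Cfsg.Agent.TitsThree.WittFrame
open Cfsg.Agent.Phan (fixedField mem_fixedField card_fixedField)

section

variable {k : Type*} [Field k] {X Y X' Y' : Type*} [Fintype X] [Fintype Y] [Fintype X'] [Fintype Y']

/-- block triangular kernels -/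
theorem Rk.add_sum {κ : X ⊕ X' → Y ⊕ Y' → k} {a : ℕ} (h : Rk (fun x y => κ (Sum.inl x) (Sum.inl y)) a)
    {β : Type*} [Fintype β] [DecidableEq β] (P' : β → X' → k) (Q' : β → Y' → k)
    (h' : ∀ i j, bl (fun x y => κ (Sum.inr x) (Sum.inr y)) (P' i) (Q' j) = if i = j then 1 else 0)
    (h0 : ∀ x j, ∑ y, κ (Sum.inl x) (Sum.inr y) * Q' j y = 0) : Rk κ (a + Fintype.card β) := by
  obtain ⟨P, Q, e⟩ := h
  have key := Rk.add_of (κ := κ) (α := Fin a) (β := β) (P := fun i => Sum.elim (P i) 0)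
    (Q := fun i => Sum.elim (Q i) 0) (P' := fun i => Sum.elim 0 (P' i)) (Q' := fun i => Sum.elim 0 (Q' i)) ?_ ?_ ?_
  · rwa [Fintype.card_fin] at key
  · intro i j
    rw [← e]
    simp only [bl, Fintype.sum_sum_type, _root_.Sum.elim_inl, _root_.Sum.elim_inr, _root_.Pi.zero_apply, _root_.MulZeroClass.mul_zero, _root_.Finset.sum_const_zero, _root_.add_zero, _root_.MulZeroClass.zero_mul]
  · intro i j
    rw [← h']
    simp only [bl, Fintype.sum_sum_type, _root_.Sum.elim_inl, _root_.Pi.zero_apply, _root_.MulZeroClass.mul_zero, _root_.Finset.sum_const_zero, _root_.Sum.elim_inr, _root_.zero_add, _root_.MulZeroClass.zero_mul]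
  · intro i j
    simp only [bl, Fintype.sum_sum_type, Sum.elim_inl, Sum.elim_inr, Pi.zero_apply, mul_zero, zero_mul,
      Finset.sum_const_zero, add_zero, zero_add]
    refine Finset.sum_eq_zero fun x _ => ?_
    simp only [mul_assoc]
    rw [← Finset.mul_sum, h0, mul_zero]

end

variable {K : Type} [Field K] [Fintype K] {N q m : ℕ} {hK : Fintype.card K = q ^ 2}

theorem pow_red' (hK : Fintype.card K = q ^ 2) {g : K} (hg : g ^ q = g) {e : ℕ} (he : e ≠ 0) :
    g ^ red q e = g ^ e := by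
  have : Fintype (fixedField hK) := Fintype.ofFinite _
  have h1 := pow_red (E := fixedField hK) he ⟨g, (mem_fixedField hK _).2 hg⟩
  rw [card_E] at h1
  exact congrArg Subtype.val h1

theorem ln_ell (hK : Fintype.card K = q ^ 2) (z : K) : Ln q ![1, 0, 0, z] ![0, -z ^ q, 1, 0] where
  vv := by simp [zero_pow_q hK]
  vw := by simp [zero_pow_q hK, neg_pow_q hK, pow_q_pow_q hK]
  wv := by simp [zero_pow_q hK]
  ww := by simp only [zero_pow_q hK, _root_.Fin.isValue, _root_.Matrix.cons_val_zero, _root_.Matrix.cons_val_one, _root_.MulZeroClass.zero_mul, _root_.MulZeroClass.mul_zero, _root_.add_zero, _root_.Matrix.cons_val, _root_.one_pow, _root_.mul_one]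
  pl_ne := ⟨0, by simp [pl]⟩

section Ker

variable {k : Type*} [Field k] {V : Type*} [AddCommGroup V] [Module k V] [FiniteDimensional k V]
  {j : K →+* k} {θ : Fin m → ℕ} {vv : (Fin m → Fin N → K) → V}
  {ff : (Fin m → Fin N → K) → Module.Dual k V}

theorem exists_c (hK : Fintype.card K = q ^ 2) : ∃ (ε : K) (c : fixedField hK), ε ^ q = -ε ∧ ε ≠ 0 ∧ c ≠ 0 ∧
    (c : K) = -ε ^ 2 := by
  obtain ⟨ε, hε, hε0⟩ := exists_delta hK
  obtain ⟨c, hc⟩ := fan_scalar (hK := hK) hε
  refine ⟨ε, c, hε, hε0, ?_, hc⟩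
  intro h0
  have h1 : (c : K) = 0 := by rw [h0]; rfl
  rw [hc, neg_eq_zero] at h1
  exact hε0 (pow_eq_zero_iff (two_ne_zero)|>.1 h1)

theorem G2_SS {ε : K} (hε : ε ^ q = -ε) {c : fixedField hK} (hc : (c : K) = -ε ^ 2) (x y : fixedField hK × fixedField hK) :
    ∑ b, pl ![1, ε * (x.1 : K), 0, 0] ![0, 0, 1, ε * (x.2 : K)] b *
      pl ![1, ε * (y.1 : K), 0, 0] ![0, 0, 1, ε * (y.2 : K)] b ^ q =
      ((1 + c * (x.1 * y.1) : fixedField hK) : K) * ((1 + c * (x.2 * y.2) : fixedField hK) : K) := by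
  simp only [Fin.sum_univ_six, pl, Matrix.cons_val]
  push_cast
  simp only [mul_one, mul_zero, zero_mul, sub_zero, one_mul, one_pow, zero_pow_q hK, mul_pow, hε, E_q hK, sub_self]
  rw [hc]
  ring

theorem G2_Sl {ε : K} {c : fixedField hK} (hc : (c : K) = -ε ^ 2) (x : fixedField hK × fixedField hK)
    (z : K) : ∑ b, pl ![1, ε * (x.1 : K), 0, 0] ![0, 0, 1, ε * (x.2 : K)] b * pl ![1, 0, 0, z] ![0, -z ^ q, 1, 0] b ^ q =
      1 + (-(c * (x.1 * x.2)) : fixedField hK) * z ^ (q + 1) := by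
  simp only [Fin.sum_univ_six, pl, Matrix.cons_val]
  push_cast
  simp only [mul_one, mul_zero, zero_mul, sub_zero, one_mul, one_pow, zero_sub, zero_pow_q hK, mul_pow,
    neg_pow_q hK, mul_neg, sub_self, add_zero, pow_q_pow_q hK, neg_zero]
  rw [hc]
  ring

theorem G2_ll (hK : Fintype.card K = q ^ 2) (z z' : K) : ∑ b, pl ![1, 0, 0, z] ![0, -z ^ q, 1, 0] b * pl ![1, 0, 0, z'] ![0, -z' ^ q, 1, 0] b ^ q =
      (1 + z * z' ^ q) * (1 + (z * z' ^ q) ^ q) := by
  simp only [Fin.sum_univ_six, pl, Matrix.cons_val]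
  simp only [mul_one, mul_zero, zero_mul, sub_zero, one_mul, one_pow, zero_sub, zero_pow_q hK, mul_pow,
    neg_pow_q hK, mul_neg, _root_.neg_neg, sub_self, add_zero, pow_q_pow_q hK, neg_zero, neg_mul]
  ring

/-- **The bound for the kernel `j(G_2) ^ θ`.** -/
theorem pair_bound (p : ℕ) [hp : Fact p.Prime] [CharP K p] [CharP k p] (hm : 2 ≤ m) (W : WFrame (PU hK N) m)
    (h : IsKer q 2 j θ vv ff) (hθ : ∀ i : Fin m, (i : ℕ) ≠ 1 → θ i = 0) (h1θ : θ ⟨1, by omega⟩ ≠ 0) :
    (Ib p (red q (θ ⟨1, by omega⟩))).card * (Ib p (red q (θ ⟨1, by omega⟩))).card +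
      ((Ib p (red q (θ ⟨1, by omega⟩))).card * (Ib p (red q (θ ⟨1, by omega⟩))).card -
        (Ib p (red q (θ ⟨1, by omega⟩))).card) ≤ Module.finrank k V := by
  classical
  obtain ⟨ε, c, hε, hε0, hc0, hc⟩ := exists_c hK
  have hq2 : 2 ≤ q := two_le_q hK
  have : Fintype (fixedField hK) := Fintype.ofFinite _
  let jE : fixedField hK →+* k := j.comp (fixedField hK).subtype
  set t := θ ⟨1, by omega⟩ with ht
  set e := red q t with he
  set I := Ib p e with hI
  have heq : e ≤ q - 1 := red_le hq2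
  have hlt : ∀ i ∈ I, i ≤ q - 1 := fun i hi => (mem_Ib.1 hi).1.trans heq
  -- the exponents
  have hexp : ∀ i ∈ I, ∀ l ∈ I, i + q * l < Fintype.card K := by
    intro i hi l hl
    have h1 := hlt i hi
    have h2 := hlt l hl
    rw [hK]
    have h3 : q * l ≤ q * (q - 1) := Nat.mul_le_mul_left q h2
    have h4 : q * (q - 1) + q = q ^ 2 := by
      rw [sq, ← Nat.mul_succ, Nat.succ_eq_add_one, Nat.sub_add_cancel (by omega)]
    omega
  have hinj : ∀ i ∈ I, ∀ l ∈ I, ∀ i' ∈ I, ∀ l' ∈ I, i + q * l = i' + q * l' → i = i' ∧ l = l' := by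
    intro i hi l hl i' hi' l' hl' h3
    have h1 := hlt i hi
    have h2 := hlt i' hi'
    have h4 : (i + q * l) % q = (i' + q * l') % q := by rw [h3]
    rw [Nat.add_mul_mod_self_left, Nat.add_mul_mod_self_left, Nat.mod_eq_of_lt (by omega),
      Nat.mod_eq_of_lt (by omega)] at h4
    refine ⟨h4, ?_⟩
    subst h4
    exact Nat.eq_of_mul_eq_mul_left (by omega) (Nat.add_left_cancel h3)
  obtain ⟨A, hA⟩ := exists_dual_pow j j.injective
  obtain ⟨B, hB⟩ := exists_dual_pow (jb hK j) (jb hK j).injective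
  let f : (fixedField hK × fixedField hK) ⊕ K → (Fin 4 → K) × (Fin 4 → K) :=
    Sum.elim (fun x => (![1, ε * (x.1 : K), 0, 0], ![0, 0, 1, ε * (x.2 : K)]))
      (fun z => (![1, 0, 0, z], ![0, -z ^ q, 1, 0]))
  have hf : ∀ x, Ln q (f x).1 (f x).2 := by
    rintro (x | z)
    · exact ln_S hK hε _ _ (E_q hK _) (E_q hK _)
    · exact ln_ell hK z
  let κ : (fixedField hK × fixedField hK) ⊕ K → (fixedField hK × fixedField hK) ⊕ K → k := fun x y =>
    j (∑ b, pl (f x).1 (f x).2 b * pl (f y).1 (f y).2 b ^ q) ^ t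
  have hRk : Rk κ (I.card * I.card + Fintype.card {z : I × I // z.1 ≠ z.2}) := by
    refine Rk.add_sum ?_ (fun z : {z : I × I // z.1 ≠ z.2} => fun x =>
        ((e.choose z.1.1 : k) * (e.choose z.1.2 : k))⁻¹ * A (z.1.1 + q * z.1.2) x)
      (fun z : {z : I × I // z.1 ≠ z.2} => fun x => B (z.1.1 + q * z.1.2) x) ?_ ?_
    · have h1 := Rk_pow (p := p) jE hc0 h1θ
      rw [card_E] at h1
      refine (h1.kron h1).congr fun x y => ?_
      change j (∑ b, pl ![1, ε * (x.1 : K), 0, 0] ![0, 0, 1, ε * (x.2 : K)] b *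
        pl ![1, ε * (y.1 : K), 0, 0] ![0, 0, 1, ε * (y.2 : K)] b ^ q) ^ t = _
      rw [G2_SS hε hc, map_mul, mul_pow]
      rfl
    · rintro ⟨⟨i, l⟩, hil⟩ ⟨⟨i', l'⟩, hil'⟩
      have hker : ∀ z z' : K, κ (Sum.inr z) (Sum.inr z') = ∑ a ∈ I ×ˢ I,
          ((e.choose a.1 : k) * (e.choose a.2 : k)) * (j z ^ (a.1 + q * a.2) * jb hK j z' ^ (a.1 + q * a.2)) := by
        intro z z'
        change j (∑ b, pl ![1, 0, 0, z] ![0, -z ^ q, 1, 0] b * pl ![1, 0, 0, z'] ![0, -z' ^ q, 1, 0] b ^ q) ^ t = _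
        rw [G2_ll hK]
        have hg : ((1 + z * z' ^ q) * (1 + (z * z' ^ q) ^ q)) ^ q = (1 + z * z' ^ q) * (1 + (z * z' ^ q) ^ q) := by
          rw [mul_pow, add_pow_q hK, add_pow_q hK, one_pow, pow_q_pow_q hK]
          ring
        rw [← map_pow, ← pow_red' hK hg h1θ, ← he, map_pow, map_mul, mul_pow, map_add, map_add, map_one,
          add_pow_Ib (p := p), add_pow_Ib (p := p), Finset.sum_mul_sum, ← Finset.sum_product']
        refine Finset.sum_congr rfl fun a _ => ?_
        have e1 : j (z * z' ^ q) = j z * jb hK j z' := by rw [map_mul, jb_apply]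
        have e2 : j ((z * z' ^ q) ^ q) = j z ^ q * jb hK j z' ^ q := by rw [map_pow, e1, mul_pow]
        rw [one_pow, one_pow, e1, e2, one_mul, one_mul, mul_pow, mul_pow, ← pow_mul, ← pow_mul, pow_add, pow_add]
        ring
      have hbl : bl (fun x y => κ (Sum.inr x) (Sum.inr y)) (fun x =>
          ((e.choose i : k) * (e.choose l : k))⁻¹ * A ((i : ℕ) + q * l) x) (fun x => B ((i' : ℕ) + q * l') x) =
          ∑ a ∈ I ×ˢ I, ((e.choose i : k) * (e.choose l : k))⁻¹ * ((e.choose a.1 : k) * (e.choose a.2 : k)) *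
            ((∑ z, A ((i : ℕ) + q * l) z * j z ^ (a.1 + q * a.2)) *
              ∑ z, B ((i' : ℕ) + q * l') z * jb hK j z ^ (a.1 + q * a.2)) := by
        simp only [hker]
        rw [bl_kernel_sum]
        refine Finset.sum_congr rfl fun a _ => ?_
        unfold bl
        rw [Finset.sum_mul_sum, Finset.mul_sum]
        refine Finset.sum_congr rfl fun x _ => ?_
        rw [Finset.mul_sum]
        refine Finset.sum_congr rfl fun y _ => by ring
      refine hbl.trans ?_
      have hterm : ∀ a ∈ I ×ˢ I, ((e.choose i : k) * (e.choose l : k))⁻¹ * ((e.choose a.1 : k) * (e.choose a.2 : k)) *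
            ((∑ z, A ((i : ℕ) + q * l) z * j z ^ (a.1 + q * a.2)) *
              ∑ z, B ((i' : ℕ) + q * l') z * jb hK j z ^ (a.1 + q * a.2)) =
          if a = ((i : ℕ), (l : ℕ)) ∧ a = ((i' : ℕ), (l' : ℕ)) then 1 else 0 := by
        intro a ha
        have ha' := Finset.mem_product.1 ha
        rw [hA _ (hexp _ i.2 _ l.2) _ (hexp _ ha'.1 _ ha'.2), hB _ (hexp _ i'.2 _ l'.2) _ (hexp _ ha'.1 _ ha'.2)]
        have e1 : ((i : ℕ) + q * l = a.1 + q * a.2) ↔ a = ((i : ℕ), (l : ℕ)) := by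
          constructor
          · intro h3
            have h4 := hinj _ i.2 _ l.2 _ ha'.1 _ ha'.2 h3
            exact Prod.ext h4.1.symm h4.2.symm
          · intro h3
            rw [h3]
        have e2 : ((i' : ℕ) + q * l' = a.1 + q * a.2) ↔ a = ((i' : ℕ), (l' : ℕ)) := by
          constructor
          · intro h3
            have h4 := hinj _ i'.2 _ l'.2 _ ha'.1 _ ha'.2 h3
            exact Prod.ext h4.1.symm h4.2.symm
          · intro h3
            rw [h3]
        simp only [e1, e2]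
        by_cases h1 : a = ((i : ℕ), (l : ℕ))
        · by_cases h2 : a = ((i' : ℕ), (l' : ℕ))
          · rw [if_pos h1, if_pos h2, if_pos ⟨h1, h2⟩, mul_one, mul_one, h1]
            exact inv_mul_cancel₀ (mul_ne_zero (choose_ne i.2) (choose_ne l.2))
          · rw [if_neg h2, mul_zero, mul_zero, if_neg (fun h => h2 h.2)]
        · rw [if_neg h1, zero_mul, mul_zero, if_neg (fun h => h1 h.1)]
      rw [Finset.sum_congr rfl hterm]
      by_cases h1 : i = i' ∧ l = l'
      · obtain ⟨rfl, rfl⟩ := h1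
        rw [if_pos rfl]
        simp only [and_self]
        rw [Finset.sum_eq_single ((i : ℕ), (l : ℕ))]
        · rw [if_pos rfl]
        · intro a _ ha
          rw [if_neg ha]
        · intro h2
          exact absurd (Finset.mem_product.2 ⟨i.2, l.2⟩) h2
      · rw [if_neg]
        · refine Finset.sum_eq_zero fun a _ => ?_
          rw [if_neg]
          rintro ⟨h2, h3⟩
          rw [h2] at h3
          exact h1 ⟨Subtype.ext (congrArg Prod.fst h3), Subtype.ext (congrArg Prod.snd h3)⟩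
        · intro h2
          have h3 := congrArg Subtype.val h2
          exact h1 ⟨congrArg Prod.fst h3, congrArg Prod.snd h3⟩
    · rintro x ⟨⟨i, l⟩, hil⟩
      have hker : ∀ z' : K, κ (Sum.inl x) (Sum.inr z') = ∑ a ∈ I,
          ((e.choose a : k) * jE (-(c * (x.1 * x.2))) ^ a) * jb hK j z' ^ (a + q * a) := by
        intro z'
        change j (∑ b, pl ![1, ε * (x.1 : K), 0, 0] ![0, 0, 1, ε * (x.2 : K)] b *
          pl ![1, 0, 0, z'] ![0, -z' ^ q, 1, 0] b ^ q) ^ t = _
        rw [G2_Sl hc]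
        have hN : (z' ^ (q + 1)) ^ q = z' ^ (q + 1) := by
          rw [pow_succ, mul_pow, pow_q_pow_q hK, mul_comm]
        have hg : (1 + ((-(c * (x.1 * x.2)) : fixedField hK) : K) * z' ^ (q + 1)) ^ q =
            1 + ((-(c * (x.1 * x.2)) : fixedField hK) : K) * z' ^ (q + 1) := by
          rw [add_pow_q hK, mul_pow, one_pow, E_q hK, hN]
        rw [← map_pow, ← pow_red' hK hg h1θ, ← he, map_pow, map_add, map_one, add_pow_Ib (p := p)]
        refine Finset.sum_congr rfl fun a _ => ?_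
        have e1 : j (((-(c * (x.1 * x.2)) : fixedField hK) : K) * z' ^ (q + 1)) =
            jE (-(c * (x.1 * x.2))) * jb hK j z' ^ (q + 1) := by
          rw [map_mul, jb_apply, ← map_pow, ← pow_mul, mul_comm q, pow_mul, hN]
          rfl
        rw [one_pow, e1, mul_pow, ← pow_mul, one_mul]
        have e2 : (q + 1) * a = a + q * a := by ring
        rw [e2]
        ring
      simp only [hker, Finset.sum_mul]
      rw [Finset.sum_comm]
      refine Finset.sum_eq_zero fun a ha => ?_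
      have h2 : ∑ z : K, B ((i : ℕ) + q * l) z * jb hK j z ^ (a + q * a) = 0 := by
        rw [hB _ (hexp _ i.2 _ l.2) _ (hexp _ ha _ ha), if_neg]
        intro h3
        have h4 := hinj _ i.2 _ l.2 _ ha _ ha h3
        exact hil (Subtype.ext (h4.1.trans h4.2.symm))
      have h3 : ∀ z : K, ((e.choose a : k) * jE (-(c * (x.1 * x.2))) ^ a) * jb hK j z ^ (a + q * a) *
          B ((i : ℕ) + q * l) z = ((e.choose a : k) * jE (-(c * (x.1 * x.2))) ^ a) *
            (B ((i : ℕ) + q * l) z * jb hK j z ^ (a + q * a)) := fun z => by ring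
      simp only [h3]
      rw [← Finset.mul_sum, h2, mul_zero]
  have hcard : Fintype.card {z : I × I // z.1 ≠ z.2} = I.card * I.card - I.card := by
    rw [← Finset.offDiag_card, Fintype.card_subtype, ← Fintype.card_coe I.offDiag]
    rw [← Fintype.card_subtype]
    refine Fintype.card_congr
      { toFun := fun z => ⟨(z.1.1.1, z.1.2.1), Finset.mem_offDiag.2 ⟨z.1.1.2, z.1.2.2, fun h => z.2 (Subtype.ext h)⟩⟩
        invFun := fun z => ⟨(⟨z.1.1, (Finset.mem_offDiag.1 z.2).1⟩, ⟨z.1.2, (Finset.mem_offDiag.1 z.2).2.1⟩),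
          fun h => (Finset.mem_offDiag.1 z.2).2.2 (congrArg Subtype.val h)⟩
        left_inv := fun z => rfl
        right_inv := fun z => rfl }
  rw [hcard] at hRk
  refine h.le_finrank (f := fun x => pr2 (vec W hm true (f x).1) (vec W hm true (f x).2))
    (g := fun x => pr2 (vec W hm false (f x).1) (vec W hm false (f x).2))
    (fun x => (hf x).pfr W hm true) (fun x => (hf x).pfr W hm false) (fun x y => ?_) hRk
  rw [prod_two hm hθ, G2_pl' W hm]

end Ker

end Cfsg.Agent.H876.D3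
end

private theorem dce_3f40bddf4785 : _root_.True := by
  try have : _root_.True := by simp only [_root_.Cfsg.Agent.H876.D3.jb.congr_simp]
  try have : _root_.True := by simp only [_root_.Cfsg.Agent.H876.D3.vec.congr_simp]
  try have : _root_.True := by simp only [_root_.Cfsg.Agent.H876.D3.pl.eq_1]
  exact _root_.True.intro
end

-- part: H876/D3/Natural_mg
section
prune_inst 0x4206404040002000018059001001c06ae00009200480400ac0109400c80ac0080010861b4301101488690cc4038004811000000420000000a000400011900a0808002043000a10c440089800080000000000000000000000000000000000004000000000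
set_option linter.all false
open scoped Cfsg.Agent.FastGrp

-- part: H876/D3/Natural
section
/-!
# The natural module (helper876)

* `iso_span` : the isotropic vectors span; `natural` : `θ 0 = p ^ a`, `θ i = 0` for `i > 0` give `dim V = N`.
-/

set_option autoImplicit false
set_option linter.unusedSectionVars false

namespace Cfsg.Agent.H876.D3

open Cfsg Cfsg.Geo Matrix
open LieClassical.HermBasic LieClassical.HermSiegel Cfsg.Agent.TitsThree.KSideU Cfsg.Agent.TitsThree.KSideUDesc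
  Cfsg.Agent.TitsThree.WBridge Cfsg.Agent.TitsThree.SiegelGen Cfsg.Agent.TitsThree.Siegel Cfsg.Agent.H61.SUCross
  Cfsg.Agent.TitsThree.WittFrame
open Cfsg.Agent.Phan (fixedField mem_fixedField card_fixedField)

variable {K : Type} [Field K] [Fintype K] {N q m : ℕ} {hK : Fintype.card K = q ^ 2}

/-- the isotropic vectors span -/
theorem iso_span (hm : 0 < m) (W : WFrame (PU hK N) m) {L : Submodule K (Fin N → K)}
    (hL : ∀ x, x ≠ 0 → hermForm N K q x x = 0 → x ∈ L) : L = ⊤ := by
  have hL' : ∀ x, hermForm N K q x x = 0 → x ∈ L := by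
    intro x hx
    by_cases h0 : x = 0
    · rw [h0]; exact zero_mem _
    · exact hL x h0 hx
  rw [eq_top_iff]
  intro v _
  obtain ⟨a, b, w, hw, rfl⟩ := W.span v
  have hw0 : w ∈ L := by
    have h1 : hermForm N K q w w ^ q = hermForm N K q w w := (herm_swap hK w w).symm
    obtain ⟨μ, hμ⟩ := exists_trace_eq hK (c := -hermForm N K q w w) (by rw [neg_pow_q hK, h1])
    have h2 : hermForm N K q w (W.e ⟨0, hm⟩) = 0 := W.V0e w hw _
    have h3 : hermForm N K q w (W.f ⟨0, hm⟩) = 0 := W.V0f w hw _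
    have h2' : hermForm N K q (W.e ⟨0, hm⟩) w = 0 := by rw [herm_swap hK w, h2, zero_pow_q hK]
    have h3' : hermForm N K q (W.f ⟨0, hm⟩) w = 0 := by rw [herm_swap hK w, h3, zero_pow_q hK]
    have h4 : w + (W.e ⟨0, hm⟩ + μ • W.f ⟨0, hm⟩) ∈ L := by
      refine hL' _ ?_
      simp only [herm_add_left, herm_add_right hK, herm_smul_left, herm_smul_right, h2, h3, h2', h3', h_ee, h_ff,
        h_ef, h_fe, if_true]
      linear_combination hμ
    have h5 : W.e ⟨0, hm⟩ + μ • W.f ⟨0, hm⟩ ∈ L :=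
      add_mem (hL' _ (h_ee W _ _)) (Submodule.smul_mem _ _ (hL' _ (h_ff W _ _)))
    exact (Submodule.add_mem_iff_left _ h5).1 h4
  refine add_mem (add_mem ?_ ?_) hw0
  · exact Submodule.sum_mem _ fun i _ => Submodule.smul_mem _ _ (hL' _ (h_ee W _ _))
  · exact Submodule.sum_mem _ fun i _ => Submodule.smul_mem _ _ (hL' _ (h_ff W _ _))

/-- a semilinear function vanishing on the isotropic vectors -/
theorem semi_zero (hm : 0 < m) (W : WFrame (PU hK N) m) {k : Type*} [Field k] (j : K →+* k) (c : Fin N → k)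
    (h : ∀ x, x ≠ 0 → hermForm N K q x x = 0 → ∑ a, j (x a) * c a = 0) : c = 0 := by
  classical
  let L : Submodule K (Fin N → K) :=
    { carrier := {x | ∑ a, j (x a) * c a = 0}
      zero_mem' := by simp
      add_mem' := fun {x y} hx hy => by
        change ∑ a, j ((x + y) a) * c a = 0
        simp only [Pi.add_apply, map_add, add_mul, Finset.sum_add_distrib]
        rw [hx, hy, add_zero]
      smul_mem' := fun b x hx => by
        change ∑ a, j ((b • x) a) * c a = 0
        have h1 : ∑ a, j ((b • x) a) * c a = j b * ∑ a, j (x a) * c a := by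
          rw [Finset.mul_sum]
          exact Finset.sum_congr rfl fun a _ => by rw [Pi.smul_apply, smul_eq_mul, map_mul]; ring
        rw [h1, hx, mul_zero] }
  have hL : L = ⊤ := iso_span hm W fun x h0 hx => h x h0 hx
  ext a
  have h1 : Pi.single a (1 : K) ∈ L := by rw [hL]; trivial
  have h2 : ∑ b, j ((Pi.single a (1 : K) : Fin N → K) b) * c b = 0 := h1
  rw [Finset.sum_eq_single a] at h2
  · rwa [Pi.single_eq_same, map_one, one_mul] at h2
  · intro b _ hb
    rw [Pi.single_eq_of_ne hb, map_zero, zero_mul]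
  · intro h3; exact absurd (Finset.mem_univ _) h3

section Ker

variable {k : Type*} [Field k] {V : Type*} [AddCommGroup V] [Module k V] [FiniteDimensional k V]
  {j : K →+* k} {θ : Fin m → ℕ} {vv : (Fin m → Fin N → K) → V}
  {ff : (Fin m → Fin N → K) → Module.Dual k V}

theorem natural_one (hm : 0 < m) (W : WFrame (PU hK N) m) (h : IsKer q 1 j θ vv ff)
    (hθ : ∀ i : Fin m, 1 ≤ (i : ℕ) → θ i = 0) (h0 : θ ⟨0, hm⟩ = 1) : Module.finrank k V = N := by
  classical
  have hker : ∀ u u' : Fin m → Fin N → K, ∏ i, j (Gr q i u u') ^ θ i =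
      ∑ a : Fin N, j (u ⟨0, hm⟩ a) * jb hK j (u' ⟨0, hm⟩ a) := by
    intro u u'
    rw [prod_one hm hθ, h0, pow_one]
    unfold hermForm
    rw [map_sum]
    exact Finset.sum_congr rfl fun a _ => by rw [map_mul, jb_apply]
  refine le_antisymm ?_ ?_
  · have h1 := h.finrank_le (α := Fin N) (fun u a => j (u ⟨0, hm⟩ a)) (fun u a => jb hK j (u ⟨0, hm⟩ a))
      (fun u u' _ _ => hker u u')
    rwa [Fintype.card_fin] at h1
  · have : Fintype {x : Fin N → K // x ≠ 0 ∧ hermForm N K q x x = 0} := Fintype.ofFinite _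
    have h1 := h.sylvester (X := {x : Fin N → K // x ≠ 0 ∧ hermForm N K q x x = 0})
      (Y := {x : Fin N → K // x ≠ 0 ∧ hermForm N K q x x = 0}) (α := Fin N) (f := fun x _ => x.1)
      (g := fun x _ => x.1) (fun x => pfr_one hm x.2.2 x.2.1) (fun x => pfr_one hm x.2.2 x.2.1)
      (F := fun x a => j (x.1 a)) (G := fun x a => jb hK j (x.1 a)) (fun x y => hker _ _) (S := ∅) (S' := ∅)
      (fun c hc _ => semi_zero hm W j c fun x h0 hx => hc ⟨x, h0, hx⟩)
      (fun c hc _ => semi_zero hm W (jb hK j) c fun x h0 hx => hc ⟨x, h0, hx⟩)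
    simpa using h1

theorem natural (p : ℕ) [hp : Fact p.Prime] [CharP K p] (hm : 0 < m) (W : WFrame (PU hK N) m)
    (h : IsKer q 1 j θ vv ff) (hθ : ∀ i : Fin m, 1 ≤ (i : ℕ) → θ i = 0) {a : ℕ} (h0 : θ ⟨0, hm⟩ = p ^ a) :
    Module.finrank k V = N := by
  have h' := h.twist a (θ' := fun i => if (i : ℕ) = 0 then 1 else 0) (fun i => by
    by_cases hi : (i : ℕ) = 0
    · have : i = ⟨0, by omega⟩ := Fin.ext hi
      rw [this, h0, if_pos rfl, mul_one]
    · rw [hθ i (by omega), if_neg hi, mul_zero])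
  exact natural_one hm W h' (fun i hi => if_neg (by omega)) (by simp)

end Ker

end Cfsg.Agent.H876.D3
end

-- part: H876/D3/NodeOneFour
section
/-!
# The second node for `SU_4(q)`; both nodes: `8 ≤ dim V` (helper876)

* `node1_four` : `N = 4`, `θ 0 = 0`: `dim V = 6` or `15 ≤ dim V`;
* `both_eight` : `θ 0 ≠ 0 ≠ θ 1` (`m = 2`): `8 ≤ dim V`.
-/

set_option autoImplicit false
set_option linter.unusedSectionVars false

namespace Cfsg.Agent.H876.D3

open Cfsg Cfsg.Geo Matrix
open LieClassical.HermBasic LieClassical.HermSiegel Cfsg.Agent.TitsThree.KSideU Cfsg.Agent.TitsThree.KSideUDesc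
  Cfsg.Agent.TitsThree.WBridge Cfsg.Agent.TitsThree.SiegelGen Cfsg.Agent.TitsThree.Siegel Cfsg.Agent.H61.SUCross
  Cfsg.Agent.TitsThree.WittFrame
open Cfsg.Agent.Phan (fixedField mem_fixedField card_fixedField)

variable {K : Type} [Field K] [Fintype K] {N q m : ℕ} {hK : Fintype.card K = q ^ 2}

section Ker

variable {k : Type*} [Field k] {V : Type*} [AddCommGroup V] [Module k V] [FiniteDimensional k V]
  {j : K →+* k} {θ : Fin m → ℕ} {vv : (Fin m → Fin N → K) → V}
  {ff : (Fin m → Fin N → K) → Module.Dual k V}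

/-- standard Plücker coordinates in dimension `4` -/
def plF (x y : Fin 4 → K) : Fin 6 → K :=
  ![x 0 * y 1 - x 1 * y 0, x 0 * y 2 - x 2 * y 0, x 0 * y 3 - x 3 * y 0, x 1 * y 2 - x 2 * y 1,
    x 1 * y 3 - x 3 * y 1, x 2 * y 3 - x 3 * y 2]

theorem le_six {vv : (Fin m → Fin 4 → K) → V} {ff : (Fin m → Fin 4 → K) → Module.Dual k V}
    (hK : Fintype.card K = q ^ 2) (hm : 2 ≤ m) (h : IsKer q 2 j θ vv ff)
    (hθ : ∀ i : Fin m, (i : ℕ) ≠ 1 → θ i = 0) (h1 : θ ⟨1, by omega⟩ = 1) : Module.finrank k V ≤ 6 := by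
  have hs : ∀ a b : K, (a - b) ^ q = a ^ q - b ^ q := fun a b => by
    rw [sub_eq_add_neg, add_pow_q hK, neg_pow_q hK, ← sub_eq_add_neg]
  have h2 := h.finrank_le (α := Fin 6) (fun u b => j (plF (u ⟨0, by omega⟩) (u ⟨1, by omega⟩) b))
    (fun u b => jb hK j (plF (u ⟨0, by omega⟩) (u ⟨1, by omega⟩) b)) (fun u u' _ _ => by
      rw [prod_two hm hθ, h1, pow_one, Gr_one hm]
      simp only [jb_apply]
      simp only [← map_mul]
      rw [← map_sum]
      congr 1
      unfold hermForm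
      simp only [Fin.sum_univ_six, Fin.sum_univ_four, plF, Matrix.cons_val]
      simp only [hs, mul_pow]
      ring)
  rwa [Fintype.card_fin] at h2

/-- **The second node, `N = 4`.** -/
theorem node1_four {vv : (Fin m → Fin 4 → K) → V} {ff : (Fin m → Fin 4 → K) → Module.Dual k V}
    (p : ℕ) [hp : Fact p.Prime] [CharP K p] [CharP k p] (hm : 2 ≤ m) (W : WFrame (PU hK 4) m)
    (h : IsKer q 2 j θ vv ff) (hθ : ∀ i : Fin m, (i : ℕ) ≠ 1 → θ i = 0) (h1θ : θ ⟨1, by omega⟩ ≠ 0)
    (hle : θ ⟨1, by omega⟩ ≤ q - 1) : Module.finrank k V = 6 ∨ 15 ≤ Module.finrank k V := by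
  have h1 := pair_bound p hm W h hθ h1θ
  rw [red_eq h1θ hle] at h1
  set t := θ ⟨1, by omega⟩ with ht
  have h2 := two_le_card_Ib (p := p) h1θ
  by_cases h3 : 3 ≤ (Ib p t).card
  · right
    refine le_trans ?_ h1
    obtain ⟨n, hn⟩ : ∃ n, (Ib p t).card = n + 3 := ⟨(Ib p t).card - 3, by omega⟩
    rw [hn]
    have e1 : (n + 3) * (n + 3) = n * n + 6 * n + 9 := by ring
    have e2 : 0 ≤ n * n := Nat.zero_le _
    omega
  · left
    have h4 : (Ib p t).card = 2 := by omega
    rw [h4] at h1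
    refine le_antisymm ?_ (by omega)
    have h5 : ∃ a, t = p ^ a := by
      rcases Ib_cases (p := p) h1θ with h5 | ⟨h5, -⟩ | ⟨h5, -⟩ | h5
      · exact h5
      all_goals omega
    obtain ⟨a, ha⟩ := h5
    have h' := h.twist a (θ' := fun i => if (i : ℕ) = 1 then 1 else 0) (fun i => by
      by_cases hi : (i : ℕ) = 1
      · have : i = ⟨1, by omega⟩ := Fin.ext hi
        rw [this, ← ht, ha, if_pos rfl, mul_one]
      · rw [hθ i hi, if_neg hi, mul_zero])
    exact le_six hK hm h' (fun i hi => if_neg hi) (by simp)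

theorem prod_both (hm : 2 ≤ m) (hθ : ∀ i : Fin m, 2 ≤ (i : ℕ) → θ i = 0) (u u' : Fin m → Fin N → K) :
    ∏ i, j (Gr q i u u') ^ θ i = j (Gr q ⟨0, by omega⟩ u u') ^ θ ⟨0, by omega⟩ *
      j (Gr q ⟨1, by omega⟩ u u') ^ θ ⟨1, by omega⟩ := by
  classical
  have hne : (⟨0, by omega⟩ : Fin m) ≠ ⟨1, by omega⟩ := fun h => absurd (congrArg Fin.val h) (by simp)
  rw [← Finset.prod_pair (f := fun i => j (Gr q i u u') ^ θ i) hne]
  refine (Finset.prod_subset (Finset.subset_univ _) fun i _ hi => ?_).symm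
  rw [hθ i, pow_zero]
  rw [Finset.mem_insert, Finset.mem_singleton, not_or] at hi
  have h1 : (i : ℕ) ≠ 0 := fun h => hi.1 (Fin.ext h)
  have h2 : (i : ℕ) ≠ 1 := fun h => hi.2 (Fin.ext h)
  omega

/-- **Both nodes.** -/
theorem both_eight (hm : 2 ≤ m) (W : WFrame (PU hK N) m)
    (h : IsKer q 2 j θ vv ff) (hθ : ∀ i : Fin m, 2 ≤ (i : ℕ) → θ i = 0) (h0 : θ ⟨0, by omega⟩ ≠ 0)
    (h1 : θ ⟨1, by omega⟩ ≠ 0) : 8 ≤ Module.finrank k V := by
  classical
  let i0 : Fin m := ⟨0, by omega⟩
  let i1 : Fin m := ⟨1, by omega⟩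
  have hne : i0 ≠ i1 := fun h => absurd (congrArg Fin.val h) (by simp [i0, i1])
  let ps : Bool → Fin m := fun s => if s then i0 else i1
  have hps : ∀ s s', ps s = ps s' ↔ s = s' := by
    intro s s'
    cases s <;> cases s' <;> simp [ps, hne, Ne.symm hne]
  let fl : Bool → Bool × Bool × Bool → Fin m → Fin N → K := fun c x =>
    pr2 ((toFrame W).b (ps x.1, x.2.1 ^^ c)) ((toFrame W).b (ps (!x.1), x.2.2 ^^ c))
  have hfr : ∀ c x, PFr q 2 (fl c x) := by
    rintro c ⟨s, a, b⟩
    refine pfr_two hm ?_ ?_ ?_ ?_ ?_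
    · rw [hb_all, if_neg (by simp)]
    · rw [hb_all, if_neg (by rw [hps]; simp)]
    · rw [hb_all, if_neg (by rw [hps]; simp)]
    · rw [hb_all, if_neg (by simp)]
    · intro x y hxy
      have e1 : hermForm N K q (x • (toFrame W).b (ps s, a ^^ c) + y • (toFrame W).b (ps (!s), b ^^ c))
          ((toFrame W).b (ps s, !(a ^^ c))) = 0 := by rw [hxy]; exact herm_zero_left _
      have e2 : hermForm N K q (x • (toFrame W).b (ps s, a ^^ c) + y • (toFrame W).b (ps (!s), b ^^ c))
          ((toFrame W).b (ps (!s), !(b ^^ c))) = 0 := by rw [hxy]; exact herm_zero_left _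
      rw [herm_add_left, herm_smul_left, herm_smul_left, hb_all, hb_all] at e1 e2
      rw [if_pos ⟨rfl, rfl⟩, if_neg (by rw [hps]; simp)] at e1
      rw [if_neg (by rw [hps]; simp), if_pos ⟨rfl, rfl⟩] at e2
      constructor
      · linear_combination e1
      · linear_combination e2
  have hRk : Rk (fun x y : Bool × Bool × Bool => if x = y then (1 : k) else 0) 8 := by
    have h2 := Rk.mk (κ := fun x y : Bool × Bool × Bool => if x = y then (1 : k) else 0)
      (α := Bool × Bool × Bool) (fun a => Pi.single a 1) (fun a => Pi.single a 1) (fun a b => by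
        rw [bl_single, one_mul, mul_one])
    exact h2
  refine h.le_finrank (f := fl false) (g := fl true) (hfr _) (hfr _) (fun x y => ?_) hRk
  rw [prod_both hm hθ, Gr_zero (by omega), Gr_one hm]
  obtain ⟨s, a, b⟩ := x
  obtain ⟨s', a', b'⟩ := y
  have e1 : ∀ x y : Fin N → K, pr2 (m := m) x y ⟨0, by omega⟩ = x := fun x y => rfl
  have e2 : ∀ x y : Fin N → K, pr2 (m := m) x y ⟨1, by omega⟩ = y := fun x y => rfl
  simp only [fl, e1, e2, hb_all, hps, Bool.xor_false, Bool.xor_true]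
  cases s <;> cases a <;> cases b <;> cases s' <;> cases a' <;> cases b' <;> simp [h0, h1]

end Ker

end Cfsg.Agent.H876.D3
end

-- part: H151/D3/Setup
section
/-!
# `PSU(N, K)` in the defining characteristic: the kernel of the representation (helper151)

* **`setup`** : the input for the assembly of the low dimensions (helper876).
-/

set_option autoImplicit false
set_option linter.unusedSectionVars false
set_option linter.style.haveILetI false

namespace Cfsg.Agent.H151.D3

open CoxeterSystem Cfsg.Agent.ChevalleyStructure.CoxeterGeom Cfsg.Agent.Tits.Roots Cfsg.Agent.Nodes.TypeC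
open Cfsg.Agent.Nodes.Comb Cfsg.Agent.Nodes.Reps Cfsg.Agent.Nodes.WittRoot Cfsg.Agent.Nodes.BNOf
open Cfsg.Agent.Nodes.WittRGD Cfsg.Agent.Nodes.RGDLib Cfsg.Agent.Nodes.WittAll Cfsg.Agent.Nodes
open Cfsg.Agent.TitsThree Cfsg.Agent.TitsThree.Siegel Cfsg.Agent.TitsThree.WittFrame
  Cfsg.Agent.TitsThree.WittWeyl Cfsg.Agent.TitsThree.FrameCN Cfsg.Agent.H905.Md
  Cfsg.Agent.Nodes.StabComb Cfsg.Agent.Tits.Core
open Cfsg Cfsg.Geo Cfsg.Agent.H876.D3 Cfsg.Agent.H911 Cfsg.Agent.H915.LD
open LieClassical.HermBasic Cfsg.Agent.TitsThree.KSideU Cfsg.Agent.TitsThree.KSideUDesc Cfsg.Agent.Nodes.WittU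
  Cfsg.Agent.TitsThree.WBridge Cfsg.Agent.TitsThree.SiegelGen Cfsg.Agent.H61.SUCross Cfsg.Agent.H61.SUNode
open Cfsg.Agent.KFacts.MulOdd.Inst (Lv)
open Cfsg.Agent.Omega.CR Cfsg.Agent.Omega.FOne.Lift.Sd Cfsg.Agent.Nodes.Bruhat Cfsg.Agent.Nodes.OppDec
open scoped MatrixGroups

universe u

/-- an embedding of a finite field in an algebraically closed field of the same characteristic -/
theorem exists_emb (p : ℕ) [Fact p.Prime] (K : Type) [Field K] [Finite K] [CharP K p] (k : Type*) [Field k]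
    [IsAlgClosed k] [CharP k p] : Nonempty (K →+* k) := by
  letI : Algebra (ZMod p) K := ZMod.algebra K p
  letI : Algebra (ZMod p) k := ZMod.algebra k p
  haveI : Algebra.IsAlgebraic (ZMod p) K := Algebra.IsAlgebraic.of_finite _ _
  exact ⟨(IsAlgClosed.lift (R := ZMod p) (S := K) (M := k)).toRingHom⟩

theorem exists_kind' {K : Type} [Field K] [Fintype K] {N q : ℕ} (hK : Fintype.card K = q ^ 2) (hN : 4 ≤ N) :
    ∃ (m : ℕ) (W : WFrame (PU hK N) m), 2 ≤ m ∧ Kind W ∧ (W.V0 = ⊥ → N = 2 * m) ∧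
      (W.V0 ≠ ⊥ → N = 2 * m + 1) := by
  obtain ⟨m, hm⟩ : ∃ m, N = 2 * m ∨ N = 2 * m + 1 := ⟨N / 2, by omega⟩
  rcases hm with hm | hm
  · obtain ⟨W, hW⟩ := exists_wframe_even hK hm
    exact ⟨m, W, by omega, Or.inl hW, fun _ => hm, fun h => absurd hW h⟩
  · obtain ⟨W, d, hd, hW⟩ := exists_wframe_odd hK hm
    refine ⟨m, W, by omega, Or.inr ⟨d, hd, hW⟩, fun h => ?_, fun _ => hm⟩
    exfalso
    rw [h] at hW
    have h1 : d ∈ Submodule.span K {d} := Submodule.mem_span_singleton_self d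
    rw [← hW, Submodule.mem_bot] at h1
    rw [h1] at hd
    have h2 : hermForm N K q 0 0 = 0 := HForm.zero_left (HU hK N) _
    rw [h2] at hd
    exact zero_ne_one hd

variable {F : Type u} [Field F] [Finite F] {ι : Type} [Fintype ι] [DecidableEq ι] {P : Subgroup (GL ι F)}

/-- the traces are fixed by `x ↦ x ^ q` if the character is -/
theorem fr_of_coef (p : ℕ) [Fact p.Prime] [CharP F p] {K : Type} [Field K] [Fintype K] [CharP K p] {N q : ℕ}
    (hN : 3 ≤ N) (hK : Fintype.card K = q ^ 2) (hP : ActsAbsolutelyIrreducibly (matrixSet P)) [Nonempty ι]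
    {m : ℕ} (hm : 0 < m) {W : WFrame (PU hK N) m} (hW : Kind W) {φ : SU N K q →* GL ι F} (hφ : φ.range = P)
    {a : ℕ} {c : ι → AlgebraicClosure F} (hc0 : c ≠ 0)
    (hc : c ∈ fx (lin (acRep φ)) (RGD.Sup (WittModel.X (modelSU hK hN W))
        (RGD.Pos (CoxeterMatrix.B m).toCoxeterSystem (isCartan m)))) {χ : SU N K q → AlgebraicClosure F}
    (hχ : ∀ t ∈ WittModel.T (modelSU hK hN W), lin (acRep φ) t c = χ t • c)
    (h : ∀ t ∈ WittModel.T (modelSU hK hN W), χ t ^ p ^ a = χ t) : Fr P (p ^ a) := by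
  have hchar : CharP (AlgebraicClosure F) p := charP_of_injective_algebraMap (algebraMap F _).injective p
  obtain ⟨p0, hp0, -⟩ := exists_adm hK W
  have hA : AmbT (toFrame W) p (modelSU hK hN W).I := AmbT.of_amb (amb_U hK W) p
  haveI : Finite (CoxeterMatrix.B m).Group := finite_W (CoxeterMatrix.B m).toCoxeterSystem
  have R := rgdC_model (modelSU hK hN W) hA hp0 (CoxeterMatrix.B m).toCoxeterSystem
  have hG : GG (CoxeterMatrix.B m).toCoxeterSystem (isCartan m) (WittModel.T (modelSU hK hN W))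
      (WittModel.X (modelSU hK hN W)) = ⊤ := gg_top (WittModel.G1_eq_top _ hm _)
  have hT := modelT_comm (M := modelSU hK hN W) hA (kd_su hW)
  have hirr := ac_irr R hG hT hφ hP
  obtain ⟨s, hs⟩ := exists_frob F p a
  intro g hg
  rw [← hφ] at hg
  obtain ⟨y, rfl⟩ := hg
  have h1 := trace_fixed R (acRep φ) hirr hc hc0 hχ s (fun t ht => by rw [hs, h t ht]) (g := y)
    (by rw [hG]; trivial)
  rw [hs, trace_acRep, ← map_pow] at h1
  exact (algebraMap F (AlgebraicClosure F)).injective h1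

/-- the torus: if only the last exponent is not zero then the character has values in the field of order `q` -/
theorem cf_pow {K : Type} [Field K] [Fintype K] {p : ℕ} [Fact p.Prime] [CharP K p] {N q m : ℕ}
    (hN : 3 ≤ N) {hK : Fintype.card K = q ^ 2} {W : WFrame (PU hK N) m} (hm : 0 < m) (hV0 : W.V0 = ⊥)
    {k : Type*} [Field k] (j : K →+* k) {θ : Fin m → ℕ} (hθ : ∀ i : Fin m, (i : ℕ) + 1 < m → θ i = 0)
    {t : SU N K q} (ht : t ∈ WittModel.T (modelSU hK hN W)) : cf W j θ t ^ q = cf W j θ t := by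
  classical
  -- the last leading minor
  have hlast : ∀ t ∈ WittModel.T (modelSU hK hN W), ∀ i : Fin m, ¬ (i : ℕ) + 1 < m →
      dl W i t ^ q = dl W i t := by
    let S : Subgroup (SU N K q) :=
      { carrier := {t | t ∈ WittModel.T (modelSU hK hN W) ∧ ∀ i : Fin m, ¬ (i : ℕ) + 1 < m →
          dl W i t ^ q = dl W i t}
        one_mem' := ⟨one_mem _, fun i _ => by rw [dl_one, one_pow]⟩
        mul_mem' := by
          rintro s t ⟨hs, es⟩ ⟨ht, et⟩
          exact ⟨mul_mem hs ht, fun i hi => by rw [dl_mul_T hN ht, mul_pow, es i hi, et i hi]⟩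
        inv_mem' := by
          rintro t ⟨ht, et⟩
          refine ⟨inv_mem ht, fun i hi => ?_⟩
          have h1 : dl W i t * dl W i t⁻¹ = 1 := by
            rw [← dl_mul_T hN (inv_mem ht), mul_inv_cancel, dl_one]
          have h2 : dl W i t * dl W i t⁻¹ ^ q = 1 := by
            have h3 := congrArg (fun x => x ^ q) h1
            simp only [mul_pow, one_pow] at h3
            rwa [et i hi] at h3
          exact mul_left_cancel₀ (dl_T_ne hN ht i) (h2.trans h1.symm) }
    obtain ⟨p0, hp0, -⟩ := exists_adm hK W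
    have hA : AmbT (toFrame W) p (modelSU hK hN W).I := AmbT.of_amb (amb_U hK W) p
    have : Finite (CoxeterMatrix.B m).Group := finite_W (CoxeterMatrix.B m).toCoxeterSystem
    have R := rgdC_model (modelSU hK hN W) hA hp0 (CoxeterMatrix.B m).toCoxeterSystem
    have h2 := KFacts.MulOdd.Shrink.torus_le R (WittModel.G1_eq_top _ hm _)
    have h3 : KFacts.MulOdd.Shrink.TT (WittModel.T (modelSU hK hN W)) (WittModel.X (modelSU hK hN W)) ≤ S := by
      refine iSup_le fun i => ?_
      intro t ht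
      have ht' : t ∈ Tn hN W i := ht
      refine ⟨(Subgroup.mem_inf.1 ht').1, fun a ha => ?_⟩
      by_cases hai : a = i
      · subst hai
        exact dl_Tn_last hN hV0 ha ht'
      · rw [dl_Tn_ne hN hai ht', one_pow]
    exact fun t ht => (h3 (h2 ht)).2
  unfold cf
  rw [← Finset.prod_pow]
  refine Finset.prod_congr rfl fun i _ => ?_
  by_cases hi : (i : ℕ) + 1 < m
  · rw [hθ i hi, pow_zero, one_pow]
  · rw [← pow_mul, mul_comm, pow_mul, ← map_pow, hlast t ht i hi]

/-- **The kernel of `P`.** -/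
theorem setup (p : ℕ) [Fact p.Prime] [CharP F p] (K : Type) [Field K] [Fintype K] [CharP K p]
    {N q : ℕ} (hN : 4 ≤ N) (hK : Fintype.card K = q ^ 2) (hC : Core P) (Φ : Soc P ≃* PSU N K q) :
    ∃ (m : ℕ) (W : WFrame (PU hK N) m), 2 ≤ m ∧ Kind W ∧ (W.V0 = ⊥ → N = 2 * m) ∧
      (W.V0 ≠ ⊥ → N = 2 * m + 1) ∧ ∃ (k : Type u) (_ : Field k) (_ : IsAlgClosed k) (_ : CharP k p)
      (j : K →+* k) (J : Set (Fin m)) (θ : Fin m → ℕ), Bd W J θ ∧ (∃ i, i ∉ J) ∧
      (∀ r, r ≤ m → 0 < r → (∀ i : Fin m, r ≤ (i : ℕ) → θ i = 0) →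
        ∃ (vv : (Fin m → Fin N → K) → (ι → k)) (ff : (Fin m → Fin N → K) → Module.Dual k (ι → k)),
          IsKer q r j θ vv ff) ∧
      (W.V0 = ⊥ → (∀ i : Fin m, (i : ℕ) + 1 < m → θ i = 0) → SD P) := by
  classical
  have hN3 : 3 ≤ N := by omega
  haveI := hC.nonempty
  obtain ⟨m, W, hm, hW, hev, hodd⟩ := exists_kind' hK hN
  obtain ⟨φ, hφ, -, -⟩ := psu_cover p hC.perfect hN3 hK (by omega) Φ
  haveI hchar : CharP (AlgebraicClosure F) p := charP_of_injective_algebraMap (algebraMap F _).injective p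
  obtain ⟨j⟩ := exists_emb p K (AlgebraicClosure F)
  have hm0 : 0 < m := by omega
  obtain ⟨p0, hp0, -⟩ := exists_adm hK W
  have hA : AmbT (toFrame W) p (modelSU hK hN3 W).I := AmbT.of_amb (amb_U hK W) p
  haveI : Finite (CoxeterMatrix.B m).Group := finite_W (CoxeterMatrix.B m).toCoxeterSystem
  have R := rgdC_model (modelSU hK hN3 W) hA hp0 (CoxeterMatrix.B m).toCoxeterSystem
  have hG : GG (CoxeterMatrix.B m).toCoxeterSystem (isCartan m) (WittModel.T (modelSU hK hN3 W))
      (WittModel.X (modelSU hK hN3 W)) = ⊤ := gg_top (WittModel.G1_eq_top _ hm0 _)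
  have hT := modelT_comm (M := modelSU hK hN3 W) hA (kd_su hW)
  have hirr := ac_irr R hG hT hφ hC.absIrred
  have hirr' : ∀ L : Submodule (AlgebraicClosure F) (ι → AlgebraicClosure F), Ivt (lin (acRep φ)) ⊤ L →
      L = ⊥ ∨ L = ⊤ := by
    intro L hL
    exact hirr L (by rw [hG]; exact hL)
  obtain ⟨J, θ, hB, hJ, v, ψ, hv0, hv, hvT, hψ⟩ := exists_coef hN3 p hW hm0 j (lin (acRep φ)) hirr'
  refine ⟨m, W, hm, hW, hev, hodd, AlgebraicClosure F, inferInstance, inferInstance, hchar, j, J, θ, hB, ?_, ?_, ?_⟩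
  · apply hJ
    rw [Module.finrank_fintype_fun_eq_card]
    have := hC.two_le
    omega
  · intro r hr hr0 hθ
    exact isKer_of_coef hirr' hv0 hψ hr hr0 hθ
  · intro hV0 hθ
    obtain ⟨a, -, ha⟩ := FiniteField.card K p
    obtain ⟨b, hb⟩ : ∃ b, q = p ^ b := by
      have h1 : q ∣ p ^ (a : ℕ) := by rw [← ha, hK, sq]; exact Dvd.intro _ rfl
      obtain ⟨b, -, hb⟩ := (Nat.dvd_prime_pow (Fact.out : p.Prime)).1 h1
      exact ⟨b, hb⟩
    have hfr : Fr P (p ^ b) := fr_of_coef p hN3 hK hC.absIrred hm0 hW hφ hv0 hv hvT (fun t ht => by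
      rw [← hb]
      exact cf_pow (p := p) hN3 hm0 hV0 j hθ ht)
    have hcj : Cj P (p ^ b) := by
      intro g hg
      have h2 := (psu_both p hC.absIrred hC.perfect hN3 hK (by omega) Φ hg).2
      rw [← hb]
      exact h2.symm
    exact SD.of_fr_cj hfr hcj

end Cfsg.Agent.H151.D3
end

private theorem dce_bc50563e6c0f : _root_.True := by
  try have : _root_.True := by simp only [_root_.Cfsg.Agent.H876.D3.plF.eq_1]
  exact _root_.True.intro
end

-- part: H876/D3/FourFive
section
set_option linter.all false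
open scoped Cfsg.Agent.FastGrp

/-!
# `PSU_4(q)` has no module of dimension `5` in its own characteristic (helper876)

* `not_four_five`.
-/

set_option autoImplicit false
set_option linter.unusedSectionVars false

namespace Cfsg.Agent.H876.D3

open Cfsg Cfsg.Geo Matrix
open LieClassical.HermBasic LieClassical.HermSiegel Cfsg.Agent.TitsThree.KSideU Cfsg.Agent.TitsThree.KSideUDesc
  Cfsg.Agent.TitsThree.WBridge Cfsg.Agent.TitsThree.SiegelGen Cfsg.Agent.TitsThree.Siegel Cfsg.Agent.H61.SUCross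
  Cfsg.Agent.TitsThree.WittFrame
open Cfsg.Agent.H915.LD

universe u

section

variable {ι : Type} [Fintype ι] [DecidableEq ι] {F : Type u} [Field F] [Finite F] {P : Subgroup (GL ι F)}

/-- dimensions of the modules of `SU_4(q)`, coarse form -/
theorem four_dims (p : ℕ) [hp : Fact p.Prime] [CharP F p] (K : Type) [Field K] [Fintype K] [CharP K p] {q : ℕ}
    (hK : Fintype.card K = q ^ 2) (hC : Core P) (Φ : Soc P ≃* PSU 4 K q) :
    Fintype.card ι = 4 ∨ Fintype.card ι = 6 ∨ 8 ≤ Fintype.card ι := by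
  obtain ⟨m, W, hm, hW, hev, hodd, k, _, _, _, j, J, θ, hB, ⟨i, hi⟩, hker, -⟩ := H151.D3.setup p K le_rfl hK hC Φ
  have hV0 : W.V0 = ⊥ := by
    by_contra h
    have := hodd h
    omega
  have hm2 : m = 2 := by have := hev hV0; omega
  have hq := two_le_q hK
  have hfin : Module.finrank k (ι → k) = Fintype.card ι := Module.finrank_fintype_fun_eq_card k
  have h2 : ∀ i : Fin m, 2 ≤ (i : ℕ) → θ i = 0 := fun i hi => by have := i.2; omega
  by_cases h0 : θ ⟨0, by omega⟩ = 0
  · have h1 : θ ⟨1, by omega⟩ ≠ 0 := by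
      intro h1
      refine hB.pos i hi ?_
      have := i.2
      rcases Nat.eq_zero_or_pos (i : ℕ) with h3 | h3
      · have : i = ⟨0, by omega⟩ := Fin.ext h3
        rw [this, h0]
      · have : i = ⟨1, by omega⟩ := Fin.ext (by simp only; omega)
        rw [this, h1]
    obtain ⟨vv, ff, h⟩ := hker 2 hm (by omega) h2
    have h3 := node1_four p hm W h (fun i hi => by
      have := i.2
      have : i = ⟨0, by omega⟩ := Fin.ext (by simp only; omega)
      rw [this, h0]) h1 (hB.last hV0 _ (by simp; omega))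
    rw [hfin] at h3
    omega
  · by_cases h1 : θ ⟨1, by omega⟩ = 0
    · have hθ : ∀ i : Fin m, 1 ≤ (i : ℕ) → θ i = 0 := fun i hi => by
        have := i.2
        have : i = ⟨1, by omega⟩ := Fin.ext (by simp only; omega)
        rw [this, h1]
      obtain ⟨vv, ff, h⟩ := hker 1 (by omega) one_pos hθ
      have hlt : θ ⟨0, by omega⟩ < q ^ 2 := by
        have h3 := hB.le ⟨0, by omega⟩
        have h4 : 0 < q ^ 2 := by positivity
        omega
      by_cases h3 : 3 ≤ (Ib p (θ ⟨0, by omega⟩)).card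
      · have h4 := fan_three p hm W h hθ h0 hlt h3
        rw [hfin] at h4
        omega
      · have h5 : ∃ a, θ ⟨0, by omega⟩ = p ^ a := by
          rcases Ib_cases (p := p) h0 with h5 | ⟨h5, -⟩ | ⟨h5, -⟩ | h5
          · exact h5
          all_goals omega
        obtain ⟨a, ha⟩ := h5
        have h4 := natural p (by omega) W h hθ ha
        rw [hfin] at h4
        omega
    · obtain ⟨vv, ff, h⟩ := hker 2 hm (by omega) h2
      have h3 := both_eight hm W h h2 h0 h1
      rw [hfin] at h3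
      omega

/-- **`PSU_4(q)` in dimension `5`.** -/
theorem not_four_five (p : ℕ) [hp : Fact p.Prime] [CharP F p] (K : Type) [Field K] [Fintype K] [CharP K p] {q : ℕ}
    (hn : Fintype.card ι = 5) (hK : Fintype.card K = q ^ 2) (hC : Core P) (Φ : Soc P ≃* PSU 4 K q) : False := by
  have := four_dims p K hK hC Φ
  omega

/-- **`PSU_4(q)` in dimension `7`.** -/
theorem not_four_seven (p : ℕ) [hp : Fact p.Prime] [CharP F p] (K : Type) [Field K] [Fintype K] [CharP K p] {q : ℕ}
    (hn : Fintype.card ι = 7) (hK : Fintype.card K = q ^ 2) (hC : Core P) (Φ : Soc P ≃* PSU 4 K q) : False := by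
  have := four_dims p K hK hC Φ
  omega

end

end Cfsg.Agent.H876.D3
end
end
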